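import Groth.Prelude.Def_Models
import Mathlib.AlgebraicGeometry.Morphisms.Flat
import Mathlib.Algebra.Category.Ring.Constructions

/-!
Sections over affine opens of the special fibre of a scheme over a local ring.
-/

set_option autoImplicit false
universe u
open CategoryTheory CategoryTheory.Limits AlgebraicGeometry Opposite TopologicalSpace

namespace Groth.Agent.Models.SpecFib

theorem surj_ker_of_isPushout {R' A K P : CommRingCat.{u}} {a : R' ⟶ A} {b : R' ⟶ K} {c : A ⟶ P}
    {d : K ⟶ P} (h : IsPushout a b c d) (hb : Function.Surjective b.hom) :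
    Function.Surjective c.hom ∧ RingHom.ker c.hom = (RingHom.ker b.hom).map a.hom := by
  constructor
  · -- the range of `c`
    let P0 : Subring P := c.hom.range
    have hd : ∀ x : K, d.hom x ∈ P0 := by
      intro x
      obtain ⟨y, rfl⟩ := hb x
      refine ⟨a.hom y, ?_⟩
      exact congrArg (fun φ => φ.hom y) h.w
    let c0 : A ⟶ CommRingCat.of P0 := CommRingCat.ofHom c.hom.rangeRestrict
    let d0 : K ⟶ CommRingCat.of P0 := CommRingCat.ofHom (d.hom.codRestrict P0 hd)
    let incl : CommRingCat.of P0 ⟶ P := CommRingCat.ofHom P0.subtype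
    have hc0 : c0 ≫ incl = c := by ext x; rfl
    have hd0 : d0 ≫ incl = d := by ext x; rfl
    have hw : a ≫ c0 = b ≫ d0 := by
      ext x
      exact congrArg (fun φ => φ.hom x) h.w
    let e := h.desc c0 d0 hw
    have he : e ≫ incl = 𝟙 P := by
      apply h.hom_ext
      · rw [← Category.assoc, h.inl_desc, hc0, Category.comp_id]
      · rw [← Category.assoc, h.inr_desc, hd0, Category.comp_id]
    intro y
    have h1 : incl.hom (e.hom y) = y := congrArg (fun φ => φ.hom y) he
    obtain ⟨z, hz⟩ := (e.hom y).2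
    exact ⟨z, hz.trans h1⟩
  · apply le_antisymm
    · let J := (RingHom.ker b.hom).map a.hom
      let c0 : A ⟶ CommRingCat.of (A ⧸ J) := CommRingCat.ofHom (Ideal.Quotient.mk J)
      have hk : RingHom.ker b.hom ≤ RingHom.ker ((Ideal.Quotient.mk J).comp a.hom) := by
        intro x hx
        rw [RingHom.mem_ker, RingHom.comp_apply, Ideal.Quotient.eq_zero_iff_mem]
        exact Ideal.mem_map_of_mem _ hx
      let d0 : K ⟶ CommRingCat.of (A ⧸ J) := CommRingCat.ofHom
        (RingHom.liftOfSurjective b.hom hb ⟨(Ideal.Quotient.mk J).comp a.hom, hk⟩)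
      have hw : a ≫ c0 = b ≫ d0 := by
        ext x
        exact (RingHom.liftOfRightInverse_comp_apply b.hom (Function.surjInv hb)
          (Function.rightInverse_surjInv hb) ⟨(Ideal.Quotient.mk J).comp a.hom, hk⟩ x).symm
      intro x hx
      have h1 : (c ≫ h.desc c0 d0 hw).hom x = c0.hom x := by rw [h.inl_desc]
      have h2 : c0.hom x = 0 := by
        rw [← h1]
        change (h.desc c0 d0 hw).hom (c.hom x) = 0
        rw [RingHom.mem_ker] at hx
        rw [hx, map_zero]
      exact Ideal.Quotient.eq_zero_iff_mem.1 h2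
    · rw [Ideal.map_le_iff_le_comap]
      intro x hx
      rw [Ideal.mem_comap, RingHom.mem_ker]
      rw [RingHom.mem_ker] at hx
      have h1 : c.hom (a.hom x) = d.hom (b.hom x) := congrArg (fun φ => φ.hom x) h.w
      rw [h1, hx, map_zero]

variable (R : Type u) [CommRing R] [IsLocalRing R] (X : Scheme.{u})
  (p : X ⟶ Spec (CommRingCat.of R))

/-- the closed immersion of the special fibre -/
noncomputable abbrev ιk : Limits.pullback p (Spec.map (CommRingCat.ofHom
    (algebraMap R (IsLocalRing.ResidueField R)))) ⟶ X :=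
  Limits.pullback.fst p (Spec.map (CommRingCat.ofHom (algebraMap R (IsLocalRing.ResidueField R))))

/-- the structure map `R → Γ(X, V)` -/
noncomputable def str (V : X.Opens) : R →+* Γ(X, V) :=
  (p.appLE ⊤ V le_top).hom.comp (Scheme.ΓSpecIso (CommRingCat.of R)).inv.hom

variable {R X}

theorem str_res {V W : X.Opens} (h : W ≤ V) (r : R) :
    (X.presheaf.map (homOfLE h).op).hom (str R X p V r) = str R X p W r := by
  have := p.appLE_map (U := ⊤) (V := V) (V' := W) le_top (homOfLE h).op
  exact congrArg (fun φ => φ.hom ((Scheme.ΓSpecIso (CommRingCat.of R)).inv.hom r)) this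

theorem app_surj_ker (V : X.Opens) (hV : IsAffineOpen V) :
    Function.Surjective ((ιk R X p).app V).hom ∧
      RingHom.ker ((ιk R X p).app V).hom =
        (IsLocalRing.maximalIdeal R).map (str R X p V) := by
  set f := Spec.map (CommRingCat.ofHom (algebraMap R (IsLocalRing.ResidueField R))) with hf
  have H : IsPullback (Limits.pullback.fst p f) (Limits.pullback.snd p f) p f :=
    IsPullback.of_hasPullback p f
  have h1 := isIso_pushoutSection_of_isAffineOpen H (US := ⊤) (UT := ⊤) (UX := V)
    (UY := Limits.pullback.fst p f ⁻¹ᵁ V) le_top le_top (by simp)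
    (isAffineOpen_top _) (isAffineOpen_top _) hV
  rw [isIso_pushoutSection_iff] at h1
  have h2 : (Scheme.ΓSpecIso (CommRingCat.of R)).inv ≫ f.app ⊤ =
      CommRingCat.ofHom (algebraMap R (IsLocalRing.ResidueField R)) ≫
        (Scheme.ΓSpecIso (CommRingCat.of (IsLocalRing.ResidueField R))).inv :=
    (Scheme.ΓSpecIso_inv_naturality _).symm
  have e : (f.appLE ⊤ ⊤ le_top) = f.app ⊤ := Scheme.Hom.appLE_eq_app f
  have hfs : Function.Surjective (f.appLE ⊤ ⊤ le_top).hom := by
    rw [e]
    intro y
    obtain ⟨z, rfl⟩ := (ConcreteCategory.bijective_of_isIso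
      (Scheme.ΓSpecIso (CommRingCat.of (IsLocalRing.ResidueField R))).inv).2 y
    obtain ⟨w, rfl⟩ := IsLocalRing.residue_surjective z
    exact ⟨_, congrArg (fun φ => φ.hom w) h2⟩
  have h3 := surj_ker_of_isPushout h1 hfs
  have e2 : (Limits.pullback.fst p f).appLE V (Limits.pullback.fst p f ⁻¹ᵁ V) le_rfl =
      (ιk R X p).app V := Scheme.Hom.appLE_eq_app _
  rw [e2] at h3
  refine ⟨h3.1, ?_⟩
  rw [h3.2, str, ← Ideal.map_map]
  congr 1
  rw [e]
  ext y
  obtain ⟨z, rfl⟩ := (ConcreteCategory.bijective_of_isIso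
      (Scheme.ΓSpecIso (CommRingCat.of R)).inv).2 y
  constructor
  · intro hy
    rw [RingHom.mem_ker] at hy
    have h4 := congrArg (fun φ => φ.hom z) h2
    have h5 : (Scheme.ΓSpecIso (CommRingCat.of (IsLocalRing.ResidueField R))).inv.hom
        (algebraMap R (IsLocalRing.ResidueField R) z) = 0 := h4.symm.trans hy
    have h6 : algebraMap R (IsLocalRing.ResidueField R) z = 0 := by
      apply (ConcreteCategory.bijective_of_isIso
        (Scheme.ΓSpecIso (CommRingCat.of (IsLocalRing.ResidueField R))).inv).1
      rw [map_zero]; exact h5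
    have h7 : z ∈ IsLocalRing.maximalIdeal R := (IsLocalRing.residue_eq_zero_iff z).1 h6
    exact Ideal.mem_map_of_mem _ h7
  · intro hy
    have h8 : (IsLocalRing.maximalIdeal R).map (Scheme.ΓSpecIso (CommRingCat.of R)).inv.hom ≤
        RingHom.ker (f.app ⊤).hom := by
      rw [Ideal.map_le_iff_le_comap]
      intro w hw
      rw [Ideal.mem_comap, RingHom.mem_ker]
      have h4 := congrArg (fun φ => φ.hom w) h2
      have h6 : algebraMap R (IsLocalRing.ResidueField R) w = 0 :=
        (IsLocalRing.residue_eq_zero_iff w).2 hw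
      refine h4.trans ?_
      change (Scheme.ΓSpecIso (CommRingCat.of (IsLocalRing.ResidueField R))).inv.hom
        (algebraMap R (IsLocalRing.ResidueField R) w) = 0
      rw [h6, map_zero]
    exact h8 hy

end Groth.Agent.Models.SpecFib
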