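/-
The base change of `Spec ℤ[u,v,w]/(uv-w) → Spec ℤ[w]` along a ring map `ℤ[w] → R'`, `w ↦ ε c`, is
`Spec R'[u,v]/(uv-c)`.
-/
import Mathlib.Algebra.MvPolynomial.CommRing
import Mathlib.RingTheory.Ideal.Quotient.Operations
import Mathlib.Algebra.Category.Ring.Constructions
import Mathlib.AlgebraicGeometry.Pullbacks
import Mathlib.CategoryTheory.Limits.Shapes.Pullback.IsPullback.Defs

set_option autoImplicit false
universe u

open CategoryTheory CategoryTheory.Limits AlgebraicGeometry

namespace Groth.Agent.Models.NodePushout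

/-- ring homomorphisms, with the instances found through `CommRing`. -/
abbrev HomC (A B : Type*) [CommRing A] [CommRing B] : Type _ := A →+* B

/-- the coordinate ring `ℤ[u,v,w]/(uv-w)`. -/
abbrev Zuvw : Type u := (MvPolynomial (Fin 3) (ULift.{u} ℤ) ⧸
  Ideal.span {(MvPolynomial.X 0 * MvPolynomial.X 1 - MvPolynomial.X 2 :
    MvPolynomial (Fin 3) (ULift.{u} ℤ))})

/-- `ℤ[a] → ℤ[u,v,w]/(uv-w)`, `a ↦ w`. -/
noncomputable def phi : HomC (MvPolynomial (Fin 1) (ULift.{u} ℤ)) Zuvw.{u} :=
  (Ideal.Quotient.mk _).comp (MvPolynomial.aeval (fun _ : Fin 1 =>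
    (MvPolynomial.X 2 : MvPolynomial (Fin 3) (ULift.{u} ℤ)))).toRingHom

theorem phi_X : phi.{u} (MvPolynomial.X 0) = Ideal.Quotient.mk _ (MvPolynomial.X 2) := by
  simp [phi]

/-- a ring map from `ℤ[a]` is determined by the image of `a`. -/
theorem ringHom_ext_fin1 {D : Type*} [CommRing D]
    {f g : HomC (MvPolynomial (Fin 1) (ULift.{u} ℤ)) D}
    (h : f (MvPolynomial.X 0) = g (MvPolynomial.X 0)) : f = g := by
  apply MvPolynomial.ringHom_ext
  · intro r
    have : (f.comp MvPolynomial.C).comp ULift.ringEquiv.symm.toRingHom =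
        (g.comp MvPolynomial.C).comp ULift.ringEquiv.symm.toRingHom := RingHom.ext_int _ _
    exact congrArg (fun k : ℤ →+* D => k r.down) this
  · intro i
    rw [Subsingleton.elim i 0]
    exact h

theorem ringHom_ext_quot {D : Type*} [CommRing D] {f g : HomC Zuvw.{u} D}
    (h0 : f (Ideal.Quotient.mk _ (MvPolynomial.X 0)) = g (Ideal.Quotient.mk _ (MvPolynomial.X 0)))
    (h1 : f (Ideal.Quotient.mk _ (MvPolynomial.X 1)) = g (Ideal.Quotient.mk _ (MvPolynomial.X 1)))
    (h2 : f (Ideal.Quotient.mk _ (MvPolynomial.X 2)) = g (Ideal.Quotient.mk _ (MvPolynomial.X 2))) :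
    f = g := by
  apply Ideal.Quotient.ringHom_ext
  apply MvPolynomial.ringHom_ext
  · intro r
    have : ((f.comp (Ideal.Quotient.mk _)).comp MvPolynomial.C).comp ULift.ringEquiv.symm.toRingHom =
        ((g.comp (Ideal.Quotient.mk _)).comp MvPolynomial.C).comp ULift.ringEquiv.symm.toRingHom :=
      RingHom.ext_int _ _
    exact congrArg (fun k : ℤ →+* D => k r.down) this
  · intro i
    fin_cases i
    · exact h0
    · exact h1
    · exact h2

variable {R' : Type u} [CommRing R'] (χ : HomC (MvPolynomial (Fin 1) (ULift.{u} ℤ)) R') (ε : R'ˣ) (c : R')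

/-- the coordinate ring `R'[u,v]/(uv-c)`. -/
abbrev Ruv (h : MvPolynomial (Fin 2) R') : Type u :=
  MvPolynomial (Fin 2) R' ⧸ Ideal.span {MvPolynomial.X 0 * MvPolynomial.X 1 - h}

/-- `ℤ[u,v,w]/(uv-w) → R'[u,v]/(uv-c)`, `u ↦ ε u`, `v ↦ v`, `w ↦ ε c`. -/
noncomputable def theta : HomC Zuvw.{u} (Ruv (MvPolynomial.C c)) :=
  Ideal.Quotient.lift _ (MvPolynomial.eval₂Hom
    ((Int.castRingHom (Ruv (MvPolynomial.C c))).comp ULift.ringEquiv.toRingHom)
    ![Ideal.Quotient.mk _ (MvPolynomial.C (ε : R') * MvPolynomial.X 0),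
      Ideal.Quotient.mk _ (MvPolynomial.X 1),
      Ideal.Quotient.mk _ (MvPolynomial.C ((ε : R') * c))]) (by
    intro a ha
    have : Ideal.span {(MvPolynomial.X 0 * MvPolynomial.X 1 - MvPolynomial.X 2 :
        MvPolynomial (Fin 3) (ULift.{u} ℤ))} ≤ RingHom.ker (MvPolynomial.eval₂Hom
      ((Int.castRingHom (Ruv (MvPolynomial.C c))).comp ULift.ringEquiv.toRingHom)
      ![Ideal.Quotient.mk _ (MvPolynomial.C (ε : R') * MvPolynomial.X 0),
        Ideal.Quotient.mk _ (MvPolynomial.X 1),
        Ideal.Quotient.mk _ (MvPolynomial.C ((ε : R') * c))]) := by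
      rw [Ideal.span_singleton_le_iff_mem, RingHom.mem_ker]
      simp only [map_sub, map_mul, MvPolynomial.eval₂Hom_X', Matrix.cons_val]
      rw [← map_mul, ← map_mul, ← map_mul, ← map_sub, Ideal.Quotient.eq_zero_iff_mem]
      have : (MvPolynomial.C (ε : R') * MvPolynomial.X 0 * MvPolynomial.X 1 -
          MvPolynomial.C ((ε : R')) * MvPolynomial.C c : MvPolynomial (Fin 2) R') =
          MvPolynomial.C (ε : R') * (MvPolynomial.X 0 * MvPolynomial.X 1 - MvPolynomial.C c) := by
        ring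
      rw [this]
      exact Ideal.mul_mem_left _ _ (Ideal.mem_span_singleton_self _)
    exact this ha)

theorem theta_X0 : theta ε c (Ideal.Quotient.mk _ (MvPolynomial.X 0)) =
    Ideal.Quotient.mk _ (MvPolynomial.C (ε : R') * MvPolynomial.X 0) := by
  simp [theta]

theorem theta_X1 : theta ε c (Ideal.Quotient.mk _ (MvPolynomial.X 1)) =
    Ideal.Quotient.mk _ (MvPolynomial.X 1) := by
  simp [theta]

theorem theta_X2 : theta ε c (Ideal.Quotient.mk _ (MvPolynomial.X 2)) =
    Ideal.Quotient.mk _ (MvPolynomial.C ((ε : R') * c)) := by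
  simp [theta]

/-- the structure map `R' → R'[u,v]/(uv-c)`. -/
noncomputable def iota (h : MvPolynomial (Fin 2) R') : HomC R' (Ruv h) :=
  (Ideal.Quotient.mk _).comp MvPolynomial.C

theorem desc_exists {D : Type*} [CommRing D] (f : HomC Zuvw.{u} D) (g : HomC R' D)
    (hfg : f (Ideal.Quotient.mk _ (MvPolynomial.X 2)) = g (ε * c)) :
    ∃ k : HomC (Ruv (MvPolynomial.C c)) D, k.comp (theta ε c) = f ∧ k.comp (iota (MvPolynomial.C c)) = g := by
  let u0 := f (Ideal.Quotient.mk _ (MvPolynomial.X 0))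
  let v0 := f (Ideal.Quotient.mk _ (MvPolynomial.X 1))
  have huv : u0 * v0 = g (ε * c) := by
    rw [← hfg, ← map_mul, ← map_mul]
    congr 1
    rw [Ideal.Quotient.mk_eq_mk_iff_sub_mem]
    exact Ideal.mem_span_singleton_self _
  let k0 : MvPolynomial (Fin 2) R' →+* D := MvPolynomial.eval₂Hom g ![g (ε⁻¹ : R'ˣ) * u0, v0]
  have hk0 : ∀ a ∈ Ideal.span {(MvPolynomial.X 0 * MvPolynomial.X 1 - MvPolynomial.C c :
      MvPolynomial (Fin 2) R')}, k0 a = 0 := by
    have : Ideal.span {(MvPolynomial.X 0 * MvPolynomial.X 1 - MvPolynomial.C c :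
      MvPolynomial (Fin 2) R')} ≤ RingHom.ker k0 := by
      rw [Ideal.span_singleton_le_iff_mem, RingHom.mem_ker]
      simp only [k0, map_sub, map_mul, MvPolynomial.eval₂Hom_X', Matrix.cons_val_zero,
        Matrix.cons_val_one, MvPolynomial.eval₂Hom_C]
      rw [mul_assoc, huv, ← map_mul, ← mul_assoc, Units.inv_mul, one_mul, sub_self]
    exact fun a ha => this ha
  refine ⟨Ideal.Quotient.lift _ k0 hk0, ?_, ?_⟩
  · apply ringHom_ext_quot
    · rw [RingHom.comp_apply, theta_X0, Ideal.Quotient.lift_mk]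
      simp only [k0, map_mul, MvPolynomial.eval₂Hom_X', Matrix.cons_val_zero,
        MvPolynomial.eval₂Hom_C]
      rw [← mul_assoc, ← map_mul, Units.mul_inv, map_one, one_mul]
    · rw [RingHom.comp_apply, theta_X1, Ideal.Quotient.lift_mk]
      simp only [k0, MvPolynomial.eval₂Hom_X', Matrix.cons_val_one]
      rfl
    · rw [RingHom.comp_apply, theta_X2, Ideal.Quotient.lift_mk]
      simp only [k0, MvPolynomial.eval₂Hom_C]
      exact hfg.symm
  · ext a
    simp [iota, k0]

theorem hom_ext' {D : Type*} [CommRing D] {k l : HomC (Ruv (MvPolynomial.C c)) D}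
    (h1 : k.comp (theta ε c) = l.comp (theta ε c))
    (h2 : k.comp (iota (MvPolynomial.C c)) = l.comp (iota (MvPolynomial.C c))) : k = l := by
  apply Ideal.Quotient.ringHom_ext
  apply MvPolynomial.ringHom_ext
  · intro r
    exact congrArg (fun m : R' →+* D => m r) h2
  · intro i
    fin_cases i
    · have h3 := congrArg (fun m : Zuvw.{u} →+* D => m (Ideal.Quotient.mk _ (MvPolynomial.X 0))) h1
      simp only [RingHom.comp_apply, theta_X0, map_mul] at h3
      have h4 : ∀ r : R', k (Ideal.Quotient.mk _ (MvPolynomial.C r)) =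
        l (Ideal.Quotient.mk _ (MvPolynomial.C r)) := fun r =>
          congrArg (fun m : R' →+* D => m r) h2
      have h5 : IsUnit (l (Ideal.Quotient.mk _ (MvPolynomial.C (ε : R')))) :=
        (ε.isUnit).map ((l.comp (Ideal.Quotient.mk _)).comp MvPolynomial.C)
      rw [h4] at h3
      exact h5.mul_left_cancel h3
    · have h3 := congrArg (fun m : Zuvw.{u} →+* D => m (Ideal.Quotient.mk _ (MvPolynomial.X 1))) h1
      simp only [RingHom.comp_apply, theta_X1] at h3
      exact h3

theorem isPushout_node (hχ : χ (MvPolynomial.X 0) = ε * c) :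
    IsPushout (CommRingCat.ofHom phi.{u}) (CommRingCat.ofHom χ)
      (CommRingCat.ofHom (theta ε c)) (CommRingCat.ofHom (iota (MvPolynomial.C c))) := by
  have hw : (theta ε c).comp phi.{u} = (iota (MvPolynomial.C c)).comp χ := by
    apply ringHom_ext_fin1
    rw [RingHom.comp_apply, RingHom.comp_apply, phi_X, theta_X2, hχ]
    rfl
  have hs : ∀ s : PushoutCocone (CommRingCat.ofHom phi.{u}) (CommRingCat.ofHom χ),
      s.inl.hom (Ideal.Quotient.mk _ (MvPolynomial.X 2)) = s.inr.hom (ε * c) := by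
    intro s
    rw [← phi_X, ← hχ]
    exact congrArg (fun m => m.hom (MvPolynomial.X 0)) s.condition
  refine ⟨⟨?_⟩, ⟨PushoutCocone.IsColimit.mk _
    (fun s => CommRingCat.ofHom (desc_exists ε c s.inl.hom s.inr.hom (hs s)).choose) ?_ ?_ ?_⟩⟩
  · ext1
    exact hw
  · intro s
    ext1
    exact (desc_exists ε c s.inl.hom s.inr.hom (hs s)).choose_spec.1
  · intro s
    ext1
    exact (desc_exists ε c s.inl.hom s.inr.hom (hs s)).choose_spec.2
  · intro s m h1 h2
    ext1
    have h3 := (desc_exists ε c s.inl.hom s.inr.hom (hs s)).choose_spec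
    apply hom_ext' ε c
    · exact (congrArg (fun m => m.hom) h1).trans h3.1.symm
    · exact (congrArg (fun m => m.hom) h2).trans h3.2.symm

/-- the geometric form. -/
theorem isPullback_node (hχ : χ (MvPolynomial.X 0) = ε * c) :
    IsPullback (Spec.map (CommRingCat.ofHom (theta ε c)))
      (Spec.map (CommRingCat.ofHom (iota (MvPolynomial.C c))))
      (Spec.map (CommRingCat.ofHom phi.{u})) (Spec.map (CommRingCat.ofHom χ)) :=
  isPullback_SpecMap_of_isPushout _ _ _ _ (isPushout_node χ ε c hχ)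

end Groth.Agent.Models.NodePushout
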