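import Groth.Agent.Models.NodeRing
import Groth.Agent.Divis.BlowChart

/-!
The blow-up of `Spec D[u,v]/(uv - t^k)` (`k ≥ 2`) at `(u, v, t)` is covered by spectra of
`D[u,v]/(uv - t^j)` with `j = k - 2` and `j = 1`.
-/

set_option autoImplicit false
universe u

open BlowUp CategoryTheory AlgebraicGeometry

namespace Groth.Agent.Models.NodeBlow

open Groth.Agent.Models.NodeRing

section Algebra

variable {D : Type u} [CommRing D] {a : D}

/-- The pair `(x, y)` of elements of `W D a` is a pair of coordinates. -/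
structure IsCoord (a : D) (x y : W D a) : Prop where
  mul_eq : x * y = algebraMap D (W D a) a
  lift : ∀ {B : Type u} [CommRing B] (φ : D →+* B) (x' y' : B) (_ : x' * y' = φ a),
    ∃ ψ : W D a →+* B, (∀ d, ψ (algebraMap D _ d) = φ d) ∧ ψ x = x' ∧ ψ y = y'
  ext : ∀ {B : Type u} [CommRing B] {f g : W D a →+* B},
    (∀ d, f (algebraMap D _ d) = g (algebraMap D _ d)) → f x = g x → f y = g y → f = g

theorem isCoord_uv : IsCoord a (uu D a) (vv D a) :=
  ⟨uu_mul_vv D a, fun φ x y h => ⟨NodeRing.lift φ x y h, by simp, by simp, by simp⟩,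
    fun h1 h2 h3 => hom_ext h1 h2 h3⟩

theorem isCoord_vu : IsCoord a (vv D a) (uu D a) :=
  ⟨by rw [mul_comm]; exact uu_mul_vv D a,
    fun φ x y h => ⟨NodeRing.lift φ y x (by rw [mul_comm]; exact h), by simp, by simp, by simp⟩,
    fun h1 h2 h3 => hom_ext h1 h3 h2⟩

/-- The chart of the blow-up where the first coordinate generates. -/
theorem exists_equiv_coord (t : D) (k : ℕ) (hk : 2 ≤ k) (ha : a = t ^ k)
    (hD : IsDomain (W D t)) (ht : t ≠ 0) (x y : W D a) (hxy : IsCoord a x y)
    (I : Ideal (W D a)) (hI : I = Ideal.span {x, y, algebraMap D _ t}) :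
    ∃ e : affineAlgebra (W D a) I x ≃+* W D t, ∀ d : D,
      e (algebraMap (W D a) _ (algebraMap D _ d)) = algebraMap D _ d := by
  obtain ⟨m, rfl⟩ : ∃ m, k = m + 2 := ⟨k - 2, by omega⟩
  have hst := uu_mul_vv D t
  obtain ⟨ψ, hψD, hψx, hψy⟩ := hxy.lift (algebraMap D (W D t)) (uu D t)
    (algebraMap D _ (t ^ (m + 1)) * vv D t) (by
      rw [ha]
      rw [map_pow, map_pow]
      linear_combination (algebraMap D (W D t) t) ^ (m + 1) * hst)
  have hxI : x ∈ I := by rw [hI]; exact Ideal.subset_span (by simp)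
  have htI : algebraMap D (W D a) t ∈ I := by rw [hI]; exact Ideal.subset_span (by simp)
  have hreg : ψ x ∈ nonZeroDivisors (W D t) := by
    rw [hψx]
    exact mem_nonZeroDivisors_of_ne_zero (uu_ne_zero ht)
  have hdiv : ∀ z ∈ I, ∃ s, ψ z = ψ x * s := by
    have hle : I ≤ (Ideal.span {ψ x}).comap ψ := by
      rw [hI, Ideal.span_le]
      rintro z (rfl | rfl | rfl)
      · exact Ideal.mem_span_singleton_self _
      · rw [SetLike.mem_coe, Ideal.mem_comap, Ideal.mem_span_singleton, hψy, hψx]
        refine ⟨(algebraMap D (W D t) t) ^ m * vv D t ^ 2, ?_⟩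
        rw [map_pow]
        linear_combination -(algebraMap D (W D t) t) ^ m * vv D t * hst
      · rw [SetLike.mem_coe, Ideal.mem_comap, Ideal.mem_span_singleton, hψD, hψx]
        exact ⟨vv D t, hst.symm⟩
    intro z hz
    exact Ideal.mem_span_singleton.1 (hle hz)
  obtain ⟨θ, hθ⟩ := Groth.Agent.Divis.BlowAlg.exists_hom I x ψ hreg hdiv
  have hθ' : ∀ z, θ (algebraMap (W D a) _ z) = ψ z := fun z => congr($hθ z)
  have hregA := Groth.Agent.Divis.BlowAlg.algebraMap_mem_nonZeroDivisors I x
  -- the inverse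
  obtain ⟨s, hs⟩ : ∃ s : affineAlgebra (W D a) I x, algebraMap (W D a) _ (algebraMap D _ t) =
      algebraMap (W D a) _ x * s := by
    have := Ideal.mem_map_of_mem (algebraMap (W D a) (affineAlgebra (W D a) I x)) htI
    rw [Groth.Agent.Divis.BlowAlg.map_eq_span I x hxI] at this
    exact Ideal.mem_span_singleton.1 this
  let η : W D t →+* affineAlgebra (W D a) I x :=
    NodeRing.lift ((algebraMap (W D a) _).comp (algebraMap D (W D a))) (algebraMap _ _ x) s hs.symm
  have hηD : ∀ d, η (algebraMap D _ d) = algebraMap (W D a) _ (algebraMap D _ d) := by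
    intro d; simp [η]
  have hηu : η (uu D t) = algebraMap (W D a) _ x := by simp [η]
  have hηv : η (vv D t) = s := by simp [η]
  have h1 : θ.comp η = RingHom.id _ := by
    apply hom_ext
    · intro d
      rw [RingHom.comp_apply, hηD, hθ', hψD, RingHom.id_apply]
    · rw [RingHom.comp_apply, hηu, hθ', hψx, RingHom.id_apply]
    · rw [RingHom.comp_apply, hηv, RingHom.id_apply]
      have h2 : θ (algebraMap (W D a) _ (algebraMap D _ t)) = θ (algebraMap (W D a) _ x * s) :=
        congrArg θ hs
      rw [map_mul, hθ', hθ', hψD, hψx, ← hst] at h2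
      exact (mul_left_cancel₀ (uu_ne_zero ht) h2).symm
  have h2 : η.comp θ = RingHom.id _ := by
    apply Groth.Agent.Divis.BlowAlg.hom_ext I x
    · apply hxy.ext
      · intro d
        simp only [RingHom.comp_apply, RingHom.id_apply]
        rw [hθ', hψD, hηD]
      · simp only [RingHom.comp_apply, RingHom.id_apply]
        rw [hθ', hψx, hηu]
      · simp only [RingHom.comp_apply, RingHom.id_apply]
        rw [hθ', hψy, map_mul, hηD, hηv]
        have h3 : algebraMap (W D a) (affineAlgebra (W D a) I x) (x * y) =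
            algebraMap (W D a) _ (algebraMap D _ (t ^ (m + 2))) := by
          rw [hxy.mul_eq]
          exact congrArg _ (congrArg _ ha)
        rw [map_mul] at h3
        refine (mul_cancel_left_mem_nonZeroDivisors hregA).1 ?_
        rw [h3]
        simp only [map_pow]
        linear_combination -(algebraMap (W D a) (affineAlgebra (W D a) I x)
          (algebraMap D (W D a) t)) ^ (m + 1) * hs
    · change η (θ (algebraMap (W D a) _ x)) ∈ _
      rw [hθ', hψx, hηu]
      exact hregA
  refine ⟨RingEquiv.ofRingHom θ η h1 h2, fun d => ?_⟩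
  change θ _ = _
  rw [hθ', hψD]

theorem exists_equiv_coord' (t : D) (k : ℕ) (hk : 2 ≤ k) (ha : a = t ^ k)
    (hD : IsDomain (W D t)) (ht : t ≠ 0) (x y : W D a) (hxy : IsCoord a x y)
    (I : Ideal (W D a)) (hI : I = Ideal.span {x, y, algebraMap D _ t}) (c : D) (hc : c = t) :
    ∃ e : affineAlgebra (W D a) I x ≃+* W D c, ∀ d : D,
      e (algebraMap (W D a) _ (algebraMap D _ d)) = algebraMap D _ d := by
  subst hc
  exact exists_equiv_coord c k hk ha hD ht x y hxy I hI

/-- The chart of the blow-up where `t` generates. -/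
theorem exists_equiv_t (t : D) (k m : ℕ) (hk : k = m + 2) (ha : a = t ^ k)
    (hD : IsDomain (W D (t ^ m))) (ht : t ≠ 0)
    (I : Ideal (W D a)) (hI : I = Ideal.span {uu D a, vv D a, algebraMap D _ t}) :
    ∃ e : affineAlgebra (W D a) I (algebraMap D _ t) ≃+* W D (t ^ m), ∀ d : D,
      e (algebraMap (W D a) _ (algebraMap D _ d)) = algebraMap D _ d := by
  subst hk
  have hst := uu_mul_vv D (t ^ m)
  have hst' : uu D (t ^ m) * vv D (t ^ m) = algebraMap D (W D (t ^ m)) t ^ m := by
    rw [hst, map_pow]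
  let x : W D a := algebraMap D _ t
  let ψ : W D a →+* W D (t ^ m) := NodeRing.lift (algebraMap D _)
    (algebraMap D _ t * uu D (t ^ m)) (algebraMap D _ t * vv D (t ^ m)) (by
      rw [ha]
      refine Eq.trans ?_ (map_pow (algebraMap D (W D (t ^ m))) t (m + 2)).symm
      linear_combination (algebraMap D (W D (t ^ m)) t) ^ 2 * hst')
  have hψD : ∀ d, ψ (algebraMap D _ d) = algebraMap D _ d := by intro d; simp [ψ]
  have hψu : ψ (uu D a) = algebraMap D _ t * uu D (t ^ m) := by simp [ψ]
  have hψv : ψ (vv D a) = algebraMap D _ t * vv D (t ^ m) := by simp [ψ]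
  have hxI : x ∈ I := by rw [hI]; exact Ideal.subset_span (by simp [x])
  have huI : uu D a ∈ I := by rw [hI]; exact Ideal.subset_span (by simp)
  have hvI : vv D a ∈ I := by rw [hI]; exact Ideal.subset_span (by simp)
  have htne : algebraMap D (W D (t ^ m)) t ≠ 0 := by
    intro h
    rw [← map_zero (algebraMap D (W D (t ^ m)))] at h
    exact ht (algebraMap_injective D _ h)
  have hreg : ψ x ∈ nonZeroDivisors (W D (t ^ m)) := by
    rw [hψD]
    exact mem_nonZeroDivisors_of_ne_zero htne
  have hdiv : ∀ z ∈ I, ∃ s, ψ z = ψ x * s := by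
    have hle : I ≤ (Ideal.span {ψ x}).comap ψ := by
      rw [hI, Ideal.span_le]
      rintro z (rfl | rfl | rfl)
      · rw [SetLike.mem_coe, Ideal.mem_comap, Ideal.mem_span_singleton, hψu, hψD]
        exact dvd_mul_right _ _
      · rw [SetLike.mem_coe, Ideal.mem_comap, Ideal.mem_span_singleton, hψv, hψD]
        exact dvd_mul_right _ _
      · exact Ideal.mem_span_singleton_self _
    intro z hz
    exact Ideal.mem_span_singleton.1 (hle hz)
  obtain ⟨θ, hθ⟩ := Groth.Agent.Divis.BlowAlg.exists_hom I x ψ hreg hdiv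
  have hθ' : ∀ z, θ (algebraMap (W D a) _ z) = ψ z := fun z => congr($hθ z)
  have hregA := Groth.Agent.Divis.BlowAlg.algebraMap_mem_nonZeroDivisors I x
  have hex : ∀ z ∈ I, ∃ s : affineAlgebra (W D a) I x, algebraMap (W D a) _ z =
      algebraMap (W D a) _ x * s := by
    intro z hz
    have := Ideal.mem_map_of_mem (algebraMap (W D a) (affineAlgebra (W D a) I x)) hz
    rw [Groth.Agent.Divis.BlowAlg.map_eq_span I x hxI] at this
    exact Ideal.mem_span_singleton.1 this
  obtain ⟨r, hr⟩ := hex _ huI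
  obtain ⟨s, hs⟩ := hex _ hvI
  have hrs : r * s = algebraMap (W D a) _ (algebraMap D (W D a) (t ^ m)) := by
    have h3 : algebraMap (W D a) (affineAlgebra (W D a) I x) (uu D a * vv D a) =
        algebraMap (W D a) _ (algebraMap D _ (t ^ (m + 2))) := by
      rw [uu_mul_vv]
      exact congrArg _ (congrArg _ ha)
    rw [map_mul, hr, hs] at h3
    refine (mul_cancel_left_mem_nonZeroDivisors (mul_mem hregA hregA)).1 ?_
    simp only [map_pow] at h3 ⊢
    linear_combination h3
  let η : W D (t ^ m) →+* affineAlgebra (W D a) I x :=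
    NodeRing.lift ((algebraMap (W D a) _).comp (algebraMap D (W D a))) r s hrs
  have hηD : ∀ d, η (algebraMap D _ d) = algebraMap (W D a) _ (algebraMap D _ d) := by
    intro d; simp [η]
  have hηu : η (uu D (t ^ m)) = r := by simp [η]
  have hηv : η (vv D (t ^ m)) = s := by simp [η]
  have h1 : θ.comp η = RingHom.id _ := by
    apply hom_ext
    · intro d
      rw [RingHom.comp_apply, hηD, hθ', hψD, RingHom.id_apply]
    · rw [RingHom.comp_apply, hηu, RingHom.id_apply]
      have h2 := congrArg θ hr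
      rw [map_mul, hθ', hθ', hψu, hψD] at h2
      exact (mul_left_cancel₀ htne h2).symm
    · rw [RingHom.comp_apply, hηv, RingHom.id_apply]
      have h2 := congrArg θ hs
      rw [map_mul, hθ', hθ', hψv, hψD] at h2
      exact (mul_left_cancel₀ htne h2).symm
  have h2 : η.comp θ = RingHom.id _ := by
    apply Groth.Agent.Divis.BlowAlg.hom_ext I x
    · apply hom_ext
      · intro d
        simp only [RingHom.comp_apply, RingHom.id_apply]
        rw [hθ', hψD, hηD]
      · simp only [RingHom.comp_apply, RingHom.id_apply]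
        rw [hθ', hψu, map_mul, hηu, hηD, hr]
      · simp only [RingHom.comp_apply, RingHom.id_apply]
        rw [hθ', hψv, map_mul, hηv, hηD, hs]
    · change η (θ (algebraMap (W D a) _ x)) ∈ _
      rw [hθ', hψD, hηD]
      exact hregA
  refine ⟨RingEquiv.ofRingHom θ η h1 h2, fun d => ?_⟩
  change θ _ = _
  rw [hθ', hψD]

end Algebra


section Geometry

open Groth.Agent.Divis.BlowChart Groth.Agent.Divis.IdealComap

/-- Around each point the exceptional ideal is generated by one of the given generators of `I`. -/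
theorem exists_mem_chartLocus_of_span {A : Type u} [CommRing A] (I : Ideal A) {X' : Scheme.{u}}
    (b : X' ⟶ Spec (CommRingCat.of A)) (s : Set A) (hs : I = Ideal.span s)
    (hE : IsEffCartierIdeal ((idl I).comap b)) (x' : X') :
    ∃ a ∈ s, x' ∈ chartLocus I b a := by
  obtain ⟨U, hxU, f, hf, hfU⟩ := hE x'
  have h1 : f ∈ I.map ((resT X' U.1).comp (glob b)) := by
    rw [← comap_idl_ideal, hfU]; exact Ideal.mem_span_singleton_self f
  by_contra hcon
  push Not at hcon
  let P : Ideal Γ(X', U.1) :=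
    (IsLocalRing.maximalIdeal (X'.presheaf.stalk x')).comap (X'.presheaf.germ U.1 x' hxU).hom
  have hP : ∀ h : Γ(X', U.1), h ∉ P ↔ x' ∈ X'.basicOpen h := by
    intro h
    rw [Scheme.mem_basicOpen _ _ _ hxU, Ideal.mem_comap, IsLocalRing.mem_maximalIdeal, mem_nonunits_iff,
      not_not]
  have h2 : I.map ((resT X' U.1).comp (glob b)) ≤ Ideal.span {f} * P := by
    rw [hs, Ideal.map_span, Ideal.span_le]
    rintro _ ⟨a, ha, rfl⟩
    have ha' : a ∈ I := by rw [hs]; exact Ideal.subset_span ha
    have h3 : resT X' U.1 (glob b a) ∈ ((idl I).comap b).ideal U := by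
      rw [comap_idl_ideal]; exact Ideal.mem_map_of_mem _ ha'
    rw [hfU, Ideal.mem_span_singleton] at h3
    obtain ⟨h, hh⟩ := h3
    rw [SetLike.mem_coe, Ideal.mem_span_singleton_mul]
    refine ⟨h, ?_, hh.symm⟩
    by_contra hhP
    rw [hP] at hhP
    exact hcon a ha (basicOpen_le_chartLocus I b a U f h hfU hh hhP)
  have h4 := h2 h1
  rw [Ideal.mem_span_singleton_mul] at h4
  obtain ⟨z, hz, hz'⟩ := h4
  have h5 : z = 1 := by
    have : f * z = f * 1 := by rw [hz', mul_one]
    exact (mul_cancel_left_mem_nonZeroDivisors hf).1 this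
  rw [h5] at hz
  refine ((hP 1).2 ?_) hz
  rw [Scheme.basicOpen_one]
  exact hxU

/-- The structure morphism of `Spec D[u,v]/(uv - a)`. -/
noncomputable abbrev str (D : Type u) [CommRing D] (a : D) :
    Spec (CommRingCat.of (W D a)) ⟶ Spec (CommRingCat.of D) :=
  Spec.map (CommRingCat.ofHom (algebraMap D (W D a)))

/-- Charts of the blow-up of `Spec D[u,v]/(uv - t^k)` at the origin. -/
theorem exists_chart {D : Type u} [CommRing D] [IsDomain D] [IsDiscreteValuationRing D] (t : D)
    (ht : Irreducible t) {a : D} (k : ℕ) (hk : 2 ≤ k) (ha : a = t ^ k) {X' : Scheme.{u}}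
    (b : X' ⟶ Spec (CommRingCat.of (W D a)))
    (hb : IsBlowUp b (idl (Ideal.span {uu D a, vv D a, algebraMap D _ t}))) (x' : X') :
    ∃ (V : X'.Opens) (j : ℕ) (_ : j ≤ max 1 (k - 2)) (e : V.toScheme ≅ Spec (CommRingCat.of (W D (t ^ j)))),
      x' ∈ V ∧ e.hom ≫ str D (t ^ j) = V.ι ≫ b ≫ str D a := by
  set I : Ideal (W D a) := Ideal.span {uu D a, vv D a, algebraMap D _ t} with hI
  have huI : uu D a ∈ I := by rw [hI]; exact Ideal.subset_span (by simp)
  have hvI : vv D a ∈ I := by rw [hI]; exact Ideal.subset_span (by simp)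
  have htI : algebraMap D _ t ∈ I := by rw [hI]; exact Ideal.subset_span (by simp)
  -- a chart given by a ring isomorphism
  have key : ∀ (c : W D a) (_ : c ∈ I) (_ : x' ∈ chartLocus I b c) (j : ℕ) (_ : j ≤ max 1 (k - 2))
      (e : affineAlgebra (W D a) I c ≃+* W D (t ^ j)) (_ : ∀ d : D,
        e (algebraMap (W D a) _ (algebraMap D _ d)) = algebraMap D _ d),
      ∃ (V : X'.Opens) (j : ℕ) (_ : j ≤ max 1 (k - 2))
        (e : V.toScheme ≅ Spec (CommRingCat.of (W D (t ^ j)))),
      x' ∈ V ∧ e.hom ≫ str D (t ^ j) = V.ι ≫ b ≫ str D a := by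
    intro c hc hx j hj e he
    obtain ⟨e', he'⟩ := exists_iso I b hb hc
    refine ⟨chartLocus I b c, j, hj, e' ≪≫ (Scheme.Spec.mapIso e.toCommRingCatIso.symm.op), hx, ?_⟩
    rw [← Category.assoc, ← he']
    simp only [Iso.trans_hom, Category.assoc]
    congr 1
    have h1 : (Scheme.Spec.mapIso e.toCommRingCatIso.symm.op).hom =
        Spec.map (CommRingCat.ofHom (e.symm : W D (t ^ j) →+* _)) := rfl
    rw [h1, ← Spec.map_comp]
    have h2 : chartMap I c = Spec.map (CommRingCat.ofHom (algebraMap (W D a) (affineAlgebra (W D a) I c))) := rfl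
    rw [h2, ← Spec.map_comp]
    congr 1
    rw [← CommRingCat.ofHom_comp, ← CommRingCat.ofHom_comp]
    congr 1
    ext d
    simp only [RingHom.comp_apply]
    rw [← he d]
    simp
  obtain ⟨c, hc, hx⟩ := exists_mem_chartLocus_of_span I b _ hI hb.1 x'
  have hdom : ∀ j, IsDomain (W D (t ^ j)) := fun j => isDomain D _ (pow_ne_zero _ ht.ne_zero)
  rcases hc with rfl | rfl | hc
  · obtain ⟨e, he⟩ := exists_equiv_coord' t k hk ha (isDomain D _ ht.ne_zero) ht.ne_zero _ _
      isCoord_uv I hI (t ^ 1) (pow_one t)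
    exact key _ huI hx 1 (le_max_left _ _) e he
  · obtain ⟨e, he⟩ := exists_equiv_coord' t k hk ha (isDomain D _ ht.ne_zero) ht.ne_zero _ _
      isCoord_vu I (by rw [hI, Set.insert_comm]) (t ^ 1) (pow_one t)
    exact key _ hvI hx 1 (le_max_left _ _) e he
  · obtain rfl : c = algebraMap D _ t := hc
    obtain ⟨e, he⟩ := exists_equiv_t t k (k - 2) (by omega) ha (hdom _) ht.ne_zero I hI
    exact key _ htI hx (k - 2) (le_max_right _ _) e he

end Geometry

end Groth.Agent.Models.NodeBlow
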