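import Mathlib.RingTheory.MvPolynomial.IrreducibleQuadratic
import Mathlib.RingTheory.Polynomial.UniqueFactorization
import Mathlib.RingTheory.Localization.Away.Basic
import Mathlib.RingTheory.DiscreteValuationRing.Basic
import Mathlib.RingTheory.PowerSeries.Inverse
import Groth.Agent.Ega4A.RegEtale
import Groth.Agent.Ega4dA.RegQuot
import Groth.Agent.CalgA.RegBasic

/-!
The ring `W D a = D[u, v]/(uv - a)`.
-/

set_option autoImplicit false
universe u v

open MvPolynomial

namespace Groth.Agent.Models.NodeRing

section Basic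

variable (D : Type u) [CommRing D] (a : D)

/-- The ring `D[u, v]/(uv - a)`. -/
abbrev W : Type u := MvPolynomial (Fin 2) D ⧸ Ideal.span {(X 0 * X 1 - C a : MvPolynomial (Fin 2) D)}

/-- The class of `u`. -/
noncomputable def uu : W D a := Ideal.Quotient.mk _ (X 0)

/-- The class of `v`. -/
noncomputable def vv : W D a := Ideal.Quotient.mk _ (X 1)

theorem uu_mul_vv : uu D a * vv D a = algebraMap D (W D a) a := by
  change Ideal.Quotient.mk _ (X 0) * Ideal.Quotient.mk _ (X 1) = Ideal.Quotient.mk _ (C a)
  rw [← map_mul, Ideal.Quotient.eq]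
  exact Ideal.subset_span rfl

variable {D a} in
theorem uu_mul_vv' {b : D} (h : a = b) : uu D a * vv D a = algebraMap D (W D a) b :=
  (uu_mul_vv D a).trans (congrArg _ h)

variable {D a} in
theorem hom_ext {B : Type*} [CommRing B] {f g : W D a →+* B}
    (hD : ∀ d, f (algebraMap D _ d) = g (algebraMap D _ d)) (hu : f (uu D a) = g (uu D a))
    (hv : f (vv D a) = g (vv D a)) : f = g := by
  apply Ideal.Quotient.ringHom_ext
  apply MvPolynomial.ringHom_ext
  · exact hD
  · intro i
    fin_cases i
    · exact hu
    · exact hv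

variable {D a} in
/-- Ring maps out of `W D a`. -/
noncomputable def lift {B : Type*} [CommRing B] (φ : D →+* B) (x y : B) (h : x * y = φ a) : W D a →+* B :=
  Ideal.Quotient.lift _ (eval₂Hom φ ![x, y]) (by
    intro p hp
    rw [← RingHom.mem_ker]
    revert p
    change Ideal.span _ ≤ RingHom.ker _
    rw [Ideal.span_le, Set.singleton_subset_iff, SetLike.mem_coe, RingHom.mem_ker]
    simp [h])

variable {D a} in
@[simp] theorem lift_algebraMap {B : Type*} [CommRing B] (φ : D →+* B) (x y : B)
    (h : x * y = φ a) (d : D) : lift φ x y h (algebraMap D (W D a) d) = φ d := by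
  change Ideal.Quotient.lift _ _ _ (Ideal.Quotient.mk _ (C d)) = _
  simp

variable {D a} in
@[simp] theorem lift_uu {B : Type*} [CommRing B] (φ : D →+* B) (x y : B)
    (h : x * y = φ a) : lift φ x y h (uu D a) = x := by
  change Ideal.Quotient.lift _ _ _ (Ideal.Quotient.mk _ (X 0)) = _
  simp

variable {D a} in
@[simp] theorem lift_vv {B : Type*} [CommRing B] (φ : D →+* B) (x y : B)
    (h : x * y = φ a) : lift φ x y h (vv D a) = y := by
  change Ideal.Quotient.lift _ _ _ (Ideal.Quotient.mk _ (X 1)) = _
  simp

theorem algebraMap_injective : Function.Injective (algebraMap D (W D a)) := by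
  have h : (lift (RingHom.id D) a 1 (by simp) : W D a →+* D).comp (algebraMap D (W D a)) =
      RingHom.id D := by
    ext d; simp
  intro x y hxy
  have := congr(lift (RingHom.id D) a 1 (by simp) $hxy)
  simpa using this

/-- Induction principle for `W D a`. -/
theorem induction {p : W D a → Prop} (hC : ∀ d, p (algebraMap D _ d))
    (hadd : ∀ x y, p x → p y → p (x + y)) (hu : ∀ x, p x → p (x * uu D a))
    (hv : ∀ x, p x → p (x * vv D a)) (x : W D a) : p x := by
  obtain ⟨q, rfl⟩ := Ideal.Quotient.mk_surjective x
  induction q using MvPolynomial.induction_on with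
  | C d => exact hC d
  | add q r hq hr => rw [map_add]; exact hadd _ _ hq hr
  | mul_X q i hq =>
    rw [map_mul]
    fin_cases i
    · exact hu _ hq
    · exact hv _ hq

instance [IsNoetherianRing D] : IsNoetherianRing (W D a) := inferInstance

/-- The swap of the two variables. -/
noncomputable def swap : W D a ≃+* W D a :=
  RingEquiv.ofRingHom
    (lift (algebraMap D _) (vv D a) (uu D a) (by rw [mul_comm, uu_mul_vv]))
    (lift (algebraMap D _) (vv D a) (uu D a) (by rw [mul_comm, uu_mul_vv]))
    (hom_ext (by simp) (by simp) (by simp))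
    (hom_ext (by simp) (by simp) (by simp))

@[simp] theorem swap_algebraMap (d : D) : swap D a (algebraMap D _ d) = algebraMap D _ d := by
  simp [swap]

@[simp] theorem swap_uu : swap D a (uu D a) = vv D a := by simp [swap]

@[simp] theorem swap_vv : swap D a (vv D a) = uu D a := by simp [swap]

end Basic

section Domain

variable (D : Type u) [CommRing D] [IsDomain D] (a : D)

theorem isDomain [UniqueFactorizationMonoid D] (ha : a ≠ 0) : IsDomain (W D a) := by
  have hirr : Irreducible (X 0 * X 1 - C a : MvPolynomial (Fin 2) D) := by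
    rw [sub_eq_add_neg, ← C_neg]
    apply irreducible_mul_X_add
    · exact X_ne_zero _
    · simp
    · simp
    · intro p hp0 hp1
      rw [C_neg, dvd_neg] at hp1
      have hprime : Prime (X 0 : MvPolynomial (Fin 2) D) := X_prime
      obtain ⟨q, hq⟩ := hp0
      rcases hprime.irreducible.isUnit_or_isUnit hq with h | h
      · exact h
      · exfalso
        have h1 : (X 0 : MvPolynomial (Fin 2) D) ∣ C a := by
          have : Associated (X 0 : MvPolynomial (Fin 2) D) p := by
            rw [hq]
            exact associated_mul_unit_left _ _ h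
          exact this.dvd.trans hp1
        obtain ⟨r, hr⟩ := h1
        have h2 := congr(eval (fun _ => (0 : D)) $hr)
        simp at h2
        exact ha h2
  have hprime := UniqueFactorizationMonoid.irreducible_iff_prime.1 hirr
  have : (Ideal.span {(X 0 * X 1 - C a : MvPolynomial (Fin 2) D)}).IsPrime :=
    (Ideal.span_singleton_prime hirr.ne_zero).2 hprime
  infer_instance

end Domain


section Loc

variable (D : Type u) [CommRing D] (a : D)

theorem exists_mul_pow_eq (w : W D a) :
    ∃ (n : ℕ) (p : Polynomial D), w * uu D a ^ n = Polynomial.aeval (uu D a) p := by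
  induction w using induction with
  | hC d => exact ⟨0, Polynomial.C d, by simp⟩
  | hadd x y hx hy =>
    obtain ⟨n, p, hp⟩ := hx
    obtain ⟨m, q, hq⟩ := hy
    refine ⟨n + m, p * Polynomial.X ^ m + q * Polynomial.X ^ n, ?_⟩
    rw [map_add, map_mul, map_mul, map_pow, map_pow, Polynomial.aeval_X, ← hp, ← hq]
    ring
  | hu x hx =>
    obtain ⟨n, p, hp⟩ := hx
    refine ⟨n, p * Polynomial.X, ?_⟩
    rw [map_mul, Polynomial.aeval_X, ← hp]
    ring
  | hv x hx =>
    obtain ⟨n, p, hp⟩ := hx
    refine ⟨n + 1, p * Polynomial.C a, ?_⟩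
    rw [map_mul, Polynomial.aeval_C, ← hp, ← uu_mul_vv]
    ring

/-- The map `W D a → D[X, 1/X]`. -/
noncomputable def toS : W D a →+* Localization.Away (Polynomial.X : Polynomial D) :=
  lift ((algebraMap (Polynomial D) _).comp Polynomial.C) (algebraMap _ _ Polynomial.X)
    (algebraMap _ _ (Polynomial.C a) * IsLocalization.Away.invSelf Polynomial.X) (by
      have := IsLocalization.Away.mul_invSelf (S := Localization.Away (Polynomial.X : Polynomial D))
        (Polynomial.X : Polynomial D)
      rw [RingHom.comp_apply]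
      linear_combination (algebraMap _ _ (Polynomial.C a)) * this)

theorem toS_aeval (p : Polynomial D) : toS D a (Polynomial.aeval (uu D a) p) =
    algebraMap _ _ p := by
  induction p using Polynomial.induction_on' with
  | add p q hp hq => rw [map_add, map_add, hp, hq, map_add]
  | monomial n d =>
    rw [Polynomial.aeval_monomial, map_mul, map_pow, ← Polynomial.C_mul_X_pow_eq_monomial, map_mul,
      map_pow]
    simp [toS]

theorem isLocalization_toS :
    @IsLocalization.Away (W D a) _ (uu D a) (Localization.Away (Polynomial.X : Polynomial D)) _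
      (toS D a).toAlgebra := by
  let _ := (toS D a).toAlgebra
  have hu : IsUnit (toS D a (uu D a)) := by
    simp only [toS, lift_uu]
    exact IsLocalization.Away.algebraMap_isUnit _
  refine ⟨?_, ?_, ?_⟩
  · rintro ⟨_, n, rfl⟩
    change IsUnit (toS D a (uu D a ^ n))
    rw [map_pow]
    exact hu.pow n
  · intro z
    obtain ⟨⟨p, ⟨_, n, rfl⟩⟩, hp⟩ := IsLocalization.surj (Submonoid.powers (Polynomial.X : Polynomial D)) z
    refine ⟨⟨Polynomial.aeval (uu D a) p, ⟨_, n, rfl⟩⟩, ?_⟩
    change z * toS D a (uu D a ^ n) = toS D a (Polynomial.aeval (uu D a) p)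
    rw [toS_aeval, ← hp]
    simp [toS]
  · intro x y hxy
    change toS D a x = toS D a y at hxy
    obtain ⟨n, p, hp⟩ := exists_mul_pow_eq D a (x - y)
    have h1 : algebraMap (Polynomial D) (Localization.Away (Polynomial.X : Polynomial D)) p = 0 := by
      rw [← toS_aeval, ← hp, map_mul, map_sub, hxy, sub_self, zero_mul]
    obtain ⟨⟨_, m, rfl⟩, hm⟩ := (IsLocalization.map_eq_zero_iff
      (Submonoid.powers (Polynomial.X : Polynomial D)) _ p).1 h1
    refine ⟨⟨_, n + m, rfl⟩, ?_⟩
    have h2 := congrArg (Polynomial.aeval (uu D a)) hm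
    simp only [map_mul, map_pow, Polynomial.aeval_X, map_zero] at h2
    rw [← hp] at h2
    change uu D a ^ (n + m) * x = uu D a ^ (n + m) * y
    linear_combination h2

/-- If `D` is regular, the local rings of `W D a` at primes not containing `u` are regular. -/
theorem isRegular_of_uu_notMem [IsRegularRing D] (P : Ideal (W D a)) [P.IsPrime]
    (h : uu D a ∉ P) : IsRegularLocalRing (Localization.AtPrime P) := by
  let _ := (toS D a).toAlgebra
  have := isLocalization_toS D a
  have hS : IsRegularRing (Localization.Away (Polynomial.X : Polynomial D)) := by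
    have : Algebra.Etale (Polynomial D) (Localization.Away (Polynomial.X : Polynomial D)) :=
      Algebra.Etale.of_isLocalizationAway (Polynomial.X : Polynomial D)
    exact Groth.Agent.Ega4A.RegEtale.isRegularRing_of_etale (Polynomial D) _
  let e : Localization.Away (Polynomial.X : Polynomial D) ≃ₐ[W D a] Localization.Away (uu D a) :=
    IsLocalization.algEquiv (Submonoid.powers (uu D a)) _ _
  have := IsRegularRing.of_ringEquiv e.toRingEquiv
  exact Groth.Agent.Ega4A.RegEtale.isRegularLocalRing_atPrime_of_away (W D a) (uu D a) P h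

/-- If `D` is regular, the local rings of `W D a` at primes not containing `v` are regular. -/
theorem isRegular_of_vv_notMem [IsRegularRing D] (P : Ideal (W D a)) [P.IsPrime]
    (h : vv D a ∉ P) : IsRegularLocalRing (Localization.AtPrime P) := by
  have h2 : uu D a ∉ P.comap (swap D a) := by
    rw [Ideal.mem_comap]
    simpa using h
  have h3 := isRegular_of_uu_notMem D a _ h2
  have e : Localization.AtPrime (P.comap (swap D a)) ≃+* Localization.AtPrime P :=
    IsLocalization.ringEquivOfRingEquiv _ _ (swap D a) ((swap D a).map_primeCompl_comap_eq P)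
  exact IsRegularLocalRing.of_ringEquiv (R := Localization.AtPrime (P.comap (swap D a))) e

end Loc


section Dvr

variable (D : Type u) [CommRing D] [IsDomain D] [IsDiscreteValuationRing D] (t : D)
  (ht : Irreducible t)

theorem uu_ne_zero {D : Type u} [CommRing D] {a : D} (ha : a ≠ 0) : uu D a ≠ 0 := by
  intro h
  have := uu_mul_vv D a
  rw [h, zero_mul, ← map_zero (algebraMap D (W D a))] at this
  exact ha (algebraMap_injective D a this).symm

/-- Every element is congruent to a constant modulo `(u, v)`. -/
theorem exists_sub_mem {D : Type u} [CommRing D] {a : D} (w : W D a) :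
    ∃ d : D, w - algebraMap D _ d ∈ Ideal.span {uu D a, vv D a} := by
  induction w using induction with
  | hC d => exact ⟨d, by simp⟩
  | hadd x y hx hy =>
    obtain ⟨c, hc⟩ := hx
    obtain ⟨d, hd⟩ := hy
    refine ⟨c + d, ?_⟩
    have := add_mem hc hd
    rw [map_add]
    convert this using 1
    ring
  | hu x hx =>
    refine ⟨0, ?_⟩
    rw [map_zero, sub_zero]
    exact Ideal.mul_mem_left _ _ (Ideal.subset_span (by simp))
  | hv x hx =>
    refine ⟨0, ?_⟩
    rw [map_zero, sub_zero]
    exact Ideal.mul_mem_left _ _ (Ideal.subset_span (by simp))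

include ht in
theorem comap_eq_span {a : D} (P : Ideal (W D a)) [P.IsPrime] (htP : algebraMap D (W D a) t ∈ P) :
    P.comap (algebraMap D (W D a)) = Ideal.span {t} := by
  have hmaxD : IsLocalRing.maximalIdeal D = Ideal.span {t} :=
    (IsDiscreteValuationRing.irreducible_iff_uniformizer t).1 ht
  symm
  apply Ideal.IsMaximal.eq_of_le
  · rw [← hmaxD]; infer_instance
  · exact (Ideal.IsPrime.comap (algebraMap D (W D a))).ne_top
  · rw [Ideal.span_singleton_le_iff_mem]
    exact htP

include ht in
/-- A prime containing `u`, `v` and `t` is `(u, v, t)`. -/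
theorem eq_span_of_mem {a : D} (P : Ideal (W D a)) [P.IsPrime] (hu : uu D a ∈ P) (hv : vv D a ∈ P)
    (htP : algebraMap D (W D a) t ∈ P) : P = Ideal.span {uu D a, vv D a, algebraMap D _ t} := by
  apply le_antisymm
  · intro w hw
    obtain ⟨d, hd⟩ := exists_sub_mem w
    have hle : Ideal.span {uu D a, vv D a} ≤ P := by
      rw [Ideal.span_le]
      rintro x (rfl | rfl)
      · exact hu
      · exact hv
    have h1 : algebraMap D (W D a) d ∈ P := by
      have := P.sub_mem hw (hle hd)
      simpa using this
    have h2 : d ∈ Ideal.span {t} := by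
      rw [← comap_eq_span D t ht P htP]
      exact h1
    obtain ⟨c, rfl⟩ := Ideal.mem_span_singleton.1 h2
    have h3 : algebraMap D (W D a) (t * c) ∈ Ideal.span {uu D a, vv D a, algebraMap D _ t} := by
      rw [map_mul]
      exact Ideal.mul_mem_right _ _ (Ideal.subset_span (by simp))
    have h4 : w - algebraMap D (W D a) (t * c) ∈ Ideal.span {uu D a, vv D a, algebraMap D _ t} :=
      Ideal.span_mono (by
        rintro x (rfl | rfl)
        · simp
        · simp) hd
    have := add_mem h4 h3
    simpa using this
  · rw [Ideal.span_le]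
    rintro x (rfl | rfl | rfl)
    · exact hu
    · exact hv
    · exact htP

include ht in
/-- `D[u,v]/(uv - t)` is regular at the origin. -/
theorem isRegular_one (P : Ideal (W D t)) [P.IsPrime] : IsRegularLocalRing (Localization.AtPrime P) := by
  classical
  by_cases hu : uu D t ∉ P
  · exact isRegular_of_uu_notMem D t P hu
  by_cases hv : vv D t ∉ P
  · exact isRegular_of_vv_notMem D t P hv
  push Not at hu hv
  have hdom : IsDomain (W D t) := isDomain D t ht.ne_zero
  -- P = (u, v)
  have htP : algebraMap D (W D t) t ∈ P := by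
    rw [← uu_mul_vv]
    exact P.mul_mem_right _ hu
  have hmaxD : IsLocalRing.maximalIdeal D = Ideal.span {t} :=
    (IsDiscreteValuationRing.irreducible_iff_uniformizer t).1 ht
  have hspan : P = Ideal.span {uu D t, vv D t} := by
    rw [eq_span_of_mem D t ht P hu hv htP]
    apply le_antisymm
    · rw [Ideal.span_le]
      rintro x (rfl | rfl | rfl)
      · exact Ideal.subset_span (by simp)
      · exact Ideal.subset_span (by simp)
      · rw [← uu_mul_vv]
        exact Ideal.mul_mem_right _ _ (Ideal.subset_span (by simp))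
    · exact Ideal.span_mono (by
        rintro x (rfl | rfl)
        · simp
        · simp)
  -- a prime strictly in between
  let k := D ⧸ Ideal.span {t}
  have hk : IsDomain k := by
    have : (Ideal.span {t}).IsPrime := by rw [← hmaxD]; infer_instance
    infer_instance
  let ψ : W D t →+* Polynomial k :=
    lift (Polynomial.C.comp (Ideal.Quotient.mk _)) 0 Polynomial.X (by
      rw [zero_mul, RingHom.comp_apply, Ideal.Quotient.eq_zero_iff_mem.2
        (Ideal.mem_span_singleton_self t), map_zero])
  let Q := RingHom.ker ψ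
  have hQ : Q.IsPrime := RingHom.ker_isPrime ψ
  have hQP : Q < P := by
    refine lt_of_le_of_ne ?_ ?_
    · intro w hw
      obtain ⟨d, hd⟩ := exists_sub_mem w
      have h1 : (Polynomial.evalRingHom 0).comp ψ w = 0 := by
        rw [RingHom.comp_apply, (RingHom.mem_ker).1 hw, map_zero]
      have h2 : (Polynomial.evalRingHom 0).comp ψ (w - algebraMap D _ d) = 0 := by
        have hle : Ideal.span {uu D t, vv D t} ≤ RingHom.ker ((Polynomial.evalRingHom 0).comp ψ) := by
          rw [Ideal.span_le]
          rintro x (rfl | rfl)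
          · simp [ψ]
          · simp [ψ]
        exact hle hd
      rw [map_sub, h1, zero_sub, neg_eq_zero] at h2
      have h3 : (Ideal.Quotient.mk (Ideal.span {t})) d = 0 := by
        simpa [ψ] using h2
      rw [Ideal.Quotient.eq_zero_iff_mem] at h3
      obtain ⟨c, rfl⟩ := Ideal.mem_span_singleton.1 h3
      have h4 : algebraMap D (W D t) (t * c) ∈ P := by
        rw [map_mul]
        exact P.mul_mem_right _ htP
      rw [← hspan] at hd
      have := P.add_mem hd h4
      simpa using this
    · intro h
      have : vv D t ∈ Q := by rw [h]; exact hv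
      rw [RingHom.mem_ker] at this
      simp [ψ] at this
  have hQ0 : ⊥ < Q := by
    rw [bot_lt_iff_ne_bot]
    intro h
    have : uu D t ∈ Q := by
      rw [RingHom.mem_ker]
      simp [ψ]
    rw [h, Ideal.mem_bot] at this
    exact uu_ne_zero ht.ne_zero this
  have hheight : (2 : ℕ∞) ≤ P.height := by
    have h1 := Ideal.height_add_one_le_of_lt_of_isPrime hQ0
    have h2 := Ideal.height_add_one_le_of_lt_of_isPrime hQP
    calc (2 : ℕ∞) = 0 + 1 + 1 := by norm_num
      _ ≤ (⊥ : Ideal (W D t)).height + 1 + 1 := by gcongr; exact zero_le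
      _ ≤ Q.height + 1 := by gcongr
      _ ≤ P.height := h2
  apply IsRegularLocalRing.of_spanFinrank_maximalIdeal_le
  rw [IsLocalization.AtPrime.ringKrullDim_eq_height P (Localization.AtPrime P)]
  have h4 : IsLocalRing.maximalIdeal (Localization.AtPrime P) =
      Ideal.span {algebraMap _ _ (uu D t), algebraMap _ _ (vv D t)} := by
    rw [← Localization.AtPrime.map_eq_maximalIdeal, ← Set.image_pair, ← Ideal.map_span]
    exact congrArg _ hspan
  have h5 : (IsLocalRing.maximalIdeal (Localization.AtPrime P)).spanFinrank ≤ 2 := by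
    rw [h4]
    refine (Submodule.spanFinrank_span_le_ncard_of_finite (Set.toFinite _)).trans ?_
    exact (Set.ncard_insert_le _ _).trans (by simp)
  have h6 : (((IsLocalRing.maximalIdeal (Localization.AtPrime P)).spanFinrank : ℕ) : ℕ∞) ≤ P.height :=
    le_trans (by exact_mod_cast h5) hheight
  exact_mod_cast h6


theorem isRegular_of_isUnit {D : Type u} [CommRing D] [IsRegularRing D] {a : D} (ha : IsUnit a)
    (P : Ideal (W D a)) [P.IsPrime] : IsRegularLocalRing (Localization.AtPrime P) := by
  apply isRegular_of_uu_notMem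
  intro h
  have h1 : algebraMap D (W D a) a ∈ P := by
    rw [← uu_mul_vv]
    exact P.mul_mem_right _ h
  exact (inferInstance : P.IsPrime).ne_top (P.eq_top_of_isUnit_mem h1 (ha.map _))

/-- `D[u,v]/(uv)` is not regular at any prime containing `u` and `v`. -/
theorem not_isRegular_zero {D : Type u} [CommRing D] {a : D} (ha : a = 0) (P : Ideal (W D a)) [P.IsPrime]
    (hu : uu D a ∈ P) (hv : vv D a ∈ P) : ¬ IsRegularLocalRing (Localization.AtPrime P) := by
  intro hreg
  have hdom := Groth.Agent.CalgA.RegBasic.isDomain (Localization.AtPrime P)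
  have h0 : algebraMap (W D a) (Localization.AtPrime P) (uu D a) *
      algebraMap (W D a) (Localization.AtPrime P) (vv D a) = 0 := by
    rw [← map_mul, uu_mul_vv' ha, map_zero, map_zero]
  -- the general contradiction
  have key : ∀ (g : W D a →+* Polynomial D) (w : W D a), g (uu D a) ∈ Ideal.span {Polynomial.X} →
      g (vv D a) ∈ Ideal.span {Polynomial.X} → (∀ d, g (algebraMap D _ d) = Polynomial.C d) →
      g w = Polynomial.X → algebraMap (W D a) (Localization.AtPrime P) w ≠ 0 := by
    intro g w hgu hgv hgC hgw hw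
    obtain ⟨s, hs⟩ := (IsLocalization.map_eq_zero_iff P.primeCompl _ w).1 hw
    have h1 := congrArg g hs
    rw [map_mul, hgw, map_zero] at h1
    have h2 : g s = 0 := by
      have := Polynomial.isRegular_X (R := D) |>.right
      apply this
      simpa using h1
    obtain ⟨d, hd⟩ := exists_sub_mem (s : W D a)
    have h3 : g (s - algebraMap D _ d) ∈ Ideal.span {Polynomial.X} := by
      have hle : Ideal.span {uu D a, vv D a} ≤ (Ideal.span {Polynomial.X}).comap g := by
        rw [Ideal.span_le]
        rintro x (rfl | rfl)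
        · exact hgu
        · exact hgv
      exact hle hd
    rw [map_sub, h2, hgC, zero_sub] at h3
    have h4 : d = 0 := by
      rw [Ideal.mem_span_singleton, Polynomial.X_dvd_iff] at h3
      simpa using h3
    apply s.2
    rw [h4, map_zero, sub_zero] at hd
    have hle : Ideal.span {uu D a, vv D a} ≤ P := by
      rw [Ideal.span_le]
      rintro x (rfl | rfl)
      · exact hu
      · exact hv
    exact hle hd
  rcases mul_eq_zero.1 h0 with h | h
  · refine key (lift Polynomial.C Polynomial.X 0 (by simp [ha])) _ ?_ ?_ ?_ ?_ h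
    · simp
    · simp
    · simp
    · simp
  · refine key (lift Polynomial.C 0 Polynomial.X (by simp [ha])) _ ?_ ?_ ?_ ?_ h
    · simp
    · simp
    · simp
    · simp

/-- In a regular local ring an element of `m` not in `m ^ 2` is prime. -/
theorem dvd_or_dvd {A : Type u} [CommRing A] [IsRegularLocalRing A] {x U V : A}
    (hx : x ∈ IsLocalRing.maximalIdeal A) (hx2 : x ∉ IsLocalRing.maximalIdeal A ^ 2)
    (h : x ∣ U * V) : x ∣ U ∨ x ∣ V := by
  have hreg := Groth.Agent.Ega4dA.RegQuot.isRegularLocalRing_quotient A x hx hx2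
  have hdom := Groth.Agent.CalgA.RegBasic.isDomain (A ⧸ Ideal.span {x})
  rw [← Ideal.mem_span_singleton, ← Ideal.Quotient.eq_zero_iff_mem, map_mul, mul_eq_zero,
    Ideal.Quotient.eq_zero_iff_mem, Ideal.Quotient.eq_zero_iff_mem, Ideal.mem_span_singleton,
    Ideal.mem_span_singleton] at h
  exact h

include ht in
/-- Test maps out of the local ring at the origin. -/
theorem exists_localLift {a : D} (P : Ideal (W D a)) [P.IsPrime] (A : Type u) [CommRing A]
    [Algebra (W D a) A] [IsLocalization.AtPrime A P] (hu : uu D a ∈ P)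
    (hv : vv D a ∈ P) (htP : algebraMap D (W D a) t ∈ P) {B : Type*} [CommRing B] [IsLocalRing B]
    (g : W D a →+* B) (hgu : g (uu D a) ∈ IsLocalRing.maximalIdeal B)
    (hgv : g (vv D a) ∈ IsLocalRing.maximalIdeal B)
    (hgt : g (algebraMap D (W D a) t) ∈ IsLocalRing.maximalIdeal B) :
    ∃ G : A →+* B, ∀ w, G (algebraMap _ _ w) = g w := by
  have hcomap : P = (IsLocalRing.maximalIdeal B).comap g := by
    have : ((IsLocalRing.maximalIdeal B).comap g).IsPrime := inferInstance
    rw [eq_span_of_mem D t ht P hu hv htP,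
      eq_span_of_mem D t ht ((IsLocalRing.maximalIdeal B).comap g) hgu hgv hgt]
  have hunit : ∀ y : P.primeCompl, IsUnit (g y) := by
    rintro ⟨y, hy⟩
    by_contra hn
    apply hy
    rw [hcomap]
    exact hn
  exact ⟨IsLocalization.lift (M := P.primeCompl) hunit, fun w => IsLocalization.lift_eq hunit w⟩

include ht in
theorem notMem_sq {a : D} (k : ℕ) (hk : 2 ≤ k) (ha : a = t ^ k) (P : Ideal (W D a))
    [P.IsPrime] (A : Type u) [CommRing A] [IsLocalRing A]
    [Algebra (W D a) A] [IsLocalization.AtPrime A P] (hu : uu D a ∈ P) (hv : vv D a ∈ P)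
    (htP : algebraMap D (W D a) t ∈ P) :
    algebraMap (W D a) A (algebraMap D (W D a) t) ∉ IsLocalRing.maximalIdeal A ^ 2 := by
  let B := D ⧸ Ideal.span {t ^ 2}
  have hne : Ideal.span {t ^ 2} ≠ ⊤ := by
    rw [Ne, Ideal.span_singleton_eq_top, isUnit_pow_iff two_ne_zero]
    exact ht.not_isUnit
  have : Nontrivial B := Ideal.Quotient.nontrivial_iff.2 hne
  have hBloc : IsLocalRing B := IsLocalRing.of_surjective' _ Ideal.Quotient.mk_surjective
  let g : W D a →+* B := lift (Ideal.Quotient.mk _) 0 0 (by
    rw [zero_mul, eq_comm, Ideal.Quotient.eq_zero_iff_mem, Ideal.mem_span_singleton, ha]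
    exact pow_dvd_pow t hk)
  have hgt : g (algebraMap D _ t) ∈ IsLocalRing.maximalIdeal B := by
    rw [IsLocalRing.mem_maximalIdeal, mem_nonunits_iff]
    intro h
    have h2 : g (algebraMap D _ t) ^ 2 = 0 := by
      rw [← map_pow, ← map_pow]
      simp only [g, lift_algebraMap]
      exact Ideal.Quotient.eq_zero_iff_mem.2 (Ideal.mem_span_singleton_self _)
    exact (h.pow 2).ne_zero h2
  obtain ⟨G, hG⟩ := exists_localLift D t ht P A hu hv htP g (by simp [g]) (by simp [g]) hgt
  intro hcon
  have h1 : IsLocalRing.maximalIdeal A ≤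
      (Ideal.span {Ideal.Quotient.mk (Ideal.span {t ^ 2}) t}).comap G := by
    rw [← IsLocalization.AtPrime.map_eq_maximalIdeal P A, Ideal.map_le_iff_le_comap]
    conv_lhs => rw [eq_span_of_mem D t ht P hu hv htP]
    rw [Ideal.span_le]
    rintro w (rfl | rfl | rfl)
    · simp only [SetLike.mem_coe, Ideal.mem_comap, hG]
      simp [g]
    · simp only [SetLike.mem_coe, Ideal.mem_comap, hG]
      simp [g]
    · simp only [SetLike.mem_coe, Ideal.mem_comap, hG]
      simp [g]
  have h2 : IsLocalRing.maximalIdeal A ^ 2 ≤ RingHom.ker G := by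
    rw [pow_two]
    rw [Ideal.mul_le]
    intro r hr s hs
    rw [RingHom.mem_ker, map_mul]
    obtain ⟨r', hr'⟩ := Ideal.mem_span_singleton.1 (h1 hr)
    obtain ⟨s', hs'⟩ := Ideal.mem_span_singleton.1 (h1 hs)
    have h3 : Ideal.Quotient.mk (Ideal.span {t ^ 2}) t * Ideal.Quotient.mk (Ideal.span {t ^ 2}) t = 0 := by
      rw [← map_mul, ← pow_two]
      exact Ideal.Quotient.eq_zero_iff_mem.2 (Ideal.mem_span_singleton_self _)
    rw [hr', hs']
    linear_combination r' * s' * h3
  have h3 := h2 hcon
  rw [RingHom.mem_ker, hG] at h3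
  simp only [g, lift_algebraMap] at h3
  rw [Ideal.Quotient.eq_zero_iff_mem, Ideal.mem_span_singleton] at h3
  obtain ⟨c, hc⟩ := h3
  have h4 : t * (t * c) = t * 1 := by
    rw [mul_one]
    calc t * (t * c) = t ^ 2 * c := by ring
      _ = t := hc.symm
  have h5 := mul_left_cancel₀ ht.ne_zero h4
  exact ht.not_isUnit (IsUnit.of_mul_eq_one _ h5)

include ht in
theorem not_isRegular_aux {a : D} (k : ℕ) (hk : 2 ≤ k) (ha : a = t ^ k) (P : Ideal (W D a))
    [P.IsPrime] (A : Type u) [CommRing A] [IsRegularLocalRing A]
    [Algebra (W D a) A] [IsLocalization.AtPrime A P] (hu : uu D a ∈ P) (hv : vv D a ∈ P) :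
    False := by
  have htP : algebraMap D (W D a) t ∈ P := by
    have h1 : algebraMap D (W D a) t ^ k ∈ P := by
      rw [← map_pow, ← uu_mul_vv' ha]
      exact P.mul_mem_right _ hu
    exact (inferInstance : P.IsPrime).mem_of_pow_mem _ h1
  have hmaxD : IsLocalRing.maximalIdeal D = Ideal.span {t} :=
    (IsDiscreteValuationRing.irreducible_iff_uniformizer t).1 ht
  have hx : algebraMap (W D a) A (algebraMap D (W D a) t) ∈ IsLocalRing.maximalIdeal A := by
    rw [← IsLocalization.AtPrime.map_eq_maximalIdeal P A]
    exact Ideal.mem_map_of_mem _ htP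
  have hx2 := notMem_sq D t ht k hk ha P A hu hv htP
  have hk0 : k ≠ 0 := by omega
  have h0 : algebraMap (W D a) A (algebraMap D (W D a) t) ∣ algebraMap _ A (uu D a) *
      algebraMap _ A (vv D a) := by
    rw [← map_mul, uu_mul_vv' ha, map_pow, map_pow]
    exact dvd_pow_self _ hk0
  have key : ∀ (g : W D a →+* PowerSeries (IsLocalRing.ResidueField D)) (w : W D a),
      g (uu D a) ∈ IsLocalRing.maximalIdeal _ → g (vv D a) ∈ IsLocalRing.maximalIdeal _ →
      g (algebraMap D _ t) = 0 → g w ≠ 0 →
      ¬ algebraMap (W D a) A (algebraMap D (W D a) t) ∣ algebraMap _ A w := by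
    intro g w hgu hgv hgt hgw hw
    obtain ⟨G, hG⟩ := exists_localLift D t ht P A hu hv htP g hgu hgv
      (by rw [hgt]; exact zero_mem _)
    obtain ⟨c, hc⟩ := hw
    have h1 := congrArg G hc
    rw [map_mul, hG, hG, hgt, zero_mul] at h1
    exact hgw h1
  have hXmem : (PowerSeries.X : PowerSeries (IsLocalRing.ResidueField D)) ∈
      IsLocalRing.maximalIdeal (PowerSeries (IsLocalRing.ResidueField D)) := by
    rw [IsLocalRing.mem_maximalIdeal, mem_nonunits_iff, PowerSeries.isUnit_iff_constantCoeff]
    simp
  have htk : ((PowerSeries.C (R := IsLocalRing.ResidueField D)).comp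
      (IsLocalRing.residue D)) t = 0 := by
    rw [RingHom.comp_apply, (IsLocalRing.residue_eq_zero_iff t).2, map_zero]
    rw [hmaxD]
    exact Ideal.mem_span_singleton_self t
  rcases dvd_or_dvd hx hx2 h0 with h | h
  · refine key (lift ((PowerSeries.C (R := IsLocalRing.ResidueField D)).comp
      (IsLocalRing.residue D)) PowerSeries.X 0 (by
        rw [mul_zero, ha, map_pow, htk, zero_pow hk0])) _ ?_ ?_ ?_ ?_ h
    · simpa using hXmem
    · simp
    · rw [lift_algebraMap, htk]
    · rw [lift_uu]
      exact PowerSeries.X_ne_zero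
  · refine key (lift ((PowerSeries.C (R := IsLocalRing.ResidueField D)).comp
      (IsLocalRing.residue D)) 0 PowerSeries.X (by
        rw [zero_mul, ha, map_pow, htk, zero_pow hk0])) _ ?_ ?_ ?_ ?_ h
    · simp
    · simpa using hXmem
    · rw [lift_algebraMap, htk]
    · rw [lift_vv]
      exact PowerSeries.X_ne_zero

include ht in
/-- `D[u,v]/(uv - t^k)` is not regular at the origin if `k ≥ 2`. -/
theorem not_isRegular_origin {a : D} (k : ℕ) (hk : 2 ≤ k) (ha : a = t ^ k) (P : Ideal (W D a))
    [P.IsPrime] (hu : uu D a ∈ P) (hv : vv D a ∈ P) :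
    ¬ IsRegularLocalRing (Localization.AtPrime P) := fun _ =>
  not_isRegular_aux D t ht k hk ha P (Localization.AtPrime P) hu hv

end Dvr

end Groth.Agent.Models.NodeRing
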