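import Mathlib.RingTheory.AdjoinRoot
import Mathlib.RingTheory.Flat.Stability
import Mathlib.RingTheory.Polynomial.Quotient
import Groth.Agent.Models.NodeRing

/-!
`W D a = D[u, v]/(uv - a)` is finite free over `D[X]`, `X ↦ u + v`; node-likeness at the origin.
-/

set_option autoImplicit false
universe u

open Polynomial

namespace Groth.Agent.Models.NodeNodalA

open NodeRing

variable (D : Type u) [CommRing D] (a : D)

/-- The coordinate `u + v`. -/
noncomputable def coord : Polynomial D →+* W D a :=
  Polynomial.eval₂RingHom (algebraMap D _) (uu D a + vv D a)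

theorem coord_C (d : D) : coord D a (C d) = algebraMap D _ d := by simp [coord]

theorem coord_X : coord D a X = uu D a + vv D a := by simp [coord]

/-- `T^2 - X T + a`. -/
noncomputable def poly : Polynomial (Polynomial D) := X ^ 2 - C X * X + C (C a)

theorem monic_poly : (poly D a).Monic := by
  nontriviality D
  have h : poly D a = X ^ 2 + (C (-X) * X + C (C a)) := by
    unfold poly
    rw [C_neg]
    ring
  rw [h]
  apply Polynomial.monic_X_pow_add
  refine lt_of_le_of_lt ?_ (b := (1 : WithBot ℕ)) (by decide)
  compute_degree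

/-- `W D a → D[X][T]/(T^2 - X T + a)`. -/
noncomputable def toAdj : W D a →+* AdjoinRoot (poly D a) :=
  lift ((AdjoinRoot.of (poly D a)).comp C) (AdjoinRoot.root (poly D a))
    (AdjoinRoot.of (poly D a) X - AdjoinRoot.root (poly D a)) (by
      have h : AdjoinRoot.mk (poly D a) (X ^ 2 - C X * X + C (C a)) = 0 := AdjoinRoot.mk_self
      rw [map_add, map_sub, map_mul, map_pow, AdjoinRoot.mk_X, AdjoinRoot.mk_C, AdjoinRoot.mk_C] at h
      rw [RingHom.comp_apply]
      linear_combination -h)

/-- `D[X][T]/(T^2 - X T + a) → W D a`. -/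
noncomputable def ofAdj : AdjoinRoot (poly D a) →+* W D a :=
  AdjoinRoot.lift (coord D a) (uu D a) (by
    simp only [poly, eval₂_add, eval₂_sub, eval₂_mul, eval₂_pow, eval₂_X, eval₂_C, coord_X, coord_C]
    have := uu_mul_vv D a
    linear_combination -this)

theorem toAdj_ofAdj (x : AdjoinRoot (poly D a)) : toAdj D a (ofAdj D a x) = x := by
  have : (toAdj D a).comp (ofAdj D a) = RingHom.id _ := by
    apply Ideal.Quotient.ringHom_ext
    apply Polynomial.ringHom_ext
    · intro p
      change toAdj D a (ofAdj D a (AdjoinRoot.of (poly D a) p)) = AdjoinRoot.of (poly D a) p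
      rw [ofAdj, AdjoinRoot.lift_of]
      induction p using Polynomial.induction_on' with
      | add p q hp hq => rw [map_add, map_add, map_add, hp, hq]
      | monomial n d =>
        rw [← C_mul_X_pow_eq_monomial, map_mul, map_pow, coord_C, coord_X]
        simp [toAdj]
    · change toAdj D a (ofAdj D a (AdjoinRoot.root (poly D a))) = AdjoinRoot.root (poly D a)
      rw [ofAdj, AdjoinRoot.lift_root]
      simp [toAdj]
  exact congr($this x)

theorem ofAdj_toAdj (x : W D a) : ofAdj D a (toAdj D a x) = x := by
  have : (ofAdj D a).comp (toAdj D a) = RingHom.id _ := by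
    apply hom_ext
    · intro d
      simp [toAdj, ofAdj, coord_C]
    · simp [toAdj, ofAdj]
    · simp [toAdj, ofAdj, coord_X]
  exact congr($this x)

/-- The isomorphism. -/
noncomputable def equiv : AdjoinRoot (poly D a) ≃+* W D a :=
  RingEquiv.ofRingHom (ofAdj D a) (toAdj D a) (RingHom.ext (ofAdj_toAdj D a))
    (RingHom.ext (toAdj_ofAdj D a))

theorem equiv_comp : (equiv D a : _ →+* W D a).comp (AdjoinRoot.of (poly D a)) = coord D a := by
  ext x
  · simp [equiv, ofAdj]
  · simp [equiv, ofAdj]

theorem coord_eq : coord D a = (equiv D a : _ →+* W D a).comp (AdjoinRoot.of (poly D a)) :=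
  (equiv_comp D a).symm

theorem finite_coord : (coord D a).Finite := by
  rw [coord_eq]
  refine RingHom.Finite.comp ?_ ?_
  · exact RingHom.Finite.of_surjective _ (equiv D a).surjective
  · have := (monic_poly D a).finite_adjoinRoot
    rw [← AdjoinRoot.algebraMap_eq]
    exact RingHom.finite_algebraMap.2 this

theorem flat_coord : (coord D a).Flat := by
  rw [coord_eq]
  refine RingHom.Flat.comp ?_ ?_
  · have := (monic_poly D a).free_adjoinRoot
    rw [← AdjoinRoot.algebraMap_eq]
    exact RingHom.flat_algebraMap_iff.2 inferInstance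
  · exact RingHom.Flat.of_bijective (equiv D a).bijective

instance : Module.Flat D (W D a) := by
  have h1 : (algebraMap D (Polynomial D)).Flat := RingHom.flat_algebraMap_iff.2 inferInstance
  have h2 := RingHom.Flat.comp h1 (flat_coord D a)
  have h3 : (coord D a).comp (algebraMap D (Polynomial D)) = algebraMap D (W D a) := by
    ext d
    exact coord_C D a d
  rw [h3] at h2
  exact RingHom.flat_algebraMap_iff.1 h2

end Groth.Agent.Models.NodeNodalA
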