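import Mathlib.RingTheory.KrullDimension.Polynomial
import Groth.Agent.Models.NodeNodalA
import Groth.Agent.CurvesB.NodeLike

/-!
Node-likeness of `k[u, v]/(uv)` at the origin.
-/

set_option autoImplicit false
universe u

open Polynomial IsLocalRing

namespace Groth.Agent.Models.NodeNodalB

open NodeRing

variable (k : Type u) [Field k]

theorem isPrime_span_uu {c : k} (hc : c = 0) : (Ideal.span {uu k c}).IsPrime := by
  subst hc
  -- the map `u ↦ 0, v ↦ X`
  let φ : W k 0 →+* Polynomial k := lift Polynomial.C 0 X (by simp)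
  have hφ : RingHom.ker φ = Ideal.span {uu k 0} := by
    apply le_antisymm
    · intro w hw
      -- every `w` is congruent to a polynomial in `v` modulo `u`
      obtain ⟨p, hp⟩ : ∃ p : Polynomial k, w - Polynomial.eval₂ (algebraMap k _) (vv k 0) p ∈
          Ideal.span {uu k (0 : k)} := by
        clear hw
        induction w using NodeRing.induction with
        | hC d => exact ⟨C d, by simp⟩
        | hadd x y hx hy =>
          obtain ⟨p, hp⟩ := hx
          obtain ⟨q, hq⟩ := hy
          refine ⟨p + q, ?_⟩
          rw [eval₂_add]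
          have := Ideal.add_mem _ hp hq
          convert this using 1
          ring
        | hu x hx =>
          refine ⟨0, ?_⟩
          rw [eval₂_zero, sub_zero]
          exact Ideal.mul_mem_left _ _ (Ideal.mem_span_singleton_self _)
        | hv x hx =>
          obtain ⟨p, hp⟩ := hx
          refine ⟨p * X, ?_⟩
          rw [eval₂_mul, eval₂_X, ← sub_mul]
          exact Ideal.mul_mem_right _ _ hp
      have hφu : φ (uu k 0) = 0 := by simp [φ]
      have h1 : φ (w - Polynomial.eval₂ (algebraMap k _) (vv k 0) p) = 0 := by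
        obtain ⟨r, hr⟩ := Ideal.mem_span_singleton.1 hp
        rw [hr, map_mul, hφu, zero_mul]
      rw [map_sub, RingHom.mem_ker.1 hw, zero_sub, neg_eq_zero] at h1
      have h2 : φ (Polynomial.eval₂ (algebraMap k _) (vv k 0) p) = p := by
        rw [Polynomial.hom_eval₂]
        have h3 : φ.comp (algebraMap k (W k 0)) = C := by
          ext d
          simp [φ]
        have h4 : φ (vv k 0) = X := by simp [φ]
        rw [h3, h4, eval₂_C_X]
      rw [h2] at h1
      rw [h1, eval₂_zero, sub_zero] at hp
      exact hp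
    · rw [Ideal.span_singleton_le_iff_mem, RingHom.mem_ker]
      simp [φ]
  rw [← hφ]
  exact RingHom.ker_isPrime φ

theorem isPrime_span_vv {c : k} (hc : c = 0) : (Ideal.span {vv k c}).IsPrime := by
  have h := isPrime_span_uu k hc
  have h2 : Ideal.span {vv k c} = (Ideal.span {uu k c}).comap (swap k c) := by
    have : (Ideal.span {uu k c}).comap (swap k c) = (Ideal.span {uu k c}).map (swap k c).symm :=
      Ideal.comap_symm (swap k c).symm
    rw [this, Ideal.map_span, Set.image_singleton]
    congr 2
    apply (swap k c).injective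
    simp
  rw [h2]
  exact Ideal.comap_isPrime _ _

theorem vv_notMem {c : k} (hc : c = 0) : vv k c ∉ Ideal.span {uu k c} := by
  subst hc
  intro h
  let φ : W k 0 →+* Polynomial k := lift Polynomial.C 0 X (by simp)
  obtain ⟨r, hr⟩ := Ideal.mem_span_singleton.1 h
  have := congr(φ $hr)
  simp [φ] at this

theorem uu_notMem {c : k} (hc : c = 0) : uu k c ∉ Ideal.span {vv k c} := by
  subst hc
  intro h
  let φ : W k 0 →+* Polynomial k := lift Polynomial.C X 0 (by simp)
  obtain ⟨r, hr⟩ := Ideal.mem_span_singleton.1 h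
  have := congr(φ $hr)
  simp [φ] at this

/-- Not-principality. -/
theorem not_isPrincipal {A : Type*} [CommRing A] [IsLocalRing A] (x y : A)
    (hm : maximalIdeal A = Ideal.span {x, y}) (hxy : x * y = 0) (hx : (Ideal.span {x}).IsPrime)
    (hy : (Ideal.span {y}).IsPrime) (hyx : y ∉ Ideal.span {x}) (hxy' : x ∉ Ideal.span {y}) (n : ℕ)
    (hn : 1 ≤ n) : ¬ (maximalIdeal A ^ n).IsPrincipal := by
  rintro ⟨g, hg⟩
  rw [Ideal.submodule_span_eq] at hg
  have hxm : x ∈ maximalIdeal A := hm ▸ Ideal.subset_span (by simp)
  have hym : y ∈ maximalIdeal A := hm ▸ Ideal.subset_span (by simp)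
  obtain ⟨h, hh⟩ := Ideal.mem_span_singleton.1 (hg ▸ Ideal.pow_mem_pow hxm n)
  obtain ⟨h', hh'⟩ := Ideal.mem_span_singleton.1 (hg ▸ Ideal.pow_mem_pow hym n)
  -- `g = α x^n + β y^n`
  have hgm : g ∈ Ideal.span {x ^ n, y ^ n} := by
    have h1 : maximalIdeal A ^ n ≤ Ideal.span {x ^ n, y ^ n} := by
      rw [hm]
      clear hh hh' hg
      induction n, hn using Nat.le_induction with
      | base => simp
      | succ n hn ih =>
        rw [pow_succ]
        refine (Ideal.mul_mono_left ih).trans ?_
        rw [Ideal.span_mul_span', Ideal.span_le]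
        rintro _ ⟨s, hs, t, ht, rfl⟩
        simp only [Set.mem_insert_iff, Set.mem_singleton_iff] at hs ht
        rcases hs with hs | hs <;> rcases ht with ht | ht
        · rw [hs, ht]
          exact Ideal.subset_span (by simp [pow_succ])
        · have : (x ^ n * y : A) = 0 := by
            obtain ⟨m, rfl⟩ := Nat.exists_eq_add_of_le' hn
            rw [pow_succ, mul_assoc, hxy, mul_zero]
          simp only [SetLike.mem_coe]
          rw [hs, ht, this]
          exact Ideal.zero_mem _
        · have : (y ^ n * x : A) = 0 := by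
            obtain ⟨m, rfl⟩ := Nat.exists_eq_add_of_le' hn
            rw [pow_succ, mul_assoc, mul_comm y x, hxy, mul_zero]
          simp only [SetLike.mem_coe]
          rw [hs, ht, this]
          exact Ideal.zero_mem _
        · rw [hs, ht]
          exact Ideal.subset_span (by simp [pow_succ])
    exact h1 (hg ▸ Ideal.mem_span_singleton_self g)
  obtain ⟨α, β, hαβ⟩ := Ideal.mem_span_pair.1 hgm
  -- `g ∉ (x)`
  have hgx : g ∉ Ideal.span {x} := by
    intro hgx
    have : y ^ n ∈ Ideal.span {x} := by
      rw [hh']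
      exact Ideal.mul_mem_right _ _ hgx
    exact hyx (hx.mem_of_pow_mem _ this)
  have hhx : h ∈ Ideal.span {x} := by
    have h1 : g * h ∈ Ideal.span {x} := by
      rw [← hh]
      exact Ideal.pow_mem_of_mem _ (Ideal.mem_span_singleton_self x) n hn
    exact (hx.mem_or_mem h1).resolve_left hgx
  obtain ⟨h'', rfl⟩ := Ideal.mem_span_singleton.1 hhx
  have hyx0 : y ^ n * x = 0 := by
    obtain ⟨m, rfl⟩ := Nat.exists_eq_add_of_le' hn
    rw [pow_succ, mul_assoc, mul_comm y x, hxy, mul_zero]
  have h2 : x ^ n * (1 - α * x * h'') = 0 := by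
    have : x ^ n = (α * x ^ n + β * y ^ n) * (x * h'') := by rw [hαβ]; exact hh
    linear_combination this + β * h'' * hyx0
  have h3 : IsUnit (1 - α * x * h'') := by
    by_contra hcon
    have h4 : 1 - α * x * h'' ∈ maximalIdeal A := hcon
    have h5 : α * x * h'' ∈ maximalIdeal A :=
      Ideal.mul_mem_right _ _ (Ideal.mul_mem_left _ _ hxm)
    have h6 := Ideal.add_mem _ h4 h5
    rw [sub_add_cancel] at h6
    exact (Ideal.ne_top_iff_one _).1 (maximalIdeal.isMaximal A).ne_top h6
  have h4 : x ^ n = 0 := by
    have := h3.mul_left_eq_zero.1 h2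
    exact this
  apply hxy'
  refine hy.mem_of_pow_mem n ?_
  rw [h4]
  exact Ideal.zero_mem _

theorem nodeLike (k : Type u) [Field k] {c : k} (hc : c = 0) (P : Ideal (W k c)) [P.IsPrime]
    (hP : P = Ideal.span {uu k c, vv k c}) (A : Type*) [CommRing A] [IsLocalRing A]
    [Algebra (W k c) A] [IsLocalization.AtPrime A P] : CurvesB.Node.NodeLike A := by
  have huP : uu k c ∈ P := hP ▸ Ideal.subset_span (by simp)
  have hvP : vv k c ∈ P := hP ▸ Ideal.subset_span (by simp)
  have hxy : algebraMap (W k c) A (uu k c) * algebraMap (W k c) A (vv k c) = 0 := by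
    rw [← map_mul, uu_mul_vv' hc, map_zero, map_zero]
  have hm : maximalIdeal A = Ideal.span {algebraMap (W k c) A (uu k c),
      algebraMap (W k c) A (vv k c)} := by
    rw [← IsLocalization.AtPrime.map_eq_maximalIdeal P A]
    conv_lhs => rw [hP]
    rw [Ideal.map_span, Set.image_pair]
  have hdu : Disjoint (P.primeCompl : Set (W k c)) (Ideal.span {uu k c} : Ideal (W k c)) := by
    rw [Set.disjoint_left]
    intro z hz hz'
    exact hz ((Ideal.span_singleton_le_iff_mem P).2 huP hz')
  have hdv : Disjoint (P.primeCompl : Set (W k c)) (Ideal.span {vv k c} : Ideal (W k c)) := by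
    rw [Set.disjoint_left]
    intro z hz hz'
    exact hz ((Ideal.span_singleton_le_iff_mem P).2 hvP hz')
  have hpu := isPrime_span_uu k hc
  have hpv := isPrime_span_vv k hc
  have hx : (Ideal.span {algebraMap (W k c) A (uu k c)}).IsPrime := by
    have := IsLocalization.isPrime_of_isPrime_disjoint P.primeCompl A _ hpu hdu
    rwa [Ideal.map_span, Set.image_singleton] at this
  have hy : (Ideal.span {algebraMap (W k c) A (vv k c)}).IsPrime := by
    have := IsLocalization.isPrime_of_isPrime_disjoint P.primeCompl A _ hpv hdv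
    rwa [Ideal.map_span, Set.image_singleton] at this
  have hyx : algebraMap (W k c) A (vv k c) ∉ Ideal.span {algebraMap (W k c) A (uu k c)} := by
    intro h
    have h1 := IsLocalization.under_map_of_isPrime_disjoint P.primeCompl A hpu hdu
    rw [Ideal.map_span, Set.image_singleton] at h1
    exact vv_notMem k hc (h1 ▸ h : vv k c ∈ Ideal.span {uu k c})
  have hxy' : algebraMap (W k c) A (uu k c) ∉ Ideal.span {algebraMap (W k c) A (vv k c)} := by
    intro h
    have h1 := IsLocalization.under_map_of_isPrime_disjoint P.primeCompl A hpv hdv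
    rw [Ideal.map_span, Set.image_singleton] at h1
    exact uu_notMem k hc (h1 ▸ h : uu k c ∈ Ideal.span {vv k c})
  refine ⟨⟨_, _, 0, 1, 0, hm, ?_, ?_⟩, not_isPrincipal _ _ hm hxy hx hy hyx hxy'⟩
  · simp
  · rw [zero_mul, zero_add, one_mul, hxy, zero_mul, add_zero]

end Groth.Agent.Models.NodeNodalB
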