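import Mathlib.RingTheory.KrullDimension.Polynomial
import Mathlib.RingTheory.KrullDimension.Field
import Groth.Agent.Models.NodeNodalB
import Groth.Agent.CurvesB.DimOneEtale
import Groth.Agent.CurvesB.NodeCriterion
import Groth.Agent.CurvesB.NodalEtale
import Groth.Agent.Models.NodeBlow

/-!
`Spec D[u, v]/(uv - a) → Spec D` is at-worst-nodal of relative dimension one.
-/

set_option autoImplicit false
universe u

open CategoryTheory CategoryTheory.Limits AlgebraicGeometry IsLocalRing

namespace Groth.Agent.Models.NodeNodal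

open NodeRing NodeNodalA NodeNodalB

section Dim

theorem forall_dim_eq_one_polynomial (k : Type u) [Field k] :
    ∀ Z ∈ irreducibleComponents (Spec (CommRingCat.of (Polynomial k)) : Type u),
      topologicalKrullDim Z = 1 := by
  have : IrreducibleSpace (Spec (CommRingCat.of (Polynomial k))) :=
    inferInstanceAs (IrreducibleSpace (PrimeSpectrum (Polynomial k)))
  intro Z hZ
  rw [irreducibleComponents_eq_singleton, Set.mem_singleton_iff] at hZ
  subst hZ
  have h1 := IsHomeomorph.topologicalKrullDim_eq _ (Homeomorph.Set.univ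
    (Spec (CommRingCat.of (Polynomial k)) : Type u)).isHomeomorph
  rw [h1]
  change topologicalKrullDim (PrimeSpectrum (Polynomial k)) = 1
  rw [PrimeSpectrum.topologicalKrullDim_eq_ringKrullDim, Polynomial.ringKrullDim_of_isNoetherianRing,
    ringKrullDim_eq_zero_of_field, zero_add]

theorem forall_dim_eq_one (k : Type u) [Field k] (c : k) :
    ∀ Z ∈ irreducibleComponents (Spec (CommRingCat.of (W k c)) : Type u),
      topologicalKrullDim Z = 1 := by
  let g : Spec (CommRingCat.of (W k c)) ⟶ Spec (CommRingCat.of (Polynomial k)) :=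
    Spec.map (CommRingCat.ofHom (coord k c))
  have h1 : Flat g := (Flat.SpecMap_iff).2 (flat_coord k c)
  have h2 : IsFinite g := (IsFinite.SpecMap_iff _).2 (finite_coord k c)
  have : JacobsonSpace (Spec (CommRingCat.of (Polynomial k))) :=
    inferInstanceAs (JacobsonSpace (PrimeSpectrum (Polynomial k)))
  exact CurvesB.DimOneEtale.forall_dim_eq_one_of_etale g (forall_dim_eq_one_polynomial k)

end Dim

section Smooth

variable (D : Type u) [CommRing D] (a : D)

theorem smooth_opensRange {X Y S : Scheme.{u}} (j : Y ⟶ X) [IsOpenImmersion j] (f : X ⟶ S)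
    [Smooth (j ≫ f)] : Smooth (j.opensRange.ι ≫ f) := by
  have : j.opensRange.ι ≫ f = j.isoOpensRange.inv ≫ j ≫ f := by
    rw [← Category.assoc, Scheme.Hom.isoOpensRange_inv_comp]
  rw [this]
  infer_instance

theorem smooth_away : (algebraMap D (Localization.Away (Polynomial.X : Polynomial D))).Smooth := by
  have h1 : Algebra.Smooth D (Polynomial D) :=
    { formallySmooth := Algebra.FormallySmooth.of_equiv (MvPolynomial.uniqueAlgEquiv D PUnit.{1})
      finitePresentation := inferInstance }
  have h2 : Algebra.Smooth (Polynomial D) (Localization.Away (Polynomial.X : Polynomial D)) := by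
    have : Algebra.Etale (Polynomial D) (Localization.Away (Polynomial.X : Polynomial D)) :=
      Algebra.Etale.of_isLocalizationAway (Polynomial.X : Polynomial D)
    infer_instance
  have h3 : Algebra.Smooth D (Localization.Away (Polynomial.X : Polynomial D)) :=
    Algebra.Smooth.comp D (Polynomial D) _
  rwa [RingHom.smooth_algebraMap]

theorem toS_comp : (toS D a).comp (algebraMap D (W D a)) =
    algebraMap D (Localization.Away (Polynomial.X : Polynomial D)) := by
  ext d
  simp [toS]
  rfl

/-- A smooth open neighbourhood where `u ≠ 0`. -/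
theorem exists_smooth_uu (x : Spec (CommRingCat.of (W D a))) (hx : uu D a ∉ x.asIdeal) :
    ∃ U : (Spec (CommRingCat.of (W D a))).Opens, x ∈ U ∧
      Smooth (U.ι ≫ Spec.map (CommRingCat.ofHom (algebraMap D (W D a)))) := by
  let _ := (toS D a).toAlgebra
  have hloc := isLocalization_toS D a
  let j : Spec (CommRingCat.of (Localization.Away (Polynomial.X : Polynomial D))) ⟶
      Spec (CommRingCat.of (W D a)) := Spec.map (CommRingCat.ofHom (toS D a))
  have hj : IsOpenImmersion j :=
    IsOpenImmersion.of_isLocalization (S := Localization.Away (Polynomial.X : Polynomial D)) (uu D a)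
  have hs : Smooth (j ≫ Spec.map (CommRingCat.ofHom (algebraMap D (W D a)))) := by
    rw [← Spec.map_comp, ← CommRingCat.ofHom_comp, toS_comp]
    rw [HasRingHomProperty.Spec_iff (P := @Smooth)]
    exact smooth_away D
  refine ⟨j.opensRange, ?_, smooth_opensRange j _⟩
  have h1 : Set.range (PrimeSpectrum.comap (toS D a)) = PrimeSpectrum.basicOpen (uu D a) :=
    PrimeSpectrum.localization_away_comap_range (Localization.Away (Polynomial.X : Polynomial D)) (uu D a)
  have h2 : x ∈ (PrimeSpectrum.basicOpen (uu D a) : Set (PrimeSpectrum (W D a))) := hx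
  rw [← h1] at h2
  exact h2

/-- A smooth open neighbourhood where `v ≠ 0`. -/
theorem exists_smooth_vv (x : Spec (CommRingCat.of (W D a))) (hx : vv D a ∉ x.asIdeal) :
    ∃ U : (Spec (CommRingCat.of (W D a))).Opens, x ∈ U ∧
      Smooth (U.ι ≫ Spec.map (CommRingCat.ofHom (algebraMap D (W D a)))) := by
  let σ : Spec (CommRingCat.of (W D a)) ⟶ Spec (CommRingCat.of (W D a)) :=
    Spec.map (CommRingCat.ofHom (swap D a : W D a →+* W D a))
  have hσ : IsIso σ := by
    have : IsIso (CommRingCat.ofHom (swap D a : W D a →+* W D a)) :=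
      (RingEquiv.toCommRingCatIso (swap D a)).isIso_hom
    infer_instance
  have hσ2 : σ ≫ Spec.map (CommRingCat.ofHom (algebraMap D (W D a))) =
      Spec.map (CommRingCat.ofHom (algebraMap D (W D a))) := by
    rw [← Spec.map_comp, ← CommRingCat.ofHom_comp]
    congr 2
    ext d
    exact swap_algebraMap D a d
  have hx' : uu D a ∉ (σ x).asIdeal := by
    change swap D a (uu D a) ∉ x.asIdeal
    rwa [swap_uu]
  obtain ⟨U, hU, hs⟩ := exists_smooth_uu D a (σ x) hx'
  refine ⟨σ ⁻¹ᵁ U, hU, ?_⟩
  have : (σ ⁻¹ᵁ U).ι ≫ Spec.map (CommRingCat.ofHom (algebraMap D (W D a))) =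
      (σ ∣_ U) ≫ U.ι ≫ Spec.map (CommRingCat.ofHom (algebraMap D (W D a))) := by
    rw [← Category.assoc, morphismRestrict_ι, Category.assoc, hσ2]
  rw [this]
  infer_instance

end Smooth

section Node

variable (k : Type u) [Field k]

open CurvesB.StalkSemilinear in
theorem stMap_SpecMap {k : Type u} [Field k] {B : Type u} [CommRing B] (φ : k →+* B)
    (x : Spec (CommRingCat.of B)) (c : k) :
    stMap (Spec.map (CommRingCat.ofHom φ)) x c = (StructureSheaf.toStalk B x).hom (φ c) := by
  rw [stMap_apply]
  have h2 := Scheme.ΓSpecIso_inv_naturality (CommRingCat.ofHom φ)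
  have h3 : (Spec.map (CommRingCat.ofHom φ)).appTop ((Scheme.ΓSpecIso (CommRingCat.of k)).inv c) =
      (Scheme.ΓSpecIso (CommRingCat.of B)).inv (φ c) :=
    (ConcreteCategory.congr_hom h2 c).symm
  rw [h3]
  rfl

theorem locallyOfFiniteType (c : k) :
    LocallyOfFiniteType (Spec.map (CommRingCat.ofHom (algebraMap k (W k c)))) := by
  rw [HasRingHomProperty.Spec_iff (P := @LocallyOfFiniteType)]
  change (algebraMap k (W k c)).FiniteType
  rw [RingHom.finiteType_algebraMap]
  infer_instance

open CurvesB.Node CurvesB.StalkSemilinear in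
/-- The origin of `uv = 0` is a node. -/
theorem isNode_origin {c : k} (hc : c = 0) (x : Spec (CommRingCat.of (W k c)))
    (hx : x.asIdeal = Ideal.span {uu k c, vv k c}) :
    @Curv2.IsNode k _ (Spec (CommRingCat.of (W k c)))
      ⟨Spec.map (CommRingCat.ofHom (algebraMap k (W k c)))⟩ x := by
  let i1 : (Spec (CommRingCat.of (W k c))).Over (Spec (CommRingCat.of k)) :=
    ⟨Spec.map (CommRingCat.ofHom (algebraMap k (W k c)))⟩
  have i2 : LocallyOfFiniteType (Spec (CommRingCat.of (W k c)) ↘ Spec (CommRingCat.of k)) :=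
    locallyOfFiniteType k c
  rw [isNode_iff_resFS]
  let A := (Spec (CommRingCat.of (W k c))).presheaf.stalk x
  let _ : Algebra (W k c) A := (StructureSheaf.toStalk (W k c) x).hom.toAlgebra
  have hloc : IsLocalization.AtPrime A x.asIdeal :=
    inferInstanceAs (IsLocalization.AtPrime ((Spec.structureSheaf (W k c)).presheaf.stalk x) x.asIdeal)
  refine ⟨?_, nodeLike k hc x.asIdeal hx A⟩
  have hsurj : Function.Surjective (@Curv2.resMap k _ _ i1 x) := by
    intro z
    obtain ⟨y, rfl⟩ := (Spec (CommRingCat.of (W k c))).residue_surjective x z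
    obtain ⟨⟨w, s⟩, hws⟩ := IsLocalization.surj x.asIdeal.primeCompl (S := A) y
    obtain ⟨d, hd⟩ := exists_sub_mem w
    obtain ⟨e, he⟩ := exists_sub_mem (s : W k c)
    rw [← hx] at hd he
    have key : ∀ (w : W k c) (d : k), w - algebraMap k _ d ∈ x.asIdeal →
        (Spec (CommRingCat.of (W k c))).residue x (algebraMap (W k c) A w) =
          @Curv2.resMap k _ _ i1 x d := by
      intro w d hd
      have h1 : @Curv2.resMap k _ _ i1 x d = (Spec (CommRingCat.of (W k c))).residue x
          (stMap (Spec.map (CommRingCat.ofHom (algebraMap k (W k c)))) x d) := rfl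
      rw [h1, stMap_SpecMap, ← sub_eq_zero, ← map_sub]
      change (Spec (CommRingCat.of (W k c))).residue x
        (algebraMap (W k c) A w - algebraMap (W k c) A (algebraMap k _ d)) = 0
      rw [← map_sub (algebraMap (W k c) A)]
      have h3 : algebraMap (W k c) A (w - algebraMap k _ d) ∈ maximalIdeal A := by
        rw [← IsLocalization.AtPrime.map_eq_maximalIdeal x.asIdeal A]
        exact Ideal.mem_map_of_mem _ hd
      exact (IsLocalRing.residue_eq_zero_iff _).2 h3
    have hs0 : (Spec (CommRingCat.of (W k c))).residue x (algebraMap (W k c) A s) ≠ 0 := by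
      intro h0
      have h1 : algebraMap (W k c) A s ∈ maximalIdeal A := (IsLocalRing.residue_eq_zero_iff _).1 h0
      exact h1 (IsLocalization.map_units A s)
    have h4 := congrArg ((Spec (CommRingCat.of (W k c))).residue x) hws
    rw [map_mul] at h4
    rw [key _ _ he] at hs0 h4
    rw [key _ _ hd] at h4
    refine ⟨d / e, ?_⟩
    rw [map_div₀, ← h4, mul_div_cancel_right₀ _ hs0]
  have hfin : @Module.Finite k ((Spec (CommRingCat.of (W k c))).residueField x) _ _
      (@Curv2.resAlgebra k _ _ i1 x).toModule := by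
    exact RingHom.Finite.of_surjective _ hsurj
  refine ⟨hfin, ?_⟩
  let _ := @Curv2.resAlgebra k _ _ i1 x
  refine ⟨fun z => ?_⟩
  obtain ⟨d, rfl⟩ := hsurj z
  exact isSeparable_algebraMap d

theorem atWorstNodal (c : k) :
    @Curv2.AtWorstNodal k _ (Spec (CommRingCat.of (W k c)))
      ⟨Spec.map (CommRingCat.ofHom (algebraMap k (W k c)))⟩ := by
  intro x hx
  by_cases hu : uu k c ∉ x.asIdeal
  · exact Or.inl (exists_smooth_uu k c x hu)
  by_cases hv : vv k c ∉ x.asIdeal
  · exact Or.inl (exists_smooth_vv k c x hv)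
  push Not at hu hv
  right
  have hc : c = 0 := by
    by_contra hcon
    have h1 : algebraMap k (W k c) c ∈ x.asIdeal := by
      rw [← uu_mul_vv]
      exact Ideal.mul_mem_right _ _ hu
    have h2 : IsUnit (algebraMap k (W k c) c) := (IsUnit.mk0 c hcon).map _
    exact x.isPrime.ne_top (Ideal.eq_top_of_isUnit_mem _ h1 h2)
  refine isNode_origin k hc x (le_antisymm ?_ ?_)
  · intro w hw
    obtain ⟨d, hd⟩ := exists_sub_mem w
    have hle : Ideal.span {uu k c, vv k c} ≤ x.asIdeal := by
      rw [Ideal.span_le]
      rintro _ (rfl | rfl)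
      · exact hu
      · exact hv
    have h1 : algebraMap k (W k c) d ∈ x.asIdeal := by
      have := Ideal.sub_mem _ hw (hle hd)
      rwa [sub_sub_cancel] at this
    have h2 : d = 0 := by
      by_contra hcon
      exact x.isPrime.ne_top (Ideal.eq_top_of_isUnit_mem _ h1 ((IsUnit.mk0 d hcon).map _))
    rw [h2, map_zero, sub_zero] at hd
    exact hd
  · rw [Ideal.span_le]
    rintro _ (rfl | rfl)
    · exact hu
    · exact hv

end Node

section Main

variable (D : Type u) [CommRing D] (a : D)

/-- `W D a → W K (φ a)`. -/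
noncomputable def mapW {D K : Type u} [CommRing D] [CommRing K] (φ : D →+* K) (a : D) :
    W D a →+* W K (φ a) :=
  lift ((algebraMap K _).comp φ) (uu K (φ a)) (vv K (φ a)) (by rw [uu_mul_vv]; rfl)

theorem isPushout_W {D K : Type u} [CommRing D] [CommRing K] (φ : D →+* K) (a : D) :
    IsPushout (CommRingCat.ofHom φ) (CommRingCat.ofHom (algebraMap D (W D a)))
      (CommRingCat.ofHom (algebraMap K (W K (φ a)))) (CommRingCat.ofHom (mapW φ a)) := by
  refine ⟨⟨?_⟩, ⟨PushoutCocone.IsColimit.mk _
    (fun s => CommRingCat.ofHom (lift s.inl.hom (s.inr (uu D a)) (s.inr (vv D a)) ?_)) ?_ ?_ ?_⟩⟩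
  · ext d
    simp [mapW]
  · rw [← map_mul, uu_mul_vv]
    have := s.condition
    exact (ConcreteCategory.congr_hom this a).symm
  · intro s
    ext d
    simp
  · intro s
    apply CommRingCat.hom_ext
    apply hom_ext
    · intro d
      have := s.condition
      simpa [mapW] using ConcreteCategory.congr_hom this d
    · simp [mapW]
    · simp [mapW]
  · intro s m h1 h2
    apply CommRingCat.hom_ext
    apply hom_ext
    · intro d
      simpa using ConcreteCategory.congr_hom h1 d
    · simpa [mapW] using ConcreteCategory.congr_hom h2 (uu D a)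
    · simpa [mapW] using ConcreteCategory.congr_hom h2 (vv D a)

theorem isNodalFamily : Curv2.IsNodalFamily (Spec.map (CommRingCat.ofHom (algebraMap D (W D a)))) := by
  refine ⟨?_, ?_, fun s => ?_⟩
  · rw [Flat.SpecMap_iff]
    exact RingHom.flat_algebraMap_iff.2 inferInstance
  · rw [LocallyOfFinitePresentation.SpecMap_iff]
    change (algebraMap D (W D a)).FinitePresentation
    rw [RingHom.finitePresentation_algebraMap]
    exact Algebra.FinitePresentation.quotient ⟨{_}, by rw [Finset.coe_singleton]⟩
  · let f := Spec.map (CommRingCat.ofHom (algebraMap D (W D a)))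
    let K := (Spec (CommRingCat.of D)).residueField s
    obtain ⟨φ, hφ⟩ : ∃ φ : D →+* K, (Spec (CommRingCat.of D)).fromSpecResidueField s =
        Spec.map (CommRingCat.ofHom φ) :=
      ⟨(Spec.preimage ((Spec (CommRingCat.of D)).fromSpecResidueField s)).hom, by
        rw [CommRingCat.ofHom_hom, Spec.map_preimage]⟩
    have hpb : IsPullback (Spec.map (CommRingCat.ofHom (mapW φ a)))
        (Spec.map (CommRingCat.ofHom (algebraMap K (W K (φ a))))) f
        ((Spec (CommRingCat.of D)).fromSpecResidueField s) := by
      rw [hφ]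
      exact (isPullback_SpecMap_of_isPushout _ _ _ _ (isPushout_W φ a)).flip
    let e : f.fiber s ≅ Spec (CommRingCat.of (W K (φ a))) := hpb.isoPullback.symm
    have he : e.hom ≫ Spec.map (CommRingCat.ofHom (algebraMap K (W K (φ a)))) =
        f.fiberToSpecResidueField s := hpb.isoPullback_inv_snd
    refine ⟨?_, ?_⟩
    · have : JacobsonSpace (Spec (CommRingCat.of (W K (φ a)))) :=
        inferInstanceAs (JacobsonSpace (PrimeSpectrum (W K (φ a))))
      exact CurvesB.DimOneEtale.forall_dim_eq_one_of_etale e.hom (forall_dim_eq_one K (φ a))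
    · let i1 : (f.fiber s).Over (Spec (CommRingCat.of K)) := ⟨f.fiberToSpecResidueField s⟩
      let i2 : (Spec (CommRingCat.of (W K (φ a)))).Over (Spec (CommRingCat.of K)) :=
        ⟨Spec.map (CommRingCat.ofHom (algebraMap K (W K (φ a))))⟩
      have i3 : LocallyOfFiniteType (Spec (CommRingCat.of (W K (φ a))) ↘ Spec (CommRingCat.of K)) :=
        locallyOfFiniteType K (φ a)
      exact CurvesB.NodalEtale.atWorstNodal_of_etale K e.hom he (atWorstNodal K (φ a))

/-- The statement for the structure morphism `str D (t ^ j)` used in the resolution of nodal families over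
discrete valuation rings. -/
theorem isNodalFamily_str {D : Type u} [CommRing D] [IsDomain D] [IsDiscreteValuationRing D] (t : D)
    (_ht : Irreducible t) (j : ℕ) : Curv2.IsNodalFamily (Groth.Agent.Models.NodeBlow.str D (t ^ j)) :=
  isNodalFamily D (t ^ j)

end Main

end Groth.Agent.Models.NodeNodal
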