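/-
`R[u,v]/(uv-1)` is the localization of `R[t]` at `t + c`, via `t ↦ u - c`.
-/
import Groth.Agent.Models.NodePushout
import Mathlib.RingTheory.Localization.Away.Basic
import Mathlib.RingTheory.Etale.Basic
import Mathlib.RingTheory.Smooth.Basic
import Mathlib.AlgebraicGeometry.Morphisms.Etale

set_option autoImplicit false
universe u

open CategoryTheory CategoryTheory.Limits AlgebraicGeometry

namespace Groth.Agent.Models.GmChart

open NodePushout

/-- a criterion for being a localization away from an element. -/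
theorem isLocalizationAway_of {P T : Type*} [CommRing P] [CommRing T] (l : HomC P T) (a : P)
    (h1 : IsUnit (l a)) (h2 : ∀ z : T, ∃ (n : ℕ) (p : P), z * (l a) ^ n = l p)
    (h3 : ∃ k : HomC T (Localization.Away a), k.comp l = algebraMap P (Localization.Away a)) :
    @IsLocalization.Away P _ a T _ l.toAlgebra := by
  letI := l.toAlgebra
  have halg : ∀ b, algebraMap P T b = l b := fun _ => rfl
  refine ⟨?_, ?_, ?_⟩
  · rintro ⟨_, n, rfl⟩
    rw [halg]
    simp only [map_pow]
    exact h1.pow n
  · intro z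
    obtain ⟨n, p, hp⟩ := h2 z
    refine ⟨⟨p, ⟨_, n, rfl⟩⟩, ?_⟩
    rw [halg, halg]
    simp only [map_pow]
    exact hp
  · intro x y hxy
    rw [halg, halg] at hxy
    obtain ⟨k, hk⟩ := h3
    have h6 : algebraMap P (Localization.Away a) x = algebraMap P (Localization.Away a) y := by
      rw [← hk, RingHom.comp_apply, RingHom.comp_apply, hxy]
    exact (IsLocalization.eq_iff_exists (Submonoid.powers a) (Localization.Away a)).mp h6

variable {R : Type u} [CommRing R] (e c : R)

/-- the quotient map. -/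
noncomputable def qq : HomC (MvPolynomial (Fin 2) R) (Ruv (MvPolynomial.C e)) := Ideal.Quotient.mk _

/-- `u`. -/
noncomputable def uu : Ruv (MvPolynomial.C e) := qq e (MvPolynomial.X 0)

/-- `v`. -/
noncomputable def vv : Ruv (MvPolynomial.C e) := qq e (MvPolynomial.X 1)

/-- `R[t] → R[u,v]/(uv-1)`, `t ↦ u - c`. -/
noncomputable def lam : HomC (MvPolynomial (Fin 1) R) (Ruv (MvPolynomial.C e)) :=
  MvPolynomial.eval₂Hom (iota (MvPolynomial.C e)) (fun _ => uu e - iota (MvPolynomial.C e) c)

theorem lam_C (r : R) : lam e c (MvPolynomial.C r) = iota (MvPolynomial.C e) r :=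
  MvPolynomial.eval₂Hom_C _ _ _

theorem lam_X : lam e c (MvPolynomial.X 0) = uu e - iota (MvPolynomial.C e) c :=
  MvPolynomial.eval₂Hom_X' _ _ _

theorem lam_Xc : lam e c (MvPolynomial.X 0 + MvPolynomial.C c) = uu e := by
  rw [map_add, lam_X, lam_C, sub_add_cancel]

theorem uu_mul_vv (he : e = 1) : uu e * vv e = 1 := by
  have h0 : (MvPolynomial.C e : MvPolynomial (Fin 2) R) = 1 := by rw [he, map_one]
  have h1 : (1 : Ruv (MvPolynomial.C e)) = qq e (MvPolynomial.C e) := by
    have h2 := congrArg (qq e) h0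
    rw [h2, map_one]
  rw [h1, uu, vv, ← map_mul]
  unfold qq
  rw [Ideal.Quotient.mk_eq_mk_iff_sub_mem]
  exact Ideal.mem_span_singleton_self _

/-- maps out of `R[u,v]/(uv-1)`. -/
theorem exists_desc (he : e = 1) {D : Type*} [CommRing D] (g : HomC R D) (u v : D) (huv : u * v = 1) :
    ∃ k : HomC (Ruv (MvPolynomial.C e)) D, k.comp (iota (MvPolynomial.C e)) = g ∧
      k (uu e) = u ∧ k (vv e) = v := by
  let k0 : MvPolynomial (Fin 2) R →+* D := MvPolynomial.eval₂Hom g ![u, v]
  have hk0 : ∀ a ∈ Ideal.span {(MvPolynomial.X 0 * MvPolynomial.X 1 - MvPolynomial.C e :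
      MvPolynomial (Fin 2) R)}, k0 a = 0 := by
    have : Ideal.span {(MvPolynomial.X 0 * MvPolynomial.X 1 - MvPolynomial.C e :
      MvPolynomial (Fin 2) R)} ≤ RingHom.ker k0 := by
      rw [Ideal.span_singleton_le_iff_mem, RingHom.mem_ker]
      simp only [k0, map_sub, map_mul, MvPolynomial.eval₂Hom_X', Matrix.cons_val_zero,
        Matrix.cons_val_one, MvPolynomial.eval₂Hom_C]
      rw [huv, he, map_one, sub_self]
    exact fun a ha => this ha
  refine ⟨Ideal.Quotient.lift _ k0 hk0, ?_, ?_, ?_⟩
  · ext a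
    simp [iota, k0]
  · unfold uu qq
    rw [Ideal.Quotient.lift_mk]; simp [k0]
  · unfold vv qq
    rw [Ideal.Quotient.lift_mk]; simp [k0]

theorem surj_aux (he : e = 1) (z : MvPolynomial (Fin 2) R) :
    ∃ (n : ℕ) (a : MvPolynomial (Fin 1) R), qq e z * (uu e) ^ n = lam e c a := by
  induction z using MvPolynomial.induction_on with
  | C r => exact ⟨0, MvPolynomial.C r, by rw [lam_C, pow_zero, mul_one]; rfl⟩
  | add p q hp hq =>
    obtain ⟨n, a, ha⟩ := hp
    obtain ⟨m, b, hb⟩ := hq
    refine ⟨n + m, a * (MvPolynomial.X 0 + MvPolynomial.C c) ^ m +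
      b * (MvPolynomial.X 0 + MvPolynomial.C c) ^ n, ?_⟩
    rw [map_add (lam e c), map_mul, map_mul, map_pow, map_pow, lam_Xc, ← ha, ← hb, map_add]
    ring
  | mul_X p i hp =>
    obtain ⟨n, a, ha⟩ := hp
    have hi : i = 0 ∨ i = 1 := by omega
    rcases hi with rfl | rfl
    · refine ⟨n, a * (MvPolynomial.X 0 + MvPolynomial.C c), ?_⟩
      rw [map_mul (lam e c), lam_Xc, ← ha, map_mul]
      change qq e p * uu e * _ = _
      ring
    · refine ⟨n + 1, a, ?_⟩
      rw [← ha, map_mul, pow_succ]
      have := uu_mul_vv e he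
      change qq e p * vv e * _ = _
      calc qq e p * vv e * (uu e ^ n * uu e) = qq e p * uu e ^ n * (uu e * vv e) := by ring
        _ = qq e p * uu e ^ n := by rw [this, mul_one]

theorem isLocalization_lam (he : e = 1) :
    @IsLocalization.Away (MvPolynomial (Fin 1) R) _
      (MvPolynomial.X 0 + MvPolynomial.C c : MvPolynomial (Fin 1) R)
      (Ruv (MvPolynomial.C e)) _ (lam e c).toAlgebra := by
  apply isLocalizationAway_of
  · rw [lam_Xc]
    exact IsUnit.of_mul_eq_one _ (uu_mul_vv e he)
  · intro z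
    obtain ⟨z, rfl⟩ := Ideal.Quotient.mk_surjective z
    rw [lam_Xc]
    exact surj_aux e c he z
  · obtain ⟨v, hv⟩ := (IsLocalization.Away.algebraMap_isUnit
      (S := Localization.Away (MvPolynomial.X 0 + MvPolynomial.C c : MvPolynomial (Fin 1) R))
      (MvPolynomial.X 0 + MvPolynomial.C c : MvPolynomial (Fin 1) R)).exists_right_inv
    obtain ⟨k, hk1, hk2, -⟩ := exists_desc e he
      ((algebraMap (MvPolynomial (Fin 1) R)
        (Localization.Away (MvPolynomial.X 0 + MvPolynomial.C c : MvPolynomial (Fin 1) R))).comp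
          MvPolynomial.C) _ v hv
    refine ⟨k, ?_⟩
    apply MvPolynomial.ringHom_ext
    · intro r
      rw [RingHom.comp_apply, lam_C]
      exact congrArg (fun m => m r) hk1
    · intro i
      rw [Subsingleton.elim i 0, RingHom.comp_apply, lam_X, map_sub, hk2]
      have h5 := congrArg (fun m => m c) hk1
      simp only [RingHom.comp_apply] at h5
      rw [h5, ← map_sub, add_sub_cancel_right]

theorem etale_lam (he : e = 1) : Etale (Spec.map (CommRingCat.ofHom (lam e c))) := by
  letI := (lam e c).toAlgebra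
  have h1 := isLocalization_lam e c he
  have h2 : Algebra.Etale (MvPolynomial (Fin 1) R) (Ruv (MvPolynomial.C e)) :=
    Algebra.Etale.of_isLocalizationAway (MvPolynomial.X 0 + MvPolynomial.C c :
      MvPolynomial (Fin 1) R)
  rw [HasRingHomProperty.Spec_iff (P := @Etale)]
  exact h2

end Groth.Agent.Models.GmChart
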