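/-
Étale neighbourhoods of a discrete valuation ring: an étale algebra over a discrete valuation ring is, locally
around a prime over the maximal ideal, a discrete valuation ring with the same uniformizer.
-/
import Mathlib.RingTheory.DiscreteValuationRing.Basic
import Mathlib.RingTheory.DiscreteValuationRing.TFAE
import Mathlib.RingTheory.Etale.Basic
import Mathlib.RingTheory.QuasiFinite.Basic
import Mathlib.RingTheory.Unramified.LocalRing
import Mathlib.RingTheory.Smooth.Flat
import Mathlib.RingTheory.Filtration
import Mathlib.RingTheory.Unramified.LocalStructure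

set_option autoImplicit false
universe u

namespace Groth.Agent.Models.EtaleDVR

/-- A Noetherian local ring whose maximal ideal is generated by a non-nilpotent element: every nonzero
element is a unit times a power of it. -/
theorem exists_unit_mul_pow {B : Type*} [CommRing B] [IsNoetherianRing B] [IsLocalRing B] (b : B)
    (hb : IsLocalRing.maximalIdeal B = Ideal.span {b}) (a : B) (ha : a ≠ 0) :
    ∃ (n : ℕ) (u : Bˣ), a = u * b ^ n := by
  have hkrull := Ideal.iInf_pow_eq_bot_of_isLocalRing (IsLocalRing.maximalIdeal B)
    (IsLocalRing.maximalIdeal.isMaximal B).ne_top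
  have h1 : ∃ n, a ∉ IsLocalRing.maximalIdeal B ^ n := by
    by_contra hcon
    push Not at hcon
    apply ha
    rw [← Ideal.mem_bot, ← hkrull, Ideal.mem_iInf]
    exact hcon
  classical
  let n := Nat.find h1
  have hn : a ∉ IsLocalRing.maximalIdeal B ^ n := Nat.find_spec h1
  have hn0 : n ≠ 0 := by
    intro h0
    apply hn
    rw [h0]; simp
  obtain ⟨k, hk⟩ := Nat.exists_eq_succ_of_ne_zero hn0
  have hk' : a ∈ IsLocalRing.maximalIdeal B ^ k := by
    by_contra hcon
    exact Nat.find_min h1 (m := k) (by change k < n; omega) hcon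
  rw [hb, Ideal.span_singleton_pow, Ideal.mem_span_singleton'] at hk'
  obtain ⟨c, rfl⟩ := hk'
  have hc : IsUnit c := by
    by_contra hcon
    have hc' : c ∈ IsLocalRing.maximalIdeal B := hcon
    apply hn
    rw [hb, Ideal.mem_span_singleton'] at hc'
    obtain ⟨d, rfl⟩ := hc'
    rw [hk, hb, Ideal.span_singleton_pow, Ideal.mem_span_singleton', Nat.succ_eq_add_one, pow_succ']
    exact ⟨d, by ring⟩
  exact ⟨k, hc.unit, by simp⟩

theorem isDomain_of_span {B : Type*} [CommRing B] [IsNoetherianRing B] [IsLocalRing B] (b : B)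
    (hb : IsLocalRing.maximalIdeal B = Ideal.span {b}) (hreg : ∀ n : ℕ, b ^ n ≠ 0) : IsDomain B := by
  have : NoZeroDivisors B := ⟨by
    intro x y hxy
    by_contra hcon
    push Not at hcon
    obtain ⟨n, u, rfl⟩ := exists_unit_mul_pow b hb x hcon.1
    obtain ⟨m, v, rfl⟩ := exists_unit_mul_pow b hb y hcon.2
    apply hreg (n + m)
    have h1 : (u : B) * b ^ n * (v * b ^ m) = (u * v : Bˣ) * b ^ (n + m) := by
      rw [pow_add]; push_cast; ring
    rw [h1] at hxy
    exact (Units.mul_right_eq_zero _).mp hxy⟩
  exact NoZeroDivisors.to_isDomain B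

theorem isDVR_of_span {B : Type*} [CommRing B] [IsNoetherianRing B] [IsLocalRing B] [IsDomain B] (b : B)
    (hb : IsLocalRing.maximalIdeal B = Ideal.span {b}) (hb0 : b ≠ 0) :
    IsDiscreteValuationRing B ∧ Irreducible b := by
  have h1 : Submodule.IsPrincipal (IsLocalRing.maximalIdeal B) := ⟨b, hb⟩
  have hne : ¬ IsField B := by
    rw [IsLocalRing.isField_iff_maximalIdeal_eq, hb, Ideal.span_singleton_eq_bot]
    exact hb0
  have h2 : IsDiscreteValuationRing B := by
    have := IsDiscreteValuationRing.TFAE B hne
    exact (this.out 0 4).mpr h1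
  exact ⟨h2, (IsDiscreteValuationRing.irreducible_iff_uniformizer b).mpr hb⟩

/-- Let `A` be an étale algebra over a discrete valuation ring `R` with uniformizer `ϖ` and `q` a prime of `A`
containing `ϖ`. Some principal localization `A_f`, `f ∉ q`, is a discrete valuation ring with uniformizer `ϖ`. -/
theorem exists_away_isDVR (R : Type u) [CommRing R] [IsDomain R] [IsDiscreteValuationRing R] (ϖ : R)
    (hϖ : Irreducible ϖ) (A : Type u) [CommRing A] [Algebra R A] [Algebra.Etale R A] (q : Ideal A)
    [q.IsPrime] (hq : algebraMap R A ϖ ∈ q) :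
    ∃ f : A, f ∉ q ∧ ∃ (_ : IsDomain (Localization.Away f)),
      IsDiscreteValuationRing (Localization.Away f) ∧
      Irreducible (algebraMap R (Localization.Away f) ϖ) := by
  classical
  have hfinR : Finite (PrimeSpectrum R) := by
    have : (Set.univ : Set (PrimeSpectrum R)).Finite := by
      apply Set.Finite.subset (s := {⟨⊥, Ideal.isPrime_bot⟩, IsLocalRing.closedPoint R})
      · exact Set.toFinite _
      · intro x _
        by_cases h : x.asIdeal = ⊥
        · left; exact PrimeSpectrum.ext h
        · right
          apply PrimeSpectrum.ext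
          have := x.isPrime
          exact IsLocalRing.eq_maximalIdeal (IsPrime.to_maximal_ideal h)
    exact Set.finite_univ_iff.mp this
  have hfinA : Finite (PrimeSpectrum A) := Algebra.QuasiFinite.finite_primeSpectrum R A
  have hNA : IsNoetherianRing A := Algebra.FiniteType.isNoetherianRing R A
  -- choose f
  have hchoose : ∀ P : PrimeSpectrum A, ∃ a : A, a ∉ q ∧ (¬ P.asIdeal ≤ q → a ∈ P.asIdeal) := by
    intro P
    by_cases h : P.asIdeal ≤ q
    · exact ⟨1, fun h1 => (‹q.IsPrime›.ne_top) ((Ideal.eq_top_iff_one q).mpr h1), fun h2 => (h2 h).elim⟩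
    · obtain ⟨a, ha, ha'⟩ := SetLike.not_le_iff_exists.mp h
      exact ⟨a, ha', fun _ => ha⟩
  choose g hg1 hg2 using hchoose
  have := Fintype.ofFinite (PrimeSpectrum A)
  let f : A := ∏ P : PrimeSpectrum A, g P
  have hf : f ∉ q := by
    intro hcon
    obtain ⟨P, -, hP⟩ := (‹q.IsPrime›.prod_mem_iff).mp hcon
    exact hg1 P hP
  have hf2 : ∀ P : PrimeSpectrum A, ¬ P.asIdeal ≤ q → f ∈ P.asIdeal := by
    intro P hP
    exact P.asIdeal.mem_of_dvd (Finset.dvd_prod_of_mem g (Finset.mem_univ P)) (hg2 P hP)
  let B := Localization.Away f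
  have hunit : ∀ a ∈ q.primeCompl, IsUnit (algebraMap A B a) := by
    intro a ha
    by_contra hcon
    obtain ⟨M, hM, haM⟩ := exists_max_ideal_of_mem_nonunits hcon
    have hMp := hM.isPrime
    let P : PrimeSpectrum A := ⟨M.comap (algebraMap A B), inferInstance⟩
    have h1 : f ∉ P.asIdeal := by
      intro h2
      apply hM.ne_top
      exact Ideal.eq_top_of_isUnit_mem M h2 (IsLocalization.Away.algebraMap_isUnit f)
    have h2 : P.asIdeal ≤ q := by
      by_contra h3
      exact h1 (hf2 P h3)
    exact ha (h2 haM)
  have hloc : IsLocalization.AtPrime B q := by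
    apply IsLocalization.of_le (M := Submonoid.powers f)
    · rintro _ ⟨n, rfl⟩
      exact fun h => hf (‹q.IsPrime›.mem_of_pow_mem n h)
    · exact hunit
  have hBloc : IsLocalRing B := IsLocalization.AtPrime.isLocalRing B q
  have hBN : IsNoetherianRing B := IsLocalization.isNoetherianRing (Submonoid.powers f) B hNA
  have hmem : algebraMap R B ϖ ∈ IsLocalRing.maximalIdeal B := by
    rw [IsScalarTower.algebraMap_apply R A B, IsLocalization.AtPrime.to_map_mem_maximal_iff B q]
    exact hq
  have hlochom : IsLocalHom (algebraMap R B) := by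
    rw [((IsLocalRing.local_hom_TFAE (algebraMap R B)).out 0 2 rfl rfl), hϖ.maximalIdeal_eq,
      Ideal.map_span, Set.image_singleton, Ideal.span_singleton_le_iff_mem]
    exact hmem
  have het : Algebra.FormallyEtale R B := by
    have : Algebra.FormallyEtale A B := Algebra.FormallyEtale.of_isLocalization (Submonoid.powers f)
    exact Algebra.FormallyEtale.comp R A B
  have hft : Algebra.EssFiniteType R B := by
    have : Algebra.EssFiniteType A B := Algebra.EssFiniteType.of_isLocalization _ (Submonoid.powers f)
    exact Algebra.EssFiniteType.comp R A B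
  have hmax : IsLocalRing.maximalIdeal B = Ideal.span {algebraMap R B ϖ} := by
    rw [← Algebra.FormallyUnramified.map_maximalIdeal (R := R) (S := B), hϖ.maximalIdeal_eq,
      Ideal.map_span, Set.image_singleton]
  have hflat : Module.Flat R B := by
    have h1 : Module.Flat R A := inferInstance
    have h2 : Module.Flat A B := IsLocalization.flat B (Submonoid.powers f)
    exact Module.Flat.trans R A B
  have hinj : Function.Injective (algebraMap R B) := by
    have : Module.FaithfullyFlat R B := Module.FaithfullyFlat.of_flat_of_isLocalHom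
    exact FaithfulSMul.algebraMap_injective R B
  have hne : ∀ n : ℕ, (algebraMap R B ϖ) ^ n ≠ 0 := by
    intro n h
    rw [← map_pow] at h
    exact pow_ne_zero n hϖ.ne_zero (hinj (by rw [h, map_zero]))
  have hdom : IsDomain B := isDomain_of_span _ hmax hne
  refine ⟨f, hf, hdom, ?_⟩
  exact isDVR_of_span _ hmax (by simpa using hne 1)

end Groth.Agent.Models.EtaleDVR
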