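/-
The étale local structure of a nodal family over a discrete valuation ring at a node, from the general
statement over an arbitrary base.
-/
import Groth.Agent.Models.NodePushout
import Groth.Agent.Models.EtaleDVR
import Mathlib.AlgebraicGeometry.Morphisms.Etale
import Mathlib.AlgebraicGeometry.Morphisms.UniversallyOpen
import Mathlib.AlgebraicGeometry.PullbackCarrier

set_option autoImplicit false
universe u

open CategoryTheory CategoryTheory.Limits AlgebraicGeometry

namespace Groth.Agent.Models.NodeCase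

/-- The conclusion of the étale local structure theorem. -/
def Concl (R : Type u) [CommRing R] [IsDomain R] (ϖ : R) (X : Scheme.{u})
    (p : X ⟶ Spec (CommRingCat.of R)) (x : X) : Prop :=
  ∃ (R' : Type u) (_ : CommRing R') (_ : IsDomain R') (_ : IsDiscreteValuationRing R')
      (_ : Algebra R R') (_ : Algebra.Etale R R') (_ : Irreducible (algebraMap R R' ϖ))
      (h : MvPolynomial (Fin 2) R') (_ : h = 0 ∨ ∃ n : ℕ, h = MvPolynomial.C (algebraMap R R' ϖ ^ n))
      (U : Scheme.{u}) (e : U ⟶ X) (_ : Etale e) (x' : U) (_ : e.base x' = x)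
      (g : U ⟶ Spec (CommRingCat.of (MvPolynomial (Fin 2) R' ⧸
        Ideal.span {MvPolynomial.X 0 * MvPolynomial.X 1 - h}))) (_ : Etale g),
      g ≫ Spec.map (CommRingCat.ofHom ((Ideal.Quotient.mk _).comp
          (MvPolynomial.C.comp (algebraMap R R')))) = e ≫ p

theorem exists_affine_nbhd {V : Scheme.{u}} (v : V) :
    ∃ (A : Type u) (_ : CommRing A) (j : Spec (CommRingCat.of A) ⟶ V) (_ : IsOpenImmersion j)
      (a : Spec (CommRingCat.of A)), j a = v := by
  obtain ⟨i, a', ha'⟩ := V.affineCover.exists_eq v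
  let A : CommRingCat := Γ(V.affineCover.X i, ⊤)
  let e : Spec A ≅ V.affineCover.X i := (V.affineCover.X i).isoSpec.symm
  let j : Spec A ⟶ V := e.hom ≫ V.affineCover.f i
  refine ⟨A, inferInstance, j, inferInstance, e.inv a', ?_⟩
  rw [← ha']
  change (e.inv ≫ e.hom ≫ V.affineCover.f i) a' = _
  rw [Iso.inv_hom_id_assoc]

/-- étale neighbourhoods of the spectrum of a discrete valuation ring. -/
theorem exists_dvr_nbhd {R : Type u} [CommRing R] [IsDomain R] [IsDiscreteValuationRing R] (ϖ : R)
    (hϖ : Irreducible ϖ) {V : Scheme.{u}} (gV : V ⟶ Spec (CommRingCat.of R)) [Etale gV] (v : V)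
    (hv : gV v = (IsLocalRing.closedPoint R : PrimeSpectrum R)) :
    ∃ (R' : Type u) (_ : CommRing R') (_ : IsDomain R') (_ : IsDiscreteValuationRing R')
      (_ : Algebra R R') (_ : Algebra.Etale R R') (_ : Irreducible (algebraMap R R' ϖ))
      (j : Spec (CommRingCat.of R') ⟶ V) (_ : IsOpenImmersion j),
      j ≫ gV = Spec.map (CommRingCat.ofHom (algebraMap R R')) ∧ v ∈ Set.range j := by
  obtain ⟨A, _, j, _, a, ha⟩ := exists_affine_nbhd v
  let φ : CommRingCat.of R ⟶ CommRingCat.of A := Spec.preimage (j ≫ gV)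
  letI : Algebra R A := φ.hom.toAlgebra
  have hφ : Spec.map (CommRingCat.ofHom (algebraMap R A)) = j ≫ gV := by
    have : CommRingCat.ofHom (algebraMap R A) = φ := rfl
    rw [this]
    exact Spec.map_preimage _
  have het : Algebra.Etale R A := by
    have h1 : Etale (j ≫ gV) := inferInstance
    rw [← hφ, HasRingHomProperty.Spec_iff (P := @Etale)] at h1
    rw [← RingHom.etale_algebraMap]
    exact h1
  have hq : algebraMap R A ϖ ∈ a.asIdeal := by
    have h1 : (Spec.map (CommRingCat.ofHom (algebraMap R A))) a =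
        (IsLocalRing.closedPoint R : PrimeSpectrum R) := by
      rw [hφ, ← hv, ← ha]
      rfl
    have h2 : ϖ ∈ ((IsLocalRing.closedPoint R : PrimeSpectrum R)).asIdeal :=
      (IsLocalRing.mem_maximalIdeal ϖ).mpr hϖ.not_isUnit
    rw [← h1] at h2
    exact h2
  obtain ⟨f, hf, hdom, hdvr, hirr⟩ := EtaleDVR.exists_away_isDVR R ϖ hϖ A a.asIdeal hq
  have het2 : Algebra.Etale R (Localization.Away f) := by
    have : Algebra.Etale A (Localization.Away f) := Algebra.Etale.of_isLocalizationAway f
    exact Algebra.Etale.comp R A _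
  let j' : Spec (CommRingCat.of (Localization.Away f)) ⟶ Spec (CommRingCat.of A) :=
    Spec.map (CommRingCat.ofHom (algebraMap A (Localization.Away f)))
  have hj' : IsOpenImmersion j' := inferInstance
  refine ⟨Localization.Away f, inferInstance, hdom, hdvr, inferInstance, het2, hirr, j' ≫ j,
    inferInstance, ?_, ?_⟩
  · rw [Category.assoc, ← hφ, ← Spec.map_comp, ← CommRingCat.ofHom_comp,
      ← IsScalarTower.algebraMap_eq]
  · have h1 : a ∈ Set.range j' := by
      have h2 : Set.range (PrimeSpectrum.comap (algebraMap A (Localization.Away f))) =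
          (PrimeSpectrum.basicOpen f : Set (PrimeSpectrum A)) :=
        PrimeSpectrum.localization_away_comap_range _ f
      have h3 : a ∈ (PrimeSpectrum.basicOpen f : Set (PrimeSpectrum A)) := hf
      rw [← h2] at h3
      exact h3
    obtain ⟨b, hb⟩ := h1
    refine ⟨b, ?_⟩
    change j (j' b) = v
    rw [hb, ha]

theorem node_case {R : Type u} [CommRing R] [IsDomain R] [IsDiscreteValuationRing R] (ϖ : R)
    (hϖ : Irreducible ϖ) {X : Scheme.{u}} (f : X ⟶ Spec (CommRingCat.of R)) (x : X)
    (hx : f x = (IsLocalRing.closedPoint R : PrimeSpectrum R))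
    (U V W : Scheme.{u}) (gU : U ⟶ X) (gV : V ⟶ Spec (CommRingCat.of R)) (p : U ⟶ V) (e : U ⟶ W)
    (q : W ⟶ V) (h : V ⟶ Spec (CommRingCat.of (MvPolynomial (Fin 1) (ULift.{u} ℤ))))
    (r : W ⟶ Spec (CommRingCat.of NodePushout.Zuvw.{u}))
    (hgU : Etale gU) (hgV : Etale gV) (he : Etale e) (h1 : gU ≫ f = p ≫ gV) (h2 : e ≫ q = p)
    (h3 : IsPullback r q (Spec.map (CommRingCat.ofHom NodePushout.phi.{u})) h)
    (hxU : x ∈ Set.range gU) : Concl R ϖ X f x := by
  obtain ⟨x1, rfl⟩ := hxU
  have hv : gV (p x1) = (IsLocalRing.closedPoint R : PrimeSpectrum R) := by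
    rw [← hx]
    change (p ≫ gV) x1 = (gU ≫ f) x1
    rw [h1]
  obtain ⟨R', _, hdom, hdvr, _, het, hirr, j, hj, hj1, ⟨a, ha⟩⟩ := exists_dvr_nbhd ϖ hϖ gV (p x1) hv
  -- the parameter
  let χ : CommRingCat.of (MvPolynomial (Fin 1) (ULift.{u} ℤ)) ⟶ CommRingCat.of R' :=
    Spec.preimage (j ≫ h)
  have hχ : Spec.map χ = j ≫ h := Spec.map_preimage _
  obtain ⟨ε, c, hc, hα⟩ : ∃ (ε : R'ˣ) (c : R'), (c = 0 ∨ ∃ n : ℕ, c = algebraMap R R' ϖ ^ n) ∧
      χ.hom (MvPolynomial.X 0) = ε * c := by
    by_cases h0 : χ.hom (MvPolynomial.X 0) = 0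
    · exact ⟨1, 0, Or.inl rfl, by rw [h0]; simp⟩
    · obtain ⟨n, ε, hε⟩ := IsDiscreteValuationRing.eq_unit_mul_pow_irreducible h0 hirr
      exact ⟨ε, _, Or.inr ⟨n, rfl⟩, hε⟩
  have hpb := NodePushout.isPullback_node χ.hom ε c hα
  set θ := Spec.map (CommRingCat.ofHom (NodePushout.theta ε c)) with hθ
  set t := Spec.map (CommRingCat.ofHom (NodePushout.iota (MvPolynomial.C c))) with ht
  have hpb' : IsPullback θ t (Spec.map (CommRingCat.ofHom NodePushout.phi.{u})) (j ≫ h) := by
    rw [← hχ]; exact hpb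
  -- the map to W
  let w := h3.lift θ (t ≫ j) (by rw [Category.assoc]; exact hpb'.w)
  have hw1 : w ≫ r = θ := h3.lift_fst _ _ _
  have hw2 : w ≫ q = t ≫ j := h3.lift_snd _ _ _
  have hpb2 : IsPullback w t q j := by
    have hout : IsPullback (w ≫ r) t (Spec.map (CommRingCat.ofHom NodePushout.phi.{u})) (j ≫ h) := by
      rw [hw1]; exact hpb'
    exact IsPullback.of_right hout hw2 h3
  have hwo : IsOpenImmersion w := MorphismProperty.of_isPullback (P := @IsOpenImmersion) hpb2.flip hj
  -- the étale neighbourhood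
  have hew : e x1 ∈ Set.range w := by
    have h4 : IsPullback w t q j := hpb2
    have h5 : q (e x1) = j a := by
      rw [ha, ← h2]; rfl
    obtain ⟨z, hz1, hz2⟩ := Scheme.Pullback.exists_preimage_pullback (f := q) (g := j) (e x1) a h5
    refine ⟨h4.isoPullback.inv z, ?_⟩
    change (h4.isoPullback.inv ≫ w) z = _
    rw [h4.isoPullback_inv_fst]
    exact hz1
  obtain ⟨y, hy⟩ := hew
  obtain ⟨x2, hx2, -⟩ := Scheme.Pullback.exists_preimage_pullback (f := e) (g := w) x1 y hy.symm
  have hst : Etale (pullback.snd e w) := MorphismProperty.pullback_snd e w he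
  have hfs : Etale (pullback.fst e w ≫ gU) := inferInstance
  refine ⟨R', inferInstance, hdom, hdvr, inferInstance, het, hirr, MvPolynomial.C c, ?_,
    pullback e w, pullback.fst e w ≫ gU, hfs, x2, ?_, pullback.snd e w, hst, ?_⟩
  · rcases hc with rfl | ⟨n, rfl⟩
    · left; exact map_zero _
    · right; exact ⟨n, rfl⟩
  · change gU (pullback.fst e w x2) = gU x1
    rw [hx2]
  · have h6 : Spec.map (CommRingCat.ofHom ((Ideal.Quotient.mk (Ideal.span
        {MvPolynomial.X 0 * MvPolynomial.X 1 - MvPolynomial.C c})).comp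
          ((MvPolynomial.C : R' →+* MvPolynomial (Fin 2) R').comp (algebraMap R R')))) =
        t ≫ Spec.map (CommRingCat.ofHom (algebraMap R R')) := by
      rw [ht, ← Spec.map_comp]
      rfl
    rw [h6, ← hj1, ← Category.assoc t j gV, ← hw2, Category.assoc, ← Category.assoc,
      ← pullback.condition, Category.assoc, ← Category.assoc e q gV, h2, ← h1, Category.assoc]

end Groth.Agent.Models.NodeCase
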