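/-
The étale local structure of a nodal family over a discrete valuation ring at a smooth point of the
closed fibre.
-/
import Groth.Agent.Models.NodeCase
import Groth.Agent.Models.GmChart
import Groth.Agent.CurvesB.NodalEtale
import Groth.Agent.UnramA.SmoothFibreDim
import Groth.Agent.FlatB.AffSpaceSmooth
import Groth.Agent.VarietyB.DimTop
import Mathlib.RingTheory.Smooth.Fiber
import Mathlib.RingTheory.Unramified.LocalStructure
import Mathlib.AlgebraicGeometry.Morphisms.SmoothFiber
import Mathlib.AlgebraicGeometry.Morphisms.Etale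

set_option autoImplicit false
universe u

open CategoryTheory CategoryTheory.Limits AlgebraicGeometry

namespace Groth.Agent.Models.SmoothCase

/-- A Jacobson scheme whose irreducible components all have dimension one has local dimension one at every
point. -/
theorem localDim_eq_one {F : Scheme.{u}} [JacobsonSpace F]
    (hF : ∀ Z ∈ irreducibleComponents (F : Type u), topologicalKrullDim Z = 1) (y : F) :
    FlatMor.localDim F y = 1 := by
  apply le_antisymm
  · refine (VarietyB.DimTop.localDim_le_dim y).trans ?_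
    rw [VarietyB.DimTop.topologicalKrullDim_eq_iSup_irreducibleComponents]
    exact iSup_le fun Z => (hF Z.1 Z.2).le
  · refine VarietyB.DimTop.le_localDim fun U hU => ?_
    let U' : F.Opens := U
    have h1 : ∀ Z ∈ irreducibleComponents (U' : Type u), topologicalKrullDim Z = 1 :=
      CurvesB.DimOneEtale.forall_dim_eq_one_of_etale U'.ι hF
    have h2 := h1 _ (irreducibleComponent_mem_irreducibleComponents (⟨y, hU⟩ : U'))
    rw [← h2]
    exact topologicalKrullDim_subspace_le _ _

theorem relDim_eq_one {X S Y : Scheme.{u}} (f : X ⟶ S) [LocallyOfFiniteType f] (g : Y ⟶ X)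
    [IsOpenImmersion g] (n : ℕ) (hn : SmoothOfRelativeDimension n (g ≫ f)) (s : S)
    (hF : ∀ Z ∈ irreducibleComponents (f.fiber s : Type u), topologicalKrullDim Z = 1)
    (y : (g ≫ f).fiber s) : n = 1 := by
  have := smoothOfRelativeDimension_isStableUnderBaseChange.{u} n
  have h : SmoothOfRelativeDimension n ((g ≫ f).fiberToSpecResidueField s) :=
    MorphismProperty.of_isPullback (P := @SmoothOfRelativeDimension.{u} n)
      (IsPullback.of_hasPullback (g ≫ f) (S.fromSpecResidueField s)) hn
  have h1 := @UnramA.SmoothFibreDim.localDim_eq (S.residueField s) _ n _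
    ((g ≫ f).fiberToSpecResidueField s) h y
  have h2 : IsOpenImmersion (CurvesB.NodalEtale.fiberMap f g s) :=
    MorphismProperty.of_isPullback (CurvesB.NodalEtale.isPullback_fiberMap f g s).flip inferInstance
  have h3 := VarietyB.DimTop.localDim_eq_of_isOpenEmbedding
    (CurvesB.NodalEtale.fiberMap f g s).isOpenEmbedding y
  have hft : LocallyOfFiniteType (f.fiberToSpecResidueField s) :=
    MorphismProperty.pullback_snd _ _ inferInstance
  have hJ := LocallyOfFiniteType.jacobsonSpace (f.fiberToSpecResidueField s)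
  have h4 := localDim_eq_one hF (CurvesB.NodalEtale.fiberMap f g s y)
  rw [h1, h4] at h3
  exact_mod_cast h3

/-- an affine neighbourhood whose fibre is smooth. -/
theorem exists_affine_smooth_fibre {X S : Scheme.{u}} (f : X ⟶ S) (s : S) (y : f.fiber s)
    (U : (f.fiber s).Opens) (hyU : y ∈ U) (hU : Smooth (U.ι ≫ f.fiberToSpecResidueField s)) :
    ∃ (A : Type u) (_ : CommRing A) (j : Spec (CommRingCat.of A) ⟶ X) (_ : IsOpenImmersion j)
      (a : Spec (CommRingCat.of A)), j a = f.fiberι s y ∧
      Smooth ((j ≫ f).fiberToSpecResidueField s) := by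
  obtain ⟨O, hO, hOU⟩ := (f.fiberι s).isEmbedding.isInducing.isOpen_iff.mp U.2
  let O' : X.Opens := ⟨O, hO⟩
  have hyO : f.fiberι s y ∈ O' := by
    have : y ∈ (f.fiberι s) ⁻¹' O := by rw [hOU]; exact hyU
    exact this
  obtain ⟨A, _, j, hj, a, ha⟩ := NodeCase.exists_affine_nbhd (V := O'.toScheme) ⟨f.fiberι s y, hyO⟩
  refine ⟨A, inferInstance, j ≫ O'.ι, inferInstance, a, ?_, ?_⟩
  · change O'.ι (j a) = _
    rw [ha]; rfl
  · have hop : IsOpenImmersion (CurvesB.NodalEtale.fiberMap f (j ≫ O'.ι) s) :=
      MorphismProperty.of_isPullback (CurvesB.NodalEtale.isPullback_fiberMap f (j ≫ O'.ι) s).flip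
        inferInstance
    have hr : Set.range (CurvesB.NodalEtale.fiberMap f (j ≫ O'.ι) s) ⊆ Set.range U.ι := by
      rintro _ ⟨z, rfl⟩
      rw [Scheme.Opens.range_ι]
      change CurvesB.NodalEtale.fiberMap f (j ≫ O'.ι) s z ∈ (U : Set (f.fiber s))
      have h1 : f.fiberι s (CurvesB.NodalEtale.fiberMap f (j ≫ O'.ι) s z) ∈ O := by
        have h2 : f.fiberι s (CurvesB.NodalEtale.fiberMap f (j ≫ O'.ι) s z) =
            O'.ι (j (((j ≫ O'.ι) ≫ f).fiberι s z)) := by
          change (CurvesB.NodalEtale.fiberMap f (j ≫ O'.ι) s ≫ f.fiberι s) z = _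
          rw [CurvesB.NodalEtale.fiberMap_ι]
          rfl
        rw [h2]
        exact (j (((j ≫ O'.ι) ≫ f).fiberι s z)).2
      have h3 : CurvesB.NodalEtale.fiberMap f (j ≫ O'.ι) s z ∈ (f.fiberι s) ⁻¹' O := h1
      rw [hOU] at h3
      exact h3
    let l := IsOpenImmersion.lift U.ι (CurvesB.NodalEtale.fiberMap f (j ≫ O'.ι) s) hr
    have hl : l ≫ U.ι = CurvesB.NodalEtale.fiberMap f (j ≫ O'.ι) s :=
      IsOpenImmersion.lift_fac _ _ _
    have hlo : IsOpenImmersion l := by
      have : IsOpenImmersion (l ≫ U.ι) := by rw [hl]; exact hop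
      exact IsOpenImmersion.of_comp l U.ι
    have h5 : l ≫ (U.ι ≫ f.fiberToSpecResidueField s) =
        ((j ≫ O'.ι) ≫ f).fiberToSpecResidueField s := by
      rw [← Category.assoc, hl, CurvesB.NodalEtale.fiberMap_snd]
    have h6 : Smooth (l ≫ (U.ι ≫ f.fiberToSpecResidueField s)) := inferInstance
    rw [h5] at h6
    exact h6

/-- smoothness at a point of the fibre. -/
theorem isSmoothAt {R A : Type u} [CommRing R] [CommRing A] [Algebra R A] [Module.Flat R A]
    [Algebra.FinitePresentation R A] (s : Spec (CommRingCat.of R))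
    (hs : Smooth ((Spec.map (CommRingCat.ofHom (algebraMap R A))).fiberToSpecResidueField s))
    (a : Spec (CommRingCat.of A)) (ha : Spec.map (CommRingCat.ofHom (algebraMap R A)) a = s) :
    Algebra.IsSmoothAt R a.asIdeal := by
  have hp := s.isPrime
  have hover : a.asIdeal.LiesOver s.asIdeal := by
    constructor
    rw [← ha]
    rfl
  have : Algebra.FormallySmooth s.asIdeal.ResidueField (s.asIdeal.Fiber A) := by
    rw [← RingHom.formallySmooth_algebraMap]
    refine RingHom.Smooth.formallySmooth ?_
    rw [← CommRingCat.hom_ofHom (algebraMap s.asIdeal.ResidueField (s.asIdeal.Fiber A)),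
      ← HasRingHomProperty.Spec_iff (P := @Smooth), ← MorphismProperty.arrow_mk_iso_iff (P := @Smooth)
      (Spec.fiberToSpecResidueFieldIso R A s)]
    exact hs
  exact Algebra.IsSmoothAt.of_formallySmooth_fiber s.asIdeal a.asIdeal

/-- the smooth case. -/
theorem smooth_case {R : Type u} [CommRing R] [IsDomain R] [IsDiscreteValuationRing R] (ϖ : R)
    (hϖ : Irreducible ϖ) {X : Scheme.{u}} (f : X ⟶ Spec (CommRingCat.of R)) [Flat f]
    [LocallyOfFinitePresentation f] (s : Spec (CommRingCat.of R)) (y : f.fiber s)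
    (hF : ∀ Z ∈ irreducibleComponents (f.fiber s : Type u), topologicalKrullDim Z = 1)
    (U : (f.fiber s).Opens) (hyU : y ∈ U) (hU : Smooth (U.ι ≫ f.fiberToSpecResidueField s))
    (x : X) (hx : x ⤳ f.fiberι s y) : NodeCase.Concl R ϖ X f x := by
  obtain ⟨A, _, j, hj, a, ha, hsm⟩ := exists_affine_smooth_fibre f s y U hyU hU
  let φ : CommRingCat.of R ⟶ CommRingCat.of A := Spec.preimage (j ≫ f)
  letI : Algebra R A := φ.hom.toAlgebra
  have hφ : Spec.map (CommRingCat.ofHom (algebraMap R A)) = j ≫ f := by
    have : CommRingCat.ofHom (algebraMap R A) = φ := rfl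
    rw [this]
    exact Spec.map_preimage _
  have hflat : Module.Flat R A := by
    have h2 : Flat (j ≫ f) := inferInstance
    rw [← hφ, Flat.SpecMap_iff, CommRingCat.hom_ofHom, RingHom.flat_algebraMap_iff] at h2
    exact h2
  have hfp : Algebra.FinitePresentation R A := by
    have h2 : LocallyOfFinitePresentation (j ≫ f) := inferInstance
    rw [← hφ, HasRingHomProperty.Spec_iff (P := @LocallyOfFinitePresentation),
      CommRingCat.hom_ofHom, RingHom.finitePresentation_algebraMap] at h2
    exact h2
  have hfa : f (f.fiberι s y) = s := by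
    have h1 : f.fiberι s y ∈ Set.range (f.fiberι s) := ⟨y, rfl⟩
    rw [Scheme.Hom.range_fiberι] at h1
    exact h1
  have has : Spec.map (CommRingCat.ofHom (algebraMap R A)) a = s := by
    rw [hφ]
    change f (j a) = s
    rw [ha, hfa]
  have hsmA : Algebra.IsSmoothAt R a.asIdeal := by
    rw [← hφ] at hsm
    exact isSmoothAt s hsm a has
  obtain ⟨g, hg, n, _, htow, hse⟩ :=
    Algebra.IsSmoothAt.exists_isStandardEtale_mvPolynomial (R := R) (p := a.asIdeal)
  have het : Algebra.Etale (MvPolynomial (Fin n) R) (Localization.Away g) := inferInstance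
  let j2 : Spec (CommRingCat.of (Localization.Away g)) ⟶ Spec (CommRingCat.of A) :=
    Spec.map (CommRingCat.ofHom (algebraMap A (Localization.Away g)))
  have hj2 : IsOpenImmersion j2 := inferInstance
  have hj2f : (j2 ≫ j) ≫ f = Spec.map (CommRingCat.ofHom (algebraMap R (Localization.Away g))) := by
    rw [Category.assoc, ← hφ, ← Spec.map_comp, ← CommRingCat.ofHom_comp,
      ← IsScalarTower.algebraMap_eq]
  obtain ⟨a2, ha2⟩ : ∃ a2, j2 a2 = a := by
    have h2 : Set.range (PrimeSpectrum.comap (algebraMap A (Localization.Away g))) =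
        (PrimeSpectrum.basicOpen g : Set (PrimeSpectrum A)) :=
      PrimeSpectrum.localization_away_comap_range _ g
    have h3 : a ∈ (PrimeSpectrum.basicOpen g : Set (PrimeSpectrum A)) := hg
    rw [← h2] at h3
    exact h3
  -- the relative dimension is one
  have hn : n = 1 := by
    have h1 : Etale (Spec.map (CommRingCat.ofHom
        (algebraMap (MvPolynomial (Fin n) R) (Localization.Away g)))) := by
      rw [HasRingHomProperty.Spec_iff (P := @Etale), CommRingCat.hom_ofHom, RingHom.etale_algebraMap]
      exact het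
    have h2 := FlatB.AffSpaceSmooth.smoothOfRelativeDimension_SpecMap R n
    have h3 : SmoothOfRelativeDimension (0 + n) ((j2 ≫ j) ≫ f) := by
      have h4 : (j2 ≫ j) ≫ f = Spec.map (CommRingCat.ofHom
          (algebraMap (MvPolynomial (Fin n) R) (Localization.Away g))) ≫
          Spec.map (CommRingCat.ofHom (algebraMap R (MvPolynomial (Fin n) R))) := by
        rw [hj2f, ← Spec.map_comp, ← CommRingCat.ofHom_comp, ← IsScalarTower.algebraMap_eq]
      rw [h4]
      infer_instance
    rw [Nat.zero_add] at h3
    -- a point of the fibre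
    have hy2 : ((j2 ≫ j) ≫ f) a2 = s := by
      change f (j (j2 a2)) = s
      rw [ha2, ha, hfa]
    subst hy2
    exact relDim_eq_one f (j2 ≫ j) n h3 _ hF (((j2 ≫ j) ≫ f).asFiber a2)
  subst hn
  -- the point
  obtain ⟨x2, hx2⟩ : ∃ x2, (j2 ≫ j) x2 = x := by
    have h1 : IsOpen (Set.range (j2 ≫ j)) := (j2 ≫ j).isOpenEmbedding.isOpen_range
    have h2 : f.fiberι s y ∈ Set.range (j2 ≫ j) := ⟨a2, by
      change j (j2 a2) = _
      rw [ha2, ha]⟩
    exact hx.mem_open h1 h2
  let B := Localization.Away g
  let t : B := algebraMap (MvPolynomial (Fin 1) R) B (MvPolynomial.X 0)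
  obtain ⟨c, hc⟩ : ∃ c : R, t + algebraMap R B c ∉ x2.asIdeal := by
    by_contra hcon
    push Not at hcon
    have h0 := hcon 0
    have h1 := hcon 1
    rw [map_zero, add_zero] at h0
    rw [map_one] at h1
    have h2 : (1 : B) ∈ x2.asIdeal := by
      have := x2.asIdeal.sub_mem h1 h0
      rwa [add_sub_cancel_left] at this
    exact x2.isPrime.ne_top ((Ideal.eq_top_iff_one _).mpr h2)
  let b : B := t + algebraMap R B c
  let D := Localization.Away b
  let j3 : Spec (CommRingCat.of D) ⟶ Spec (CommRingCat.of B) :=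
    Spec.map (CommRingCat.ofHom (algebraMap B D))
  have hj3 : IsOpenImmersion j3 := inferInstance
  obtain ⟨x3, hx3⟩ : ∃ x3, j3 x3 = x2 := by
    have h2 : Set.range (PrimeSpectrum.comap (algebraMap B D)) =
        (PrimeSpectrum.basicOpen b : Set (PrimeSpectrum B)) :=
      PrimeSpectrum.localization_away_comap_range _ b
    have h3 : x2 ∈ (PrimeSpectrum.basicOpen b : Set (PrimeSpectrum B)) := hc
    rw [← h2] at h3
    exact h3
  obtain ⟨v, hv⟩ := (IsLocalization.Away.algebraMap_isUnit (S := D) b).exists_right_inv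
  obtain ⟨k, hk1, hk2, -⟩ := GmChart.exists_desc (1 : R) rfl (algebraMap R D) (algebraMap B D b) v hv
  have hkl : k.comp (GmChart.lam (1 : R) c) =
      (algebraMap B D).comp (algebraMap (MvPolynomial (Fin 1) R) B) := by
    apply MvPolynomial.ringHom_ext
    · intro r
      rw [RingHom.comp_apply, GmChart.lam_C]
      have h5 := congrArg (fun m => m r) hk1
      simp only [RingHom.comp_apply] at h5
      rw [h5, RingHom.comp_apply, ← MvPolynomial.algebraMap_eq, ← IsScalarTower.algebraMap_apply R _ B,
        ← IsScalarTower.algebraMap_apply R B D]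
    · intro i
      rw [Subsingleton.elim i 0, RingHom.comp_apply, GmChart.lam_X, map_sub, hk2]
      have h5 := congrArg (fun m => m c) hk1
      simp only [RingHom.comp_apply] at h5
      rw [h5, IsScalarTower.algebraMap_apply R B D, ← map_sub]
      simp only [b, add_sub_cancel_right]
      rfl
  have hetk : Etale (Spec.map (CommRingCat.ofHom k)) := by
    have h1 : Etale (Spec.map (CommRingCat.ofHom k) ≫
        Spec.map (CommRingCat.ofHom (GmChart.lam (1 : R) c))) := by
      rw [← Spec.map_comp, ← CommRingCat.ofHom_comp, hkl, CommRingCat.ofHom_comp, Spec.map_comp]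
      have h2 : Etale (Spec.map (CommRingCat.ofHom (algebraMap (MvPolynomial (Fin 1) R) B))) := by
        rw [HasRingHomProperty.Spec_iff (P := @Etale), CommRingCat.hom_ofHom, RingHom.etale_algebraMap]
        exact het
      infer_instance
    have h2 := GmChart.etale_lam (1 : R) c rfl
    exact Etale.of_comp _ (Spec.map (CommRingCat.ofHom (GmChart.lam (1 : R) c)))
  refine ⟨R, inferInstance, inferInstance, inferInstance, inferInstance, inferInstance, hϖ,
    MvPolynomial.C (1 : R), Or.inr ⟨0, by rw [pow_zero]⟩, Spec (CommRingCat.of D), j3 ≫ (j2 ≫ j),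
    inferInstance, x3, ?_, Spec.map (CommRingCat.ofHom k), hetk, ?_⟩
  · change (j2 ≫ j) (j3 x3) = x
    rw [hx3, hx2]
  · rw [Category.assoc, hj2f, ← Spec.map_comp, ← Spec.map_comp, ← CommRingCat.ofHom_comp,
      ← CommRingCat.ofHom_comp]
    congr 2

end Groth.Agent.Models.SmoothCase
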