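import Groth.Prelude.Def_Models
import Groth.Prelude.Def_Curve
import Groth.Agent.CycB.ImageInt
import Groth.Agent.Dix.ContractSurf
import Groth.Agent.Models.DVRGeneric
import Mathlib.AlgebraicGeometry.Morphisms.Immersion
import Mathlib.AlgebraicGeometry.Morphisms.Proper
import Mathlib.RingTheory.DedekindDomain.PID

/-!
# Proper flat integral models of proper integral schemes over the fraction field of a DVR

Given a compactification of `C → Spec K → Spec R`, the scheme-theoretic closure of `C` is a proper flat integral
model.
-/

set_option autoImplicit false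
universe u
open CategoryTheory CategoryTheory.Limits AlgebraicGeometry

namespace Groth.Agent.Models.RMFlat

/-- A proper morphism which is an open immersion into a connected scheme, with nonempty source, is an isomorphism. -/
theorem isIso_of_isProper_of_isOpenImmersion {X Y : Scheme.{u}} (f : X ⟶ Y) [IsProper f] [IsOpenImmersion f]
    [PreconnectedSpace Y] [Nonempty X] : IsIso f := by
  have hcl : IsClosed (Set.range f) := f.isClosedMap.isClosed_range
  have hop : IsOpen (Set.range f) := f.isOpenEmbedding.isOpen_range
  have hco : IsClopen (Set.range f) := ⟨hcl, hop⟩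
  have huniv : Set.range f = Set.univ := hco.eq_univ (Set.range_nonempty _)
  have : Surjective f := ⟨Set.range_eq_univ.mp huniv⟩
  exact (isIso_iff_isOpenImmersion_and_surjective f).mpr ⟨inferInstance, inferInstance⟩

variable {R : Type u} [CommRing R] [IsDomain R] [IsDiscreteValuationRing R]

/-- The closure of an integral scheme `C`, proper over `K`, in a compactification over `R` is a proper flat integral
model of `C`. -/
theorem exists_model_of_compactification {C : Scheme.{u}} (f : C ⟶ Spec (CommRingCat.of (FractionRing R)))
    [IsProper f] [IsIntegral C] {Xc : Scheme.{u}} (j : C ⟶ Xc) (g : Xc ⟶ Spec (CommRingCat.of R))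
    [IsImmersion j] [QuasiCompact j] [IsProper g]
    (h : j ≫ g = f ≫ Spec.map (CommRingCat.ofHom (algebraMap R (FractionRing R)))) :
    ∃ (X : Scheme.{u}) (p : X ⟶ Spec (CommRingCat.of R)) (i : X ⟶ Xc), IsClosedImmersion i ∧ i ≫ g = p ∧
      Models.IsModel R X p C f ∧ IsProper p ∧ IsIntegral X := by
  have hopen : IsOpenImmersion (Spec.map (CommRingCat.ofHom (algebraMap R (FractionRing R)))) :=
    DVRGeneric.isOpenImmersion_generic R (FractionRing R)
  have hint : IsIntegral j.image := CycB.ImageInt.isIntegral_image j
  let p : j.image ⟶ Spec (CommRingCat.of R) := j.imageι ≫ g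
  have hjp : j.toImage ≫ p = f ≫ Spec.map (CommRingCat.ofHom (algebraMap R (FractionRing R))) := by
    rw [← h, ← Category.assoc, Scheme.Hom.toImage_imageι]
  have hflatK : Flat (j.toImage ≫ p) := by
    rw [hjp]
    have : Flat f := inferInstance
    infer_instance
  have hflat : Flat p := Dix.ContractSurf.flat_of_dominant j.toImage p
  have hprop : IsProper p := inferInstance
  refine ⟨j.image, p, j.imageι, inferInstance, rfl, ⟨hflat, inferInstance, inferInstance, j.toImage, ?_⟩, hprop, hint⟩
  let P := pullback p (Spec.map (CommRingCat.ofHom (algebraMap R (FractionRing R))))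
  let l : C ⟶ P := pullback.lift j.toImage f hjp
  have hl1 : l ≫ pullback.fst _ _ = j.toImage := pullback.lift_fst _ _ _
  have hl2 : l ≫ pullback.snd _ _ = f := pullback.lift_snd _ _ _
  have hlo : IsOpenImmersion l := by
    have : IsOpenImmersion (l ≫ pullback.fst p (Spec.map (CommRingCat.ofHom (algebraMap R (FractionRing R))))) := by
      rw [hl1]
      infer_instance
    exact IsOpenImmersion.of_comp l (pullback.fst _ _)
  have hlp : IsProper l := by
    have : IsProper (l ≫ pullback.snd p (Spec.map (CommRingCat.ofHom (algebraMap R (FractionRing R))))) := by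
      rw [hl2]
      infer_instance
    exact MorphismProperty.of_postcomp (W := @IsProper) (W' := @IsSeparated) l (pullback.snd _ _) inferInstance
      this
  have hne : Nonempty C := inferInstance
  have hneP : Nonempty P := ⟨l hne.some⟩
  have hirr : IsIntegral P := isIntegral_of_isOpenImmersion
    (pullback.fst p (Spec.map (CommRingCat.ofHom (algebraMap R (FractionRing R)))))
  have : IsIso l := isIso_of_isProper_of_isOpenImmersion l
  refine IsPullback.of_iso_pullback ⟨hjp⟩ (asIso l) hl1 hl2

end Groth.Agent.Models.RMFlat
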