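import Groth.Agent.Models.RMBlow
import Groth.Agent.Models.DVRGeneric2
import Groth.Agent.Dix.ContractSurf
import Groth.Agent.S2348

/-!
# Resolving finitely many points of a proper model
-/

set_option autoImplicit false
universe u

open CategoryTheory CategoryTheory.Limits AlgebraicGeometry IsLocalRing

namespace Groth.Agent.Models.RMStep

open Groth.Agent.Models.RMBlow

variable {R : Type u} [CommRing R] [IsDomain R] [IsDiscreteValuationRing R]
  {C : Scheme.{u}} (f : C ⟶ Spec (CommRingCat.of (FractionRing R)))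

/-- integral proper flat models of `C` -/
structure IsM (X : Scheme.{u}) (p : X ⟶ Spec (CommRingCat.of R)) : Prop where
  proper : IsProper p
  flat : Flat p
  integral : IsIntegral X
  pullback : ∃ g : C ⟶ X, IsPullback g f p
    (Spec.map (CommRingCat.ofHom (algebraMap R (FractionRing R))))

theorem resolvable_of_ringEquiv {A B : Type u} [CommRing A] [IsLocalRing A] [IsNoetherianRing A]
    [CommRing B] [IsLocalRing B] (e : A ≃+* B) (h : Resolvable B) : Resolvable A := by
  letI : Algebra A B := e.toRingHom.toAlgebra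
  have h1 : algebraMap A B = e.toRingHom := rfl
  have hl : IsLocalHom (algebraMap A B) := by
    rw [h1]; exact isLocalHom_of_leftInverse e.symm.toRingHom (fun x => e.symm_apply_apply x)
  have hf : Module.Flat A B := by
    have : (algebraMap A B).Flat := RingHom.Flat.of_bijective (by rw [h1]; exact e.bijective)
    exact this
  refine Resolvable.descend (A := A) (B := B) ?_ (fun b => ⟨e.symm b, ?_⟩) h
  · apply le_antisymm
    · exact ((IsLocalRing.local_hom_TFAE (algebraMap A B)).out 0 2).1 hl
    · intro b hb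
      have h2 : b = algebraMap A B (e.symm b) := (e.apply_symm_apply b).symm
      rw [h2]
      apply Ideal.mem_map_of_mem
      rw [IsLocalRing.mem_maximalIdeal, mem_nonunits_iff] at hb ⊢
      intro h3
      apply hb
      rw [h2]
      exact h3.map _
  · have : algebraMap A B (e.symm b) = b := e.apply_symm_apply b
    rw [this, sub_self]
    exact zero_mem _

/-- A blow-up with centre supported at a closed point of the special fibre is again a model. -/
theorem IsM.blowUp {X : Scheme.{u}} {p : X ⟶ Spec (CommRingCat.of R)} (hX : IsM f X p)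
    [Nonempty C] [Flat f] (x : X) (hx : IsClosed ({x} : Set X)) (hpx : p x = closedPoint R)
    (𝓘 : X.IdealSheafData) (hfin : BlowUp.IsFiniteTypeIdeal 𝓘) (hsupp : (𝓘.support : Set X) ⊆ {x})
    {X' : Scheme.{u}} (b : X' ⟶ X) (hb : BlowUp.IsBlowUp b 𝓘) : IsM f X' (b ≫ p) := by
  obtain ⟨hprop, hflat, hint, g, hg⟩ := hX
  have hbp : IsProper b := Groth.Agent.Flat2C.BlowProper.isProper_of_isBlowUp hb hfin
  set i := Spec.map (CommRingCat.ofHom (algebraMap R (FractionRing R))) with hi
  have hio : IsOpenImmersion i := DVRGeneric.isOpenImmersion_generic R (FractionRing R)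
  -- the open complement of `x`
  let U : X.Opens := ⟨{x}ᶜ, hx.isOpen_compl⟩
  have hU : IsIso (b ∣_ U) := by
    apply Groth.Agent.Divis.BlowUpFormal.isIso_morphismRestrict_compl_support hb
    exact Set.disjoint_left.2 fun z hz hz' => hz (hsupp hz')
  have hgU : ∀ c : C, g c ∈ U := by
    intro c hc
    have h1 : p (g c) = closedPoint R := by
      rw [show g c = x from hc, hpx]
    have h2 : p (g c) = i (f c) := by
      rw [← Scheme.Hom.comp_apply, ← Scheme.Hom.comp_apply, hg.w]
    have h3 : ((i (f c)).asIdeal) = ⊥ := by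
      have h4 : (f c).asIdeal = ⊥ := by
        have := (f c).isPrime
        exact (Ideal.eq_bot_or_top _).resolve_right this.ne_top
      change Ideal.comap (algebraMap R (FractionRing R)) (f c).asIdeal = ⊥
      rw [h4, ← RingHom.ker_eq_comap_bot]
      exact (RingHom.injective_iff_ker_eq_bot _).mp (IsFractionRing.injective R (FractionRing R))
    rw [← h2, h1] at h3
    exact IsDiscreteValuationRing.not_a_field R h3
  -- `X'` is integral
  obtain ⟨c₀⟩ := ‹Nonempty C›
  have hne : 𝓘 ≠ ⊥ := by
    rintro rfl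
    have h1 : g c₀ ∈ ((⊥ : X.IdealSheafData).support : Set X) := by
      rw [Scheme.IdealSheafData.support_bot]; trivial
    exact hgU c₀ (hsupp h1)
  obtain ⟨hint', -, -⟩ := Groth.Agent.S2348.result 𝓘 hne b hb
  -- the pullback square
  let gU : C ⟶ U := IsOpenImmersion.lift U.ι g (by
    rintro _ ⟨c, rfl⟩
    rw [Scheme.Opens.range_ι]
    exact hgU c)
  have hgUι : gU ≫ U.ι = g := IsOpenImmersion.lift_fac _ _ _
  let g1 : C ⟶ b ⁻¹ᵁ U := gU ≫ inv (b ∣_ U)
  have sq1 : IsPullback g1 (𝟙 C) (b ∣_ U) gU :=
    IsPullback.of_vert_isIso ⟨by simp [g1]⟩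
  have sq2 : IsPullback (b ⁻¹ᵁ U).ι (b ∣_ U) b U.ι := (isPullback_morphismRestrict b U).flip
  have sq3 := sq1.paste_horiz sq2
  rw [hgUι] at sq3
  have sq4 := sq3.paste_vert hg
  rw [Category.id_comp] at sq4
  set g' := g1 ≫ (b ⁻¹ᵁ U).ι with hg'
  have hg'o : IsOpenImmersion g' := DVRGeneric.isOpenImmersion_of_isPullback sq4
  have hdom : IsDominant g' := by
    refine ⟨?_⟩
    have h1 : IsOpen (Set.range g') := g'.isOpenEmbedding.isOpen_range
    exact h1.dense ⟨g' c₀, c₀, rfl⟩
  have hflat' : Flat (b ≫ p) := by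
    have h1 : Flat (g' ≫ (b ≫ p)) := by
      rw [sq4.w]
      infer_instance
    exact Groth.Agent.Dix.ContractSurf.flat_of_dominant g' (b ≫ p)
  exact ⟨inferInstance, hflat', hint', g', sq4⟩

/-- A model with finitely many non-regular points, all closed points of the special fibre with
resolvable local rings, can be modified to a regular model. -/
theorem exists_regular [Nonempty C] [Flat f] (n : ℕ) : ∀ (X : Scheme.{u}) (p : X ⟶ Spec (CommRingCat.of R))
    (_ : IsM f X p) (_ : {x : X | ¬ IsRegularLocalRing (X.presheaf.stalk x)}.Finite)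
    (_ : {x : X | ¬ IsRegularLocalRing (X.presheaf.stalk x)}.ncard ≤ n)
    (_ : ∀ x : X, ¬ IsRegularLocalRing (X.presheaf.stalk x) → IsClosed ({x} : Set X) ∧ p x = closedPoint R ∧
      Resolvable (X.presheaf.stalk x)),
    ∃ (X' : Scheme.{u}) (p' : X' ⟶ Spec (CommRingCat.of R)), IsM f X' p' ∧
      ∀ x : X', IsRegularLocalRing (X'.presheaf.stalk x) := by
  induction n with
  | zero =>
    intro X p hX hfin hn _
    refine ⟨X, p, hX, fun x => ?_⟩
    by_contra hx
    rw [Nat.le_zero, Set.ncard_eq_zero hfin] at hn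
    exact (Set.eq_empty_iff_forall_notMem.1 hn) x hx
  | succ n ih =>
    intro X p hX hfin hn hres
    by_cases hreg : ∀ x : X, IsRegularLocalRing (X.presheaf.stalk x)
    · exact ⟨X, p, hX, hreg⟩
    push Not at hreg
    obtain ⟨x, hx⟩ := hreg
    obtain ⟨hxc, hpx, hxr⟩ := hres x hx
    have hprop := hX.proper
    have hln : IsLocallyNoetherian X := LocallyOfFiniteType.isLocallyNoetherian p
    obtain ⟨X', b, 𝓘, hb, hft, hsupp, hregb⟩ := exists_blowUp x hxc hxr
    have hX' := hX.blowUp f x hxc hpx 𝓘 hft hsupp b hb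
    let U : X.Opens := ⟨{x}ᶜ, hxc.isOpen_compl⟩
    have hU : IsIso (b ∣_ U) := by
      apply Groth.Agent.Divis.BlowUpFormal.isIso_morphismRestrict_compl_support hb
      exact Set.disjoint_left.2 fun z hz hz' => hz (hsupp hz')
    have hne : ∀ x' : X', ¬ IsRegularLocalRing (X'.presheaf.stalk x') → b x' ∈ U := by
      intro x' hx' h
      exact hx' (hregb x' h)
    have hinj : ∀ y z : X', b y ∈ U → b z = b y → z = y := by
      intro y z hy hyz
      have hz : b z ∈ U := by rw [hyz]; exact hy
      have h1 : (b ∣_ U) ⟨z, hz⟩ = (b ∣_ U) ⟨y, hy⟩ := by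
        apply Subtype.ext
        rw [morphismRestrict_base_coe, morphismRestrict_base_coe]
        exact hyz
      have h2 := (b ∣_ U).isOpenEmbedding.injective h1
      exact congrArg Subtype.val h2
    have hmap : ∀ x' : X', ¬ IsRegularLocalRing (X'.presheaf.stalk x') →
        ¬ IsRegularLocalRing (X.presheaf.stalk (b x')) ∧ b x' ≠ x := by
      intro x' hx'
      refine ⟨fun h => hx' ?_, hne x' hx'⟩
      have := Groth.Agent.Dix.ContractSurf.isIso_stalkMap b U x' (hne x' hx')
      exact IsRegularLocalRing.of_ringEquiv (asIso (b.stalkMap x')).commRingCatIsoToRingEquiv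
    have hinjOn : Set.InjOn b {x' : X' | ¬ IsRegularLocalRing (X'.presheaf.stalk x')} := by
      intro y _ z hz hyz
      exact hinj z y (hne z hz) hyz
    have hsub : b '' {x' : X' | ¬ IsRegularLocalRing (X'.presheaf.stalk x')} ⊆
        {x : X | ¬ IsRegularLocalRing (X.presheaf.stalk x)} \ {x} := by
      rintro _ ⟨x', hx', rfl⟩
      exact ⟨(hmap x' hx').1, (hmap x' hx').2⟩
    have hfin' : {x' : X' | ¬ IsRegularLocalRing (X'.presheaf.stalk x')}.Finite :=
      Set.Finite.of_finite_image ((hfin.subset Set.diff_subset).subset hsub) hinjOn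
    have hcard : {x' : X' | ¬ IsRegularLocalRing (X'.presheaf.stalk x')}.ncard ≤ n := by
      rw [← Set.ncard_image_of_injOn hinjOn]
      have h1 := Set.ncard_le_ncard hsub (hfin.subset Set.diff_subset)
      have h2 := Set.ncard_diff_singleton_add_one (s := {x : X | ¬ IsRegularLocalRing (X.presheaf.stalk x)})
        hx hfin
      omega
    refine ih X' (b ≫ p) hX' hfin' hcard fun x' hx' => ?_
    obtain ⟨h1, h2⟩ := hmap x' hx'
    obtain ⟨h3, h4, h5⟩ := hres (b x') h1
    refine ⟨?_, ?_, ?_⟩
    · have : ({x'} : Set X') = b ⁻¹' {b x'} := by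
        ext z
        constructor
        · rintro rfl; rfl
        · intro hz; exact hinj x' z (hne x' hx') hz
      rw [this]
      exact h3.preimage b.continuous
    · rw [Scheme.Hom.comp_apply, h4]
    · have hprop' := hX'.proper
      have hln' : IsLocallyNoetherian X' := LocallyOfFiniteType.isLocallyNoetherian (b ≫ p)
      have := Groth.Agent.Dix.ContractSurf.isIso_stalkMap b U x' (hne x' hx')
      exact resolvable_of_ringEquiv (asIso (b.stalkMap x')).commRingCatIsoToRingEquiv.symm h5

end Groth.Agent.Models.RMStep
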