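import Mathlib.Algebra.Homology.Double
import Mathlib.Algebra.Homology.Homotopy
import Mathlib.Algebra.Homology.Additive

/-!
Homotopy equivalences between two-term cochain complexes (Mathlib's `HomologicalComplex.double`).
-/

open CategoryTheory Limits

namespace Groth.Agent.Models.DoubleCx

universe v u

variable {C : Type u} [Category.{v} C] [Preadditive C] [HasZeroObject C]

/-- The two-term complex `X ⟶ Y` in degrees `-1` and `0`. -/
noncomputable abbrev dbl {X Y : C} (f : X ⟶ Y) : CochainComplex C ℤ :=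
  HomologicalComplex.double f (show (ComplexShape.up ℤ).Rel (-1) 0 by simp)

/-- The term in degree `-1`. -/
noncomputable def i₀ {X Y : C} (f : X ⟶ Y) : (dbl f).X (-1) ≅ X :=
  HomologicalComplex.doubleXIso₀ f _

/-- The term in degree `0`. -/
noncomputable def i₁ {X Y : C} (f : X ⟶ Y) : (dbl f).X 0 ≅ Y :=
  HomologicalComplex.doubleXIso₁ f _ (by decide)

lemma dbl_d {X Y : C} (f : X ⟶ Y) : (dbl f).d (-1) 0 = (i₀ f).hom ≫ f ≫ (i₁ f).inv :=
  HomologicalComplex.double_d _ _ (by decide)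

/-- Map of two-term complexes. -/
noncomputable def dblMap {X Y X' Y' : C} {f : X ⟶ Y} {f' : X' ⟶ Y'} (a : X ⟶ X') (b : Y ⟶ Y')
    (h : a ≫ f' = f ≫ b) : dbl f ⟶ dbl f' :=
  HomologicalComplex.mkHomFromDouble _ (by decide)
    (a ≫ (i₀ f').inv) (b ≫ (i₁ f').inv)
    (by
      rw [dbl_d]
      simp [reassoc_of% h])
    (by
      intro k hk
      rw [HomologicalComplex.double_d_eq_zero₀ _ _ _ _ (by decide), comp_zero])

@[simp] lemma dblMap_f₀ {X Y X' Y' : C} {f : X ⟶ Y} {f' : X' ⟶ Y'} (a : X ⟶ X') (b : Y ⟶ Y')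
    (h : a ≫ f' = f ≫ b) : (dblMap a b h).f (-1) = (i₀ f).hom ≫ a ≫ (i₀ f').inv := by
  simp [dblMap, i₀]

@[simp] lemma dblMap_f₁ {X Y X' Y' : C} {f : X ⟶ Y} {f' : X' ⟶ Y'} (a : X ⟶ X') (b : Y ⟶ Y')
    (h : a ≫ f' = f ≫ b) : (dblMap a b h).f 0 = (i₁ f).hom ≫ b ≫ (i₁ f').inv := by
  simp [dblMap, i₁]

lemma dblMap_id {X Y : C} (f : X ⟶ Y) : dblMap (f := f) (f' := f) (𝟙 X) (𝟙 Y) (by simp) = 𝟙 _ := by
  apply HomologicalComplex.from_double_hom_ext <;> simp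

lemma dblMap_comp {X Y X' Y' X'' Y'' : C} {f : X ⟶ Y} {f' : X' ⟶ Y'} {f'' : X'' ⟶ Y''}
    (a : X ⟶ X') (b : Y ⟶ Y') (h : a ≫ f' = f ≫ b) (a' : X' ⟶ X'') (b' : Y' ⟶ Y'')
    (h' : a' ≫ f'' = f' ≫ b') :
    dblMap a b h ≫ dblMap a' b' h' =
      dblMap (a ≫ a') (b ≫ b') (by rw [Category.assoc, h', reassoc_of% h]) := by
  apply HomologicalComplex.from_double_hom_ext <;> simp

/-- A homotopy between two maps of two-term complexes. -/
noncomputable def dblHomotopy {X Y X' Y' : C} {f : X ⟶ Y} {f' : X' ⟶ Y'} (a a' : X ⟶ X')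
    (b b' : Y ⟶ Y') (h : a ≫ f' = f ≫ b) (h' : a' ≫ f' = f ≫ b') (s : Y ⟶ X')
    (hs₀ : a = f ≫ s + a') (hs₁ : b = s ≫ f' + b') : Homotopy (dblMap a b h) (dblMap a' b' h') where
  hom i j := if hij : i = 0 ∧ j = -1 then
      eqToHom (congrArg (dbl f).X hij.1) ≫ (i₁ f).hom ≫ s ≫ (i₀ f').inv ≫
        eqToHom (congrArg (dbl f').X hij.2.symm)
    else 0
  zero i j hij := dif_neg (by
    rintro ⟨rfl, rfl⟩
    exact hij (by simp))
  comm i := by
    by_cases hi : i = -1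
    · subst hi
      rw [dNext_eq _ (show (ComplexShape.up ℤ).Rel (-1) 0 by simp),
        prevD_eq _ (show (ComplexShape.up ℤ).Rel (-2) (-1) by simp)]
      rw [dif_pos ⟨rfl, rfl⟩, dif_neg (by simp), dbl_d]
      simp only [dblMap_f₀, hs₀]
      simp
    · by_cases hi' : i = 0
      · subst hi'
        rw [dNext_eq _ (show (ComplexShape.up ℤ).Rel 0 1 by simp),
          prevD_eq _ (show (ComplexShape.up ℤ).Rel (-1) 0 by simp)]
        rw [dif_neg (by simp), dif_pos ⟨rfl, rfl⟩, dbl_d]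
        simp only [dblMap_f₁, hs₁]
        simp
      · exact (HomologicalComplex.isZero_double_X f _ i hi hi').eq_of_src _ _

/-- A homotopy equivalence of two-term complexes. -/
noncomputable def dblHomotopyEquiv {X Y X' Y' : C} {f : X ⟶ Y} {f' : X' ⟶ Y'} (a : X ⟶ X')
    (b : Y ⟶ Y') (h : a ≫ f' = f ≫ b) (a' : X' ⟶ X) (b' : Y' ⟶ Y) (h' : a' ≫ f = f' ≫ b')
    (s : Y ⟶ X) (hs₀ : a ≫ a' = f ≫ s + 𝟙 X) (hs₁ : b ≫ b' = s ≫ f + 𝟙 Y)
    (s' : Y' ⟶ X') (hs₀' : a' ≫ a = f' ≫ s' + 𝟙 X') (hs₁' : b' ≫ b = s' ≫ f' + 𝟙 Y') :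
    HomotopyEquiv (dbl f) (dbl f') where
  hom := dblMap a b h
  inv := dblMap a' b' h'
  homotopyHomInvId := (Homotopy.ofEq (dblMap_comp _ _ _ _ _ _)).trans
    ((dblHomotopy _ _ _ _ _ _ s hs₀ hs₁).trans (Homotopy.ofEq (dblMap_id f)))
  homotopyInvHomId := (Homotopy.ofEq (dblMap_comp _ _ _ _ _ _)).trans
    ((dblHomotopy _ _ _ _ _ _ s' hs₀' hs₁').trans (Homotopy.ofEq (dblMap_id f')))

end Groth.Agent.Models.DoubleCx
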