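import Groth.Prelude.Def_LCI2
import Groth.Agent.Models.DoubleCx
import Mathlib.Algebra.Homology.DerivedCategory.KProjective
import Mathlib.Algebra.Homology.DerivedCategory.ShortExact
import Mathlib.RingTheory.Flat.Equalizer
import Mathlib.Algebra.Category.ModuleCat.Biproducts

/-!
A two-term complex `C → F` with `F` projective has tor-amplitude in `[-1, 0]` iff `C` is flat.
-/

open CategoryTheory Limits

universe u

namespace Groth.Agent.Models.NLFlat

open Groth.Agent.Models.DoubleCx

attribute [local instance] HasDerivedCategory.standard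

variable {B : Type u} [CommRing B]

/-- The kernel of a surjection of flat modules is flat. -/
lemma flat_of_exact {K M P : Type u} [AddCommGroup K] [AddCommGroup M] [AddCommGroup P]
    [Module B K] [Module B M] [Module B P] [Module.Flat B M] [Module.Flat B P]
    {g : K →ₗ[B] M} (f : M →ₗ[B] P) (hg : Function.Injective g) (hf : Function.Surjective f)
    (H : Function.Exact g f) : Module.Flat B K := by
  rw [Module.Flat.iff_lTensor_preserves_injective_linearMap]
  intro N N' _ _ _ _ h hh
  have h1 : Function.Injective (h.lTensor M) :=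
    Module.Flat.lTensor_preserves_injective_linearMap h hh
  have h2 : Function.Injective (g.rTensor N) := by
    rw [← LinearMap.lTensor_inj_iff_rTensor_inj]
    exact LinearMap.lTensor_injective_of_exact_of_flat f hf g hg H N
  have h3 : (g.rTensor N') ∘ₗ (h.lTensor K) = (h.lTensor M) ∘ₗ (g.rTensor N) := by
    ext x y
    simp
  have h4 : Function.Injective ((g.rTensor N') ∘ₗ (h.lTensor K)) := by
    rw [h3]
    exact h1.comp h2
  rw [LinearMap.coe_comp] at h4
  exact Function.Injective.of_comp h4

/-- A product of two flat modules is flat. -/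
lemma flat_prod {M N : Type u} [AddCommGroup M] [AddCommGroup N] [Module B M] [Module B N]
    [Module.Flat B M] [Module.Flat B N] : Module.Flat B (M × N) := by
  rw [Module.Flat.iff_lTensor_preserves_injective_linearMap]
  intro P Q _ _ _ _ h hh
  rw [injective_iff_map_eq_zero]
  intro x hx
  have h1 : (LinearMap.fst B M N).rTensor P x = 0 := by
    apply Module.Flat.lTensor_preserves_injective_linearMap (M := M) h hh
    rw [map_zero]
    have := LinearMap.congr_fun (show (h.lTensor M) ∘ₗ (LinearMap.fst B M N).rTensor P =
      (LinearMap.fst B M N).rTensor Q ∘ₗ (h.lTensor (M × N)) by ext <;> simp) x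
    simp only [LinearMap.comp_apply, hx, map_zero] at this
    exact this
  have h2 : (LinearMap.snd B M N).rTensor P x = 0 := by
    apply Module.Flat.lTensor_preserves_injective_linearMap (M := N) h hh
    rw [map_zero]
    have := LinearMap.congr_fun (show (h.lTensor N) ∘ₗ (LinearMap.snd B M N).rTensor P =
      (LinearMap.snd B M N).rTensor Q ∘ₗ (h.lTensor (M × N)) by ext <;> simp) x
    simp only [LinearMap.comp_apply, hx, map_zero] at this
    exact this
  have h3 : x = (LinearMap.inl B M N).rTensor P ((LinearMap.fst B M N).rTensor P x) +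
      (LinearMap.inr B M N).rTensor P ((LinearMap.snd B M N).rTensor P x) := by
    rw [← LinearMap.comp_apply, ← LinearMap.comp_apply, ← LinearMap.rTensor_comp,
      ← LinearMap.rTensor_comp, ← LinearMap.add_apply, ← LinearMap.rTensor_add]
    have : (LinearMap.inl B M N ∘ₗ LinearMap.fst B M N + LinearMap.inr B M N ∘ₗ
      LinearMap.snd B M N) = LinearMap.id := by ext <;> simp
    rw [this]
    simp
  rw [h3, h1, h2]
  simp

/-- Tor-amplitude of a two-term complex with flat terms. -/
lemma hasTorAmplitudeIn_dbl {X Y : ModuleCat.{u} B} (f : X ⟶ Y) [Module.Flat B X]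
    [Module.Flat B Y] : DRing.HasTorAmplitudeIn B (-1) 0 (DRing.toD (dbl f)) := by
  refine ⟨dbl f, ?_, ?_, ⟨Iso.refl _⟩⟩
  · rintro i hi
    exact HomologicalComplex.isZero_double_X f _ i (by omega) (by omega)
  · intro i
    by_cases h : i = -1
    · subst h
      exact Module.Flat.of_linearEquiv (i₀ f).toLinearEquiv
    · by_cases h' : i = 0
      · subst h'
        exact Module.Flat.of_linearEquiv (i₁ f).toLinearEquiv
      · have := (HomologicalComplex.isZero_double_X f (show (ComplexShape.up ℤ).Rel (-1) 0 by simp)
          i h h')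
        have : Subsingleton ((dbl f).X i) := ModuleCat.subsingleton_of_isZero this
        infer_instance

/-- A complex of flat modules in degrees `[-1, 0]` isomorphic in `D(B)` to a complex with homology
only `C` in degree `-1`: then `C` is flat. -/
lemma flat_homology {K : DRing.Cx B} (h1 : ∀ i : ℤ, i < -1 ∨ 0 < i → IsZero (K.X i))
    (h2 : DRing.TermwiseFlat K) (h3 : IsZero (K.homology 0)) :
    Module.Flat B (K.homology (-1)) := by
  have hd : K.d (-2) (-1) = 0 := (h1 (-2) (by omega)).eq_of_src _ _
  have hπ : IsIso (K.homologyπ (-1)) := K.isIso_homologyπ (-2) (-1) (by simp) hd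
  have hex : K.ExactAt 0 := (K.exactAt_iff_isZero_homology 0).2 h3
  have hs : Function.Surjective (K.d (-1) 0) := by
    have h4 := (K.exactAt_iff' (-1) 0 1 (by simp) (by simp)).1 hex
    have h5 : Epi (K.sc' (-1) 0 1).f := h4.epi_f ((h1 1 (by omega)).eq_of_tgt _ _)
    exact (ModuleCat.epi_iff_surjective _).1 h5
  have := h2 (-1)
  have := h2 0
  let S : ShortComplex (ModuleCat.{u} B) :=
    ShortComplex.mk (inv (K.homologyπ (-1)) ≫ K.iCycles (-1)) (K.d (-1) 0) (by simp)
  have hS : S.Exact := by
    let e : S ≅ ShortComplex.mk (K.iCycles (-1)) (K.d (-1) 0) (by simp) :=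
      ShortComplex.isoMk (asIso (K.homologyπ (-1))).symm (Iso.refl _) (Iso.refl _)
        (by simp [S]) (by simp [S])
    rw [ShortComplex.exact_iff_of_iso e]
    exact ShortComplex.exact_of_f_is_kernel _ (K.cyclesIsKernel (-1) 0 (by simp))
  refine flat_of_exact (K.d (-1) 0).hom ?_ ?_ ?_ (g := (inv (K.homologyπ (-1)) ≫ K.iCycles (-1)).hom)
  · exact (ModuleCat.mono_iff_injective (inv (K.homologyπ (-1)) ≫ K.iCycles (-1))).1 inferInstance
  · exact hs
  · exact (ShortComplex.ShortExact.moduleCat_exact_iff_function_exact S).1 hS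

variable {X Y : ModuleCat.{u} B} (f : X ⟶ Y)

/-- The inclusion of the degree `0` part. -/
noncomputable def incl : (HomologicalComplex.single (ModuleCat.{u} B) (ComplexShape.up ℤ) 0).obj Y ⟶
    dbl f :=
  HomologicalComplex.mkHomFromSingle (i₁ f).inv (by
    intro j hj
    rw [HomologicalComplex.double_d_eq_zero₀ _ _ _ _ (by decide), comp_zero])

/-- The projection to the degree `-1` part. -/
noncomputable def proj : dbl f ⟶
    (HomologicalComplex.single (ModuleCat.{u} B) (ComplexShape.up ℤ) (-1)).obj X :=
  HomologicalComplex.mkHomToSingle (i₀ f).hom (by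
    intro j hj
    rw [HomologicalComplex.double_d_eq_zero₁ _ _ _ _ (by decide), zero_comp])

/-- The short exact sequence `0 → Y[0] → (X → Y) → X[1] → 0`. -/
noncomputable def ses : ShortComplex (DRing.Cx B) :=
  ShortComplex.mk (incl f) (proj f) (by
    apply HomologicalComplex.from_single_hom_ext
    exact (HomologicalComplex.isZero_single_obj_X (ComplexShape.up ℤ) (-1) X 0 (by decide)).eq_of_tgt
      _ _)

lemma shortExact_of_isZero_of_isIso {D : Type*} [Category D] [Abelian D] (S : ShortComplex D)
    (h1 : IsZero S.X₁) (h2 : IsIso S.g) : S.ShortExact :=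
  (ShortComplex.Splitting.ofIsZeroOfIsIso S h1 h2).shortExact

lemma shortExact_of_isIso_of_isZero {D : Type*} [Category D] [Abelian D] (S : ShortComplex D)
    (h1 : IsIso S.f) (h2 : IsZero S.X₃) : S.ShortExact :=
  (ShortComplex.Splitting.ofIsIsoOfIsZero S h1 h2).shortExact

lemma ses_shortExact : (ses f).ShortExact := by
  apply HomologicalComplex.shortExact_of_degreewise_shortExact
  intro i
  by_cases h : i = -1
  · subst h
    refine shortExact_of_isZero_of_isIso _ ?_ ?_
    · exact HomologicalComplex.isZero_single_obj_X (ComplexShape.up ℤ) 0 Y (-1) (by decide)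
    · have : (proj f).f (-1) =
        (i₀ f).hom ≫ (HomologicalComplex.singleObjXSelf (ComplexShape.up ℤ) (-1) X).inv := by
        simp [proj]
      change IsIso ((proj f).f (-1))
      rw [this]
      infer_instance
  · by_cases h' : i = 0
    · subst h'
      refine shortExact_of_isIso_of_isZero _ ?_ ?_
      · have : (incl f).f 0 =
          (HomologicalComplex.singleObjXSelf (ComplexShape.up ℤ) 0 Y).hom ≫ (i₁ f).inv := by
          simp [incl]
        change IsIso ((incl f).f 0)
        rw [this]
        infer_instance
      · exact HomologicalComplex.isZero_single_obj_X (ComplexShape.up ℤ) (-1) X 0 (by decide)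
    · refine shortExact_of_isZero_of_isIso _ ?_ ?_
      · exact HomologicalComplex.isZero_single_obj_X (ComplexShape.up ℤ) 0 Y i h'
      · refine (HomologicalComplex.isZero_double_X f _ i h h').isIso ?_ ((proj f).f i)
        exact HomologicalComplex.isZero_single_obj_X (ComplexShape.up ℤ) (-1) X i h

/-- If `f : X ⟶ Y` has `Y` projective and the complex `X → Y` (degrees `-1, 0`) has tor-amplitude
in `[-1, 0]` then `X` is flat. -/
theorem flat_of_hasTorAmplitudeIn [Projective Y]
    (h : DRing.HasTorAmplitudeIn B (-1) 0 (DRing.toD (dbl f))) : Module.Flat B X := by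
  obtain ⟨E, hE1, hE2, ⟨e⟩⟩ := h
  -- the K-projective complex `Y[0]`
  let F : DRing.Cx B := (HomologicalComplex.single (ModuleCat.{u} B) (ComplexShape.up ℤ) 0).obj Y
  have hFp : ∀ n : ℤ, Projective (F.X n) := by
    intro n
    by_cases hn : n = 0
    · subst hn
      exact Projective.of_iso (HomologicalComplex.singleObjXSelf (ComplexShape.up ℤ) 0 Y).symm
        inferInstance
    · exact (HomologicalComplex.isZero_single_obj_X (ComplexShape.up ℤ) 0 Y n hn).projective
  have hFK : CochainComplex.IsKProjective F := CochainComplex.isKProjective_of_projective F 0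
  obtain ⟨φ, hφ⟩ : ∃ φ : F ⟶ E, DerivedCategory.Q.map φ = DerivedCategory.Q.map (incl f) ≫ e.inv := by
    obtain ⟨g, hg⟩ := (CochainComplex.IsKProjective.Qh_map_bijective F
      ((HomotopyCategory.quotient _ _).obj E)).surjective
      ((DerivedCategory.quotientCompQhIso (ModuleCat.{u} B)).hom.app F ≫
        (DerivedCategory.Q.map (incl f) ≫ e.inv) ≫
          (DerivedCategory.quotientCompQhIso (ModuleCat.{u} B)).inv.app E)
    obtain ⟨φ, rfl⟩ := (HomotopyCategory.quotient _ _).map_surjective g
    refine ⟨φ, ?_⟩
    have h1 := (DerivedCategory.quotientCompQhIso (ModuleCat.{u} B)).hom.naturality φ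
    rw [← cancel_epi ((DerivedCategory.quotientCompQhIso (ModuleCat.{u} B)).hom.app F), ← h1,
      Functor.comp_map, hg]
    simp
    rfl
  have hT1 := DerivedCategory.mappingCone_triangle_distinguished φ
  have hT2 := DerivedCategory.triangleOfSES_distinguished (ses_shortExact f)
  let iso := Pretriangulated.isoTriangleOfIso₁₂ _ _ hT1 hT2 (Iso.refl _) e (by
    change DerivedCategory.Q.map φ ≫ e.hom = 𝟙 _ ≫ DerivedCategory.Q.map (incl f)
    rw [hφ]
    refine (Category.assoc _ _ _).trans ?_
    rw [e.inv_hom_id]
    refine (Category.comp_id _).trans (Category.id_comp _).symm)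
  let iso₃ : DRing.toD (CochainComplex.mappingCone φ) ≅
      DRing.toD ((HomologicalComplex.single (ModuleCat.{u} B) (ComplexShape.up ℤ) (-1)).obj X) :=
    Pretriangulated.Triangle.π₃.mapIso iso
  let isoH (n : ℤ) : (CochainComplex.mappingCone φ).homology n ≅
      ((HomologicalComplex.single (ModuleCat.{u} B) (ComplexShape.up ℤ) (-1)).obj X).homology n :=
    ((DerivedCategory.homologyFunctorFactors (ModuleCat.{u} B) n).app _).symm ≪≫
      (DerivedCategory.homologyFunctor _ n).mapIso iso₃ ≪≫
        ((DerivedCategory.homologyFunctorFactors (ModuleCat.{u} B) n).app _)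
  have hX (i : ℤ) (hi : i < -1 ∨ 0 < i) : IsZero ((CochainComplex.mappingCone φ).X i) := by
    rw [CochainComplex.mappingCone.isZero_X_iff]
    exact ⟨HomologicalComplex.isZero_single_obj_X (ComplexShape.up ℤ) 0 Y (i + 1) (by omega),
      hE1 i hi⟩
  have hflat : DRing.TermwiseFlat (CochainComplex.mappingCone φ) := by
    intro i
    have h1 : Module.Flat B (F.X (i + 1)) := by
      have := (IsProjective.iff_projective (R := B) (F.X (i + 1))).2 (hFp (i + 1))
      infer_instance
    have h2 := hE2 i
    have h3 : Module.Flat B (F.X (i + 1) × E.X i) := flat_prod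
    exact Module.Flat.of_linearEquiv ((HomologicalComplex.homotopyCofiber.XIsoBiprod φ i (i + 1) rfl)
      ≪≫ ModuleCat.biprodIsoProd _ _).toLinearEquiv
  have key := flat_homology hX hflat
    ((HomologicalComplex.isZero_single_obj_homology _ _ _ _ (by decide)).of_iso (isoH 0))
  exact Module.Flat.of_linearEquiv ((isoH (-1) ≪≫
    HomologicalComplex.singleObjHomologySelfIso (ComplexShape.up ℤ) (-1) X).symm).toLinearEquiv

end Groth.Agent.Models.NLFlat
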