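import Groth.Agent.Models.KoszulBC
import Groth.Agent.Models.NLFlat

/-!
Base change of Koszul-regular sequences `l` in `P` when `P` and `P/(l)` are flat over `A`.
-/

open CategoryTheory Limits CochainComplex TensorProduct

universe u v w

namespace Groth.Agent.Models.KoszulBC2

open Groth.Agent.Flat2H.KoszulGen Groth.Agent.Flat2H.KoszulSeq KoszulBC

section Ext

variable (P P' : Type u) [CommRing P] [CommRing P'] [Algebra P P']

/-- Extension of scalars (with Mathlib's algebra structure). -/
noncomputable def ext : ModuleCat.{u} P ⥤ ModuleCat.{u} P' where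
  obj M := ModuleCat.of P' (P' ⊗[P] M)
  map f := ModuleCat.ofHom (f.hom.baseChange P')
  map_id M := by
    ext x
    simp
  map_comp f g := by
    ext x
    simp

instance : (ext P P').Additive where
  map_add {X Y f g} := by
    apply ModuleCat.hom_ext
    exact LinearMap.baseChange_add f.hom g.hom

lemma ext_map_smul (a : P) {X Y : ModuleCat.{u} P} (g : X ⟶ Y) :
    (ext P P').map (a • g) = algebraMap P P' a • (ext P P').map g := by
  apply ModuleCat.hom_ext
  change (a • g.hom).baseChange P' = algebraMap P P' a • g.hom.baseChange P'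
  rw [LinearMap.baseChange_smul, algebraMap_smul]

/-- Extension of scalars of `P[0]` is `P'[0]`. -/
noncomputable def extBase :
    ((ext P P').mapHomologicalComplex (ComplexShape.up ℤ)).obj (base P) ≅ base P' :=
  (HomologicalComplex.singleMapHomologicalComplex (ext P P') (ComplexShape.up ℤ) 0).app
      (ModuleCat.of P P) ≪≫
    (HomologicalComplex.single (ModuleCat.{u} P') (ComplexShape.up ℤ) 0).mapIso
      (LinearEquiv.toModuleIso (TensorProduct.AlgebraTensorModule.rid P P' P'))

omit [CommRing P'] [Algebra P P'] in
lemma flat_kos (l : List P) (i : ℤ) : Module.Flat P ((kos l (base P)).X i) := by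
  induction l generalizing i with
  | nil =>
    by_cases h : i = 0
    · subst h
      exact Module.Flat.of_linearEquiv
        (HomologicalComplex.singleObjXSelf (ComplexShape.up ℤ) 0 (ModuleCat.of P P)).toLinearEquiv
    · have := HomologicalComplex.isZero_single_obj_X (ComplexShape.up ℤ) 0 (ModuleCat.of P P) i h
      have : Subsingleton ((kos ([] : List P) (base P)).X i) := ModuleCat.subsingleton_of_isZero this
      infer_instance
  | cons f l ih =>
    have h1 := ih (i + 1)
    have h2 := ih i
    have h3 : Module.Flat P ((kos l (base P)).X (i + 1) × (kos l (base P)).X i) :=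
      NLFlat.flat_prod
    exact Module.Flat.of_linearEquiv
      ((HomologicalComplex.homotopyCofiber.XIsoBiprod (f • 𝟙 (kos l (base P))) i (i + 1) rfl)
      ≪≫ ModuleCat.biprodIsoProd _ _).toLinearEquiv

end Ext

section Main

variable {A P : Type u} [CommRing A] [CommRing P] [Algebra A P]

/-- The augmentation of the Koszul complex. -/
lemma exists_augmentation (l : List P) :
    ∃ g : (kos l (base P)).X 0 →ₗ[P] (P ⧸ Ideal.ofList l), Function.Surjective g ∧
      Function.Exact ((kos l (base P)).d (-1) 0).hom g := by
  obtain ⟨φ, hφ, hk⟩ := exists_linearMap_homology_zero l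
  let K := kos l (base P)
  let e : (P ⧸ Ideal.ofList l) ≃ₗ[P] (K.homology 0 : ModuleCat.{u} P) :=
    (Submodule.quotEquivOfEq _ _ (by
      ext a
      exact (hk a).symm)).trans (φ.quotKerEquivOfSurjective hφ)
  have hd : K.d 0 1 = 0 := (isZero_X_kos l 1 one_pos).eq_of_tgt _ _
  have hi : IsIso (K.iCycles 0) := K.isIso_iCycles 0 1 (by simp) hd
  let π : K.X 0 ⟶ K.homology 0 := inv (K.iCycles 0) ≫ K.homologyπ 0
  have hπ : Function.Surjective π := (ModuleCat.epi_iff_surjective π).1 inferInstance
  let S : ShortComplex (ModuleCat.{u} P) := ShortComplex.mk (K.d (-1) 0) π (by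
    have h1 : K.d (-1) 0 = K.toCycles (-1) 0 ≫ K.iCycles 0 := (K.toCycles_i (-1) 0).symm
    rw [h1, Category.assoc, IsIso.hom_inv_id_assoc, K.toCycles_comp_homologyπ])
  have hS : S.Exact := by
    let e : ShortComplex.mk (K.toCycles (-1) 0) (K.homologyπ 0) (by simp) ≅ S :=
      ShortComplex.isoMk (Iso.refl _) (asIso (K.iCycles 0)) (Iso.refl _)
        (by simp [S]) (by simp [S, π])
    rw [← ShortComplex.exact_iff_of_iso e]
    exact ShortComplex.exact_of_g_is_cokernel _ (K.homologyIsCokernel (-1) 0 (by simp))
  refine ⟨e.symm.toLinearMap ∘ₗ π.hom, e.symm.surjective.comp hπ, ?_⟩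
  have h1 := (ShortComplex.ShortExact.moduleCat_exact_iff_function_exact S).1 hS
  intro x
  rw [← h1 x]
  exact e.symm.map_eq_zero_iff

variable (A)

/-- The quotients of the terms of the Koszul complex by the boundaries are flat. -/
lemma flat_quotient [Module.Flat A P] (l : List P) [Module.Flat A (P ⧸ Ideal.ofList l)]
    (hl : LCI.IsKoszulRegularSeq P l) (hM : ∀ i, Module A ((kos l (base P)).X i))
    (hT : ∀ i, IsScalarTower A P ((kos l (base P)).X i)) (j : ℤ) (hj : j ≤ 0) :
    Module.Flat A ((kos l (base P)).X j ⧸
      LinearMap.range ((kos l (base P)).d (j - 1) j).hom) := by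
  have hflat (i : ℤ) : Module.Flat A ((kos l (base P)).X i) := by
    have := flat_kos P l i
    exact Module.Flat.trans A P _
  induction j, hj using Int.leInductionDown with
  | base =>
    obtain ⟨g, hg, hfg⟩ := exists_augmentation l
    have : Module.Flat A ((P ⧸ Ideal.ofList l) ⧸ LinearMap.range g) := by
      rw [LinearMap.range_eq_top.2 hg]
      infer_instance
    exact flat_quotient_range A _ g hfg
  | pred j hj ih =>
    have h1 : Function.Exact ((kos l (base P)).d (j - 1 - 1) (j - 1)).hom
        ((kos l (base P)).d (j - 1) j).hom := by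
      have h2 := (isKoszulRegularSeq_iff l).1 hl (j - 1) (by omega)
      rw [← HomologicalComplex.exactAt_iff_isZero_homology,
        HomologicalComplex.exactAt_iff' _ (j - 1 - 1) (j - 1) j (by simp) (by simp)] at h2
      exact (ShortComplex.ShortExact.moduleCat_exact_iff_function_exact _).1 h2
    exact flat_quotient_range A _ _ h1

variable (A' : Type u) {P' : Type u} [CommRing A'] [CommRing P']
  [Algebra A A'] [Algebra A P'] [Algebra A' P'] [Algebra P P']
  [IsScalarTower A A' P'] [IsScalarTower A P P'] [Algebra.IsPushout A A' P P']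

include A A' in
/-- If `l` is Koszul-regular in `P`, `P` and `P/(l)` flat over `A` then `l` is Koszul-regular in
`P' = A' ⊗ P`. -/
theorem isKoszulRegularSeq_map [Module.Flat A P] (l : List P)
    [Module.Flat A (P ⧸ Ideal.ofList l)] (hl : LCI.IsKoszulRegularSeq P l) :
    LCI.IsKoszulRegularSeq P' (l.map (algebraMap P P')) := by
  rw [isKoszulRegularSeq_iff]
  intro i hi
  obtain ⟨e₁⟩ := kos_map (algebraMap P P') (ext P P') (fun a _ _ g => ext_map_smul P P' a g) l
    (base P)
  obtain ⟨e₂⟩ := kos_congr (l.map (algebraMap P P')) (extBase P P')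
  refine IsZero.of_iso ?_ ((HomologicalComplex.homologyFunctor _ _ i).mapIso (e₁ ≪≫ e₂)).symm
  change IsZero ((((ext P P').mapHomologicalComplex (ComplexShape.up ℤ)).obj
    (kos l (base P))).homology i)
  rw [← HomologicalComplex.exactAt_iff_isZero_homology]
  obtain ⟨j, rfl⟩ : ∃ j, i = j - 1 := ⟨i + 1, by ring⟩
  rw [HomologicalComplex.exactAt_iff' _ (j - 1 - 1) (j - 1) j (by simp) (by simp)]
  refine (ShortComplex.ShortExact.moduleCat_exact_iff_function_exact _).2 ?_
  let hM (i : ℤ) : Module A ((kos l (base P)).X i) := Module.compHom _ (algebraMap A P)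
  have hT (i : ℤ) : IsScalarTower A P ((kos l (base P)).X i) := ⟨fun a b x => by
    rw [Algebra.smul_def, mul_smul]
    rfl⟩
  have h1 : Function.Exact ((kos l (base P)).d (j - 1 - 1) (j - 1)).hom
      ((kos l (base P)).d (j - 1) j).hom := by
    have h2 := (isKoszulRegularSeq_iff l).1 hl (j - 1) hi
    rw [← HomologicalComplex.exactAt_iff_isZero_homology,
      HomologicalComplex.exactAt_iff' _ (j - 1 - 1) (j - 1) j (by simp) (by simp)] at h2
    exact (ShortComplex.ShortExact.moduleCat_exact_iff_function_exact _).1 h2
  have h3 := flat_quotient A l hl hM hT j (by omega)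
  exact lTensor_exact_of_flat A A' _ _ h1

end Main

end Groth.Agent.Models.KoszulBC2
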