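import Groth.Agent.CohqB.HSeqMod
import Groth.Agent.CohtopA.Sec
import Groth.Agent.Fdesc.LocGen
import Mathlib.RingTheory.Noetherian.Basic

/-!
Lifting of sections modulo powers of `π` from the bounded torsion of `H¹`.
-/

set_option autoImplicit false
universe u
open CategoryTheory CategoryTheory.Limits AlgebraicGeometry Opposite TopologicalSpace

namespace Groth.Agent.Models.BTor

open Groth.Agent.CohqB.HSeqMod Groth.Agent.CohqB.ToSheafExact Groth.Agent.Fdesc.LocGen

variable {X : Scheme.{u}}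

/-- restriction of a global function. -/
noncomputable def gres (r : Coh.Γtop X) (U : X.Opens) : Γ(X, U) := Coh.resTop X (op U) r

theorem smulModΓ_app (M : X.Modules) (r : Coh.Γtop X) (U : X.Opens) (m : Γ(M, U)) :
    (Formal.smulModΓ M r).app U m = gres r U • m := rfl

theorem gres_mul (r s : Coh.Γtop X) (U : X.Opens) : gres (r * s) U = gres r U * gres s U :=
  map_mul (Coh.resTop X (op U)) r s

theorem gres_pow (r : Coh.Γtop X) (n : ℕ) (U : X.Opens) : gres (r ^ n) U = gres r U ^ n :=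
  map_pow (Coh.resTop X (op U)) r n

/-- the underlying abelian sheaf on the topological space -/
noncomputable abbrev ab (M : X.Modules) : CohTop.Ab X.toPresheafedSpace.carrier := (toAbF X).obj M

/-- sections are exact on the left. -/
theorem exact_sections {S : ShortComplex X.Modules} (hS : S.ShortExact) {U : X.Opens}
    (s : Γ(S.X₂, U)) (h : S.g.app U s = 0) : ∃ t : Γ(S.X₁, U), S.f.app U t = s :=
  Groth.Agent.CohtopA.Sec.exact_lift (X := X.toPresheafedSpace.carrier) (shortExact_toAb hS) (U := U) s h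

/-- `H⁰` -/
noncomputable def e0 (M : X.Modules) : Coh.HH X M 0 ≃+ Γ(M, ⊤) :=
  Sheaf.H.equiv₀ ((toAbF X).obj M) (Preorder.isTerminalTop _)

theorem e0_nat {M N : X.Modules} (φ : M ⟶ N) (x : Coh.HH X M 0) :
    e0 N (hmap φ 0 x) = φ.app ⊤ (e0 M x) :=
  (Sheaf.H.equiv₀_naturality (T := (⊤ : X.Opens)) (Preorder.isTerminalTop _) ((toAbF X).map φ) x).symm

theorem mono_of_injective {M N : X.Modules} (φ : M ⟶ N)
    (h : ∀ U, Function.Injective (φ.app U)) : Mono φ := by
  have : Mono ((toAbF X).map φ) :=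
    Groth.Agent.CohtopA.Sec.mono_of_injective (X := X.toPresheafedSpace.carrier) _ (fun U => h U)
  exact (toAbF X).mono_of_mono_map this

theorem map_δ_sh {S : ShortComplex (Groth.Agent.CohqB.HSeq.Sh X)} (hS : S.ShortExact) (n : ℕ)
    (x : Sheaf.H S.X₃ n) : Sheaf.H.map S.f (n + 1) (Groth.Agent.CohqB.HSeq.δ hS n x) = 0 := by
  rw [Groth.Agent.CohqB.HSeq.δ_apply, Sheaf.H.map_apply,
    Abelian.Ext.comp_assoc (X := Groth.Agent.CohqB.HSeq.ZZ X) x hS.extClass (Abelian.Ext.mk₀ S.f)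
      rfl (add_zero 1) (by omega), hS.extClass_comp, Abelian.Ext.comp_zero]

theorem hmap_δ {S : ShortComplex X.Modules} (hS : S.ShortExact) (n : ℕ)
    (x : Coh.HH X S.X₃ n) : hmap S.f (n + 1) (δ hS n x) = 0 := by
  exact map_δ_sh (shortExact_toAb hS) n x

theorem bounded_torsion {R M : Type*} [CommRing R] [IsNoetherianRing R] [AddCommGroup M] [Module R M]
    [Module.Finite R M] (π : R) : ∃ N₀ : ℕ, ∀ m, ∀ c : M, π ^ m • c = 0 → π ^ N₀ • c = 0 := by
  have hN : IsNoetherian R M := inferInstance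
  let f : ℕ →o Submodule R M :=
    ⟨fun n => LinearMap.ker (LinearMap.lsmul R M (π ^ n)), by
      intro a b hab c hc
      simp only [LinearMap.mem_ker, LinearMap.lsmul_apply] at hc ⊢
      obtain ⟨k, rfl⟩ := Nat.exists_eq_add_of_le hab
      rw [pow_add, mul_comm, mul_smul, hc, smul_zero]⟩
  obtain ⟨N₀, hN₀⟩ := monotone_stabilizes_iff_noetherian.2 hN f
  refine ⟨N₀, fun m c hc => ?_⟩
  rcases le_total m N₀ with h | h
  · obtain ⟨k, rfl⟩ := Nat.exists_eq_add_of_le h
    rw [pow_add, mul_comm, mul_smul, hc, smul_zero]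
  · have h1 := hN₀ m h
    have h2 : c ∈ f m := by
      change c ∈ LinearMap.ker _
      rw [LinearMap.mem_ker, LinearMap.lsmul_apply]; exact hc
    rw [← h1] at h2
    change c ∈ LinearMap.ker _ at h2
    rwa [LinearMap.mem_ker, LinearMap.lsmul_apply] at h2

theorem exists_bound {R : Type u} [CommRing R] [IsNoetherianRing R]
    [X.Over (Spec (CommRingCat.of R))] (L : X.Modules) (π : R)
    (htf : ∀ (U : X.Opens) (s : Γ(L, U)),
      gres (Coh.toGlobal (X ↘ Spec (CommRingCat.of R)) π) U • s = 0 → s = 0)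
    (hfin : Module.Finite R (Coh.HH X L 1)) :
    ∃ N : ℕ, ∀ {ι : Type u} (U : ι → X.Opens) (_ : ⨆ i, U i = ⊤) (t : ∀ i, Γ(L, U i)),
      (∀ i j, ∃ y : Γ(L, U i ⊓ U j),
        res L (inf_le_left : U i ⊓ U j ≤ U i) (t i) - res L inf_le_right (t j) =
          gres (Coh.toGlobal (X ↘ Spec (CommRingCat.of R)) π) (U i ⊓ U j) ^ N • y) →
      ∃ s : Γ(L, ⊤), ∀ i, ∃ y : Γ(L, U i), res L le_top s - t i =
        gres (Coh.toGlobal (X ↘ Spec (CommRingCat.of R)) π) (U i) • y := by
  set P : Coh.Γtop X := Coh.toGlobal (X ↘ Spec (CommRingCat.of R)) π with hP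
  -- the torsion is bounded
  have hsm : ∀ (r : R) (c : Coh.HH X L 1), r • c =
      (Coh.toGlobal (X ↘ Spec (CommRingCat.of R)) r) • c := fun _ _ => rfl
  obtain ⟨N₀, hN₀⟩ : ∃ N₀ : ℕ, ∀ m, ∀ c : Coh.HH X L 1, π ^ m • c = 0 → π ^ N₀ • c = 0 := by
    exact bounded_torsion π
  refine ⟨N₀ + 1, ?_⟩
  intro ι U hU t ht
  set n := N₀ + 1 with hn
  -- the exact sequences
  have hmono : ∀ k : ℕ, Mono (Formal.smulModΓ L (P ^ k)) := by
    intro k
    apply mono_of_injective
    intro V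
    rw [injective_iff_map_eq_zero]
    intro s hs
    rw [smulModΓ_app, gres_pow] at hs
    induction k with
    | zero => simpa using hs
    | succ k ih =>
      rw [pow_succ', mul_smul] at hs
      exact ih (htf V _ hs)
  let S : ℕ → ShortComplex X.Modules := fun k =>
    ShortComplex.mk (Formal.smulModΓ L (P ^ k)) (cokernel.π (Formal.smulModΓ L (P ^ k)))
      (cokernel.condition _)
  have hS : ∀ k, (S k).ShortExact := fun k =>
    { exact := ShortComplex.exact_cokernel _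
      mono_f := hmono k
      epi_g := inferInstance }
  -- the section of the quotient
  set q : ∀ i, Γ((S n).X₃, U i) := fun i => (S n).g.app (U i) (t i) with hq
  obtain ⟨qq, hqq⟩ := res_glue (S n).X₃ (V := ⊤) U (fun i => le_top) (by rw [hU]) q (by
    intro i j
    rw [hq]
    simp only
    rw [← app_res, ← app_res, ← sub_eq_zero, ← map_sub]
    obtain ⟨y, hy⟩ := ht i j
    rw [hy]
    have h1 : gres P (U i ⊓ U j) ^ n • y = (S n).f.app (U i ⊓ U j) y := by
      change _ = (Formal.smulModΓ L (P ^ n)).app (U i ⊓ U j) y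
      rw [smulModΓ_app, gres_pow]
    rw [h1]
    have h2 := (S n).zero
    exact congr(($(h2).app (U i ⊓ U j)) y))
  set x : Coh.HH X (S n).X₃ 0 := (e0 _).symm qq with hx
  set c := δ (hS n) 0 x with hc
  have hc0 : π ^ n • c = 0 := by
    have h1 := hmap_δ (hS n) 0 x
    have h2 : hmap (Formal.smulModΓ L (P ^ n)) 1 c = (P ^ n) • c := hmap_smulModΓ L (P ^ n) 1 c
    rw [hsm, map_pow, ← hP, ← h2]
    exact h1
  have hc1 : π ^ N₀ • c = 0 := hN₀ n c hc0
  -- the map of exact sequences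
  have hcomp : Formal.smulModΓ L (P ^ n) = Formal.smulModΓ L (P ^ N₀) ≫ Formal.smulModΓ L (P ^ 1) := by
    apply Scheme.Modules.hom_ext
    intro V
    ext s
    change gres (P ^ n) V • s = gres (P ^ 1) V • (gres (P ^ N₀) V • s)
    rw [smul_smul, ← gres_mul, hn, Nat.add_comm N₀ 1, pow_add]
  let τ₃ : (S n).X₃ ⟶ (S 1).X₃ := cokernel.desc _ (cokernel.π (Formal.smulModΓ L (P ^ 1))) (by
    rw [hcomp, Category.assoc, cokernel.condition, comp_zero])
  let F : S n ⟶ S 1 :=
    { τ₁ := Formal.smulModΓ L (P ^ N₀)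
      τ₂ := 𝟙 _
      τ₃ := τ₃
      comm₁₂ := by
        change Formal.smulModΓ L (P ^ N₀) ≫ Formal.smulModΓ L (P ^ 1) = Formal.smulModΓ L (P ^ n) ≫ 𝟙 _
        rw [Category.comp_id, hcomp]
      comm₂₃ := by
        change 𝟙 _ ≫ cokernel.π (Formal.smulModΓ L (P ^ 1)) = cokernel.π _ ≫ cokernel.desc _ _ _
        rw [cokernel.π_desc, Category.id_comp] }
  have h3 := δ_naturality (hS n) (hS 1) F 0 x
  have h4 : hmap F.τ₁ 1 (δ (hS n) 0 x) = 0 := by
    change hmap (Formal.smulModΓ L (P ^ N₀)) 1 c = 0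
    have h5 : hmap (Formal.smulModΓ L (P ^ N₀)) 1 c = (P ^ N₀) • c := hmap_smulModΓ L (P ^ N₀) 1 c
    rw [h5]
    have h6 := hc1
    rw [hsm, map_pow, ← hP] at h6
    exact h6
  rw [h4] at h3
  obtain ⟨y, hy⟩ := exact₃ (hS 1) 0 _ h3
  refine ⟨e0 L y, fun i => ?_⟩
  have h7 : (S 1).g.app ⊤ (e0 L y) = τ₃.app ⊤ qq := by
    have h8 := e0_nat (S 1).g y
    rw [hy] at h8
    have h9 := e0_nat F.τ₃ x
    rw [h9] at h8
    rw [hx, AddEquiv.apply_symm_apply] at h8
    exact h8.symm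
  have h10 : (S 1).g.app (U i) (res L le_top (e0 L y) - t i) = 0 := by
    rw [map_sub, sub_eq_zero]
    have h11 : (S 1).g.app (U i) (res L le_top (e0 L y)) =
        res (S 1).X₃ (le_top : U i ≤ ⊤) ((S 1).g.app ⊤ (e0 L y)) :=
      app_res (M := L) (S 1).g (le_top : U i ≤ ⊤) (e0 L y)
    rw [h11, h7, ← app_res τ₃ (le_top : U i ≤ ⊤) qq, hqq i, hq]
    have h12 : (S n).g ≫ τ₃ = (S 1).g := by
      change cokernel.π _ ≫ cokernel.desc _ _ _ = _
      rw [cokernel.π_desc]
    exact congr(($(h12).app (U i)) (t i))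
  obtain ⟨z, hz⟩ := exact_sections (hS 1) (res L le_top (e0 L y) - t i) h10
  refine ⟨z, ?_⟩
  rw [← hz]
  change (Formal.smulModΓ L (P ^ 1)).app (U i) z = _
  rw [smulModΓ_app, pow_one]

end Groth.Agent.Models.BTor
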