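import Groth.Prelude.Def_Models
import Mathlib.Tactic.Linarith
import Mathlib.Tactic.Ring
import Mathlib.Tactic.Positivity
import Mathlib.Data.ZMod.Basic
import Mathlib.Algebra.Ring.Int.Parity
import Mathlib.Algebra.BigOperators.Fin

/-!
# Contraction of a numerical type along a (-1)-index (Stacks 0C77)
-/

set_option autoImplicit false

namespace Groth.Agent.Models.Contraction

open Finset

section basic

variable {n : ℕ} (T : _root_.Models.NumericalType n)

lemma row_sum (i : Fin n) : ∑ j, T.a i j * T.m j = 0 := by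
  have := congrFun T.mulVec_m i
  simpa [Matrix.mulVec, dotProduct] using this

lemma a_comm (i j : Fin n) : T.a i j = T.a j i := (T.symm.apply j i)

lemma w_dvd' (i j : Fin n) : T.w j ∣ T.a i j := by
  rw [a_comm]; exact T.w_dvd j i

/-- `Σ m_i a_ii` is even. -/
lemma two_dvd_sum : (2 : ℤ) ∣ ∑ i, T.m i * T.a i i := by
  have h0 : ∑ i, ∑ j, T.m i * T.a i j * T.m j = 0 := by
    refine Finset.sum_eq_zero fun i _ => ?_
    have : ∑ j, T.m i * T.a i j * T.m j = T.m i * ∑ j, T.a i j * T.m j := by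
      rw [Finset.mul_sum]; exact Finset.sum_congr rfl fun j _ => by ring
    rw [this, row_sum, mul_zero]
  suffices hs : ((∑ i, T.m i * T.a i i : ℤ) : ZMod 2) = 0 from
    (ZMod.intCast_zmod_eq_zero_iff_dvd _ 2).1 hs
  have h1 : ((∑ p ∈ (univ : Finset (Fin n)) ×ˢ (univ : Finset (Fin n)),
      T.m p.1 * T.a p.1 p.2 * T.m p.2 : ℤ) : ZMod 2) = 0 := by
    rw [Finset.sum_product, h0]; simp
  rw [← Finset.diag_union_offDiag, Finset.sum_union (Finset.disjoint_diag_offDiag _)] at h1
  have h2 : ((∑ p ∈ (univ : Finset (Fin n)).offDiag,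
      T.m p.1 * T.a p.1 p.2 * T.m p.2 : ℤ) : ZMod 2) = 0 := by
    push_cast
    refine Finset.sum_involution (fun p _ => p.swap) ?_ ?_ ?_ ?_
    · rintro ⟨i, j⟩ hp
      simp only [Prod.swap]
      have he : T.m j * T.a j i * T.m i = T.m i * T.a i j * T.m j := by
        rw [a_comm T j i]; ring
      have he' := congrArg (fun z : ℤ => (z : ZMod 2)) he
      push_cast at he'
      rw [he']
      exact CharTwo.add_self_eq_zero _
    · rintro ⟨i, j⟩ hp _
      simp only [Finset.mem_offDiag] at hp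
      simp only [Prod.swap, ne_eq, Prod.mk.injEq, not_and]
      intro h; exact absurd h.symm hp.2.2
    · rintro ⟨i, j⟩ hp
      simp only [Finset.mem_offDiag] at hp ⊢
      exact ⟨hp.2.1, hp.1, fun h => hp.2.2 h.symm⟩
    · rintro ⟨i, j⟩ _; rfl
  push_cast at h1 h2 ⊢
  rw [h2, add_zero, Finset.sum_diag] at h1
  rw [← h1]
  refine Finset.sum_congr rfl fun i _ => ?_
  have h3 : ∀ x y : ZMod 2, x * y = x * y * x := by decide
  exact h3 _ _

/-- twice the genus -/
lemma two_mul_genus : 2 * T.genus =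
    2 + ∑ i, (2 * (T.m i * T.w i * (T.g i - 1)) - T.m i * T.a i i) := by
  unfold _root_.Models.NumericalType.genus
  obtain ⟨c, hc⟩ := two_dvd_sum T
  rw [Finset.sum_sub_distrib, ← Finset.mul_sum, hc]
  have : (2 * c) / 2 = c := by omega
  rw [this]; ring

end basic

section contraction

variable {n : ℕ} (T : _root_.Models.NumericalType (n + 1))

/-- `a_il / w_l` -/
def sc (i : Fin n) : ℤ := T.a i.castSucc (Fin.last n) / T.w (Fin.last n)

/-- `a_il / w_i` -/
def tc (i : Fin n) : ℤ := T.a i.castSucc (Fin.last n) / T.w i.castSucc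

lemma sc_spec (i : Fin n) : T.a i.castSucc (Fin.last n) = T.w (Fin.last n) * sc T i :=
  (Int.mul_ediv_cancel' (w_dvd' T _ _)).symm

lemma tc_spec (i : Fin n) : T.a i.castSucc (Fin.last n) = T.w i.castSucc * tc T i :=
  (Int.mul_ediv_cancel' (T.w_dvd _ _)).symm

lemma al_nonneg (i : Fin n) : 0 ≤ T.a i.castSucc (Fin.last n) :=
  T.offDiag_nonneg _ _ (Fin.castSucc_lt_last i).ne

lemma sc_nonneg (i : Fin n) : 0 ≤ sc T i :=
  Int.ediv_nonneg (al_nonneg T i) (T.w_pos _).le

lemma tc_nonneg (i : Fin n) : 0 ≤ tc T i :=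
  Int.ediv_nonneg (al_nonneg T i) (T.w_pos _).le

lemma w_mul_sc (i : Fin n) : T.w (Fin.last n) * sc T i = T.w i.castSucc * tc T i := by
  rw [← sc_spec, ← tc_spec]

/-- the contracted matrix -/
def ca (i j : Fin n) : ℤ := T.a i.castSucc j.castSucc -
      T.a i.castSucc (Fin.last n) * T.a j.castSucc (Fin.last n) / T.a (Fin.last n) (Fin.last n)

/-- the contracted weights -/
def cw (i : Fin n) : ℤ :=
  if 2 ∣ T.a i.castSucc (Fin.last n) / T.w (Fin.last n) ∧
          ¬ 2 ∣ T.a i.castSucc (Fin.last n) / T.w i.castSucc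
      then T.w i.castSucc / 2 else T.w i.castSucc

/-- the contracted genera -/
def cg (i : Fin n) : ℤ := T.w i.castSucc / cw T i * (T.g i.castSucc - 1) + 1 +
      (T.a i.castSucc (Fin.last n) ^ 2 - T.w (Fin.last n) * T.a i.castSucc (Fin.last n)) /
        (2 * cw T i * T.w (Fin.last n))

lemma ca_eq (h : T.IsMinusOne (Fin.last n)) (i j : Fin n) :
    ca T i j = T.a i.castSucc j.castSucc + T.w (Fin.last n) * sc T i * sc T j := by
  unfold ca
  have hw := T.w_pos (Fin.last n)
  rw [h.2, Int.ediv_neg, sub_neg_eq_add, sc_spec T i, sc_spec T j,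
    show T.w (Fin.last n) * sc T i * (T.w (Fin.last n) * sc T j) =
      T.w (Fin.last n) * (T.w (Fin.last n) * sc T i * sc T j) by ring,
    Int.mul_ediv_cancel_left _ hw.ne']

/-- the index `w_i / w'_i` is `1` or `2` -/
lemma cw_cases (i : Fin n) :
    (¬ (2 ∣ sc T i ∧ ¬ 2 ∣ tc T i) ∧ cw T i = T.w i.castSucc ∧ T.w i.castSucc / cw T i = 1) ∨
    ((2 ∣ sc T i ∧ ¬ 2 ∣ tc T i) ∧ T.w i.castSucc = 2 * cw T i ∧ T.w i.castSucc / cw T i = 2) := by
  have hw := T.w_pos i.castSucc
  by_cases hc : 2 ∣ sc T i ∧ ¬ 2 ∣ tc T i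
  · right
    have h1 : cw T i = T.w i.castSucc / 2 := if_pos hc
    obtain ⟨⟨c, hc1⟩, hc2⟩ := hc
    have h2 : (2 : ℤ) ∣ T.w i.castSucc * tc T i := by
      rw [← w_mul_sc, hc1]
      exact ⟨T.w (Fin.last n) * c, by ring⟩
    have h3 : (2 : ℤ) ∣ T.w i.castSucc := (Int.even_or_odd (T.w i.castSucc)).elim (fun he => he.two_dvd) (fun ho => absurd (((Int.even_mul.1 (even_iff_two_dvd.2 h2)).resolve_left (Int.not_even_iff_odd.2 ho)).two_dvd) hc2)
    obtain ⟨d, hd⟩ := h3
    have h4 : cw T i = d := by rw [h1, hd]; omega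
    have h5 : d ≠ 0 := by rintro rfl; omega
    refine ⟨⟨⟨c, hc1⟩, hc2⟩, by rw [h4, hd], ?_⟩
    rw [h4, hd, Int.mul_ediv_cancel _ h5]
  · left
    have h1 : cw T i = T.w i.castSucc := if_neg hc
    exact ⟨hc, h1, by rw [h1, Int.ediv_self hw.ne']⟩

lemma cw_pos (i : Fin n) : 0 < cw T i := by
  have hw := T.w_pos i.castSucc
  rcases cw_cases T i with ⟨_, h, _⟩ | ⟨_, h, _⟩ <;> omega

lemma w_eq (i : Fin n) : T.w i.castSucc = T.w i.castSucc / cw T i * cw T i := by
  rcases cw_cases T i with ⟨_, h, h'⟩ | ⟨_, h, h'⟩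
  · rw [h', h, one_mul]
  · rw [h', h]

lemma cw_dvd_w (i : Fin n) : cw T i ∣ T.w i.castSucc :=
  ⟨T.w i.castSucc / cw T i, by rw [mul_comm]; exact w_eq T i⟩

lemma two_dvd_index (i : Fin n) :
    (2 : ℤ) ∣ T.w i.castSucc / cw T i * tc T i * (sc T i - 1) := by
  rcases cw_cases T i with ⟨hc, _, h'⟩ | ⟨_, _, h'⟩
  · rw [h', one_mul]
    by_cases h2 : (2 : ℤ) ∣ tc T i
    · exact Dvd.dvd.mul_right h2 _
    · have : ¬ (2 : ℤ) ∣ sc T i := fun h => hc ⟨h, h2⟩
      exact Dvd.dvd.mul_left (by omega) _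
  · rw [h', mul_assoc]; exact Dvd.intro _ rfl

/-- the exact formula for `g'` -/
lemma two_mul_cg (i : Fin n) :
    2 * (cg T i - 1) = 2 * (T.w i.castSucc / cw T i * (T.g i.castSucc - 1)) +
      T.w i.castSucc / cw T i * tc T i * (sc T i - 1) := by
  obtain ⟨c, hc⟩ := two_dvd_index T i
  have hwl := T.w_pos (Fin.last n)
  have hcw := cw_pos T i
  have h1 : T.a i.castSucc (Fin.last n) ^ 2 - T.w (Fin.last n) * T.a i.castSucc (Fin.last n) =
      (2 * cw T i * T.w (Fin.last n)) * c := by
    have e1 : T.a i.castSucc (Fin.last n) ^ 2 - T.w (Fin.last n) * T.a i.castSucc (Fin.last n) =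
      T.w (Fin.last n) * (T.w i.castSucc * tc T i) * (sc T i - 1) := by
      rw [← tc_spec]
      rw [sc_spec]; ring
    rw [e1]
    have e2 : T.w i.castSucc * tc T i * (sc T i - 1) = cw T i * (2 * c) := by
      rw [← hc]
      conv_lhs => rw [w_eq T i]
      ring
    calc T.w (Fin.last n) * (T.w i.castSucc * tc T i) * (sc T i - 1)
        = T.w (Fin.last n) * (T.w i.castSucc * tc T i * (sc T i - 1)) := by ring
      _ = _ := by rw [e2]; ring
  have h2 : cg T i = T.w i.castSucc / cw T i * (T.g i.castSucc - 1) + 1 + c := by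
    unfold cg
    rw [h1, Int.mul_ediv_cancel_left]
    positivity
  rw [h2, hc]; ring

lemma cg_nonneg (i : Fin n) : 0 ≤ cg T i := by
  have h := two_mul_cg T i
  have hg := T.g_nonneg i.castSucc
  have hs := sc_nonneg T i
  have ht := tc_nonneg T i
  have hst := w_mul_sc T i
  have hwl := T.w_pos (Fin.last n)
  have hwi := T.w_pos i.castSucc
  have key : 0 ≤ tc T i * (sc T i - 1) := by
    rcases hs.eq_or_lt with h0 | h0
    · rw [← h0, mul_zero] at hst
      have : tc T i = 0 := by
        rcases mul_eq_zero.1 hst.symm with h1 | h1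
        · exact absurd h1 hwi.ne'
        · exact h1
      rw [this, zero_mul]
    · exact mul_nonneg ht (by omega)
  rcases cw_cases T i with ⟨hc, _, h'⟩ | ⟨⟨hc1, hc2⟩, _, h'⟩
  · rw [h', one_mul, one_mul] at h
    omega
  · rw [h'] at h
    have h1 : 1 ≤ tc T i := by
      rcases ht.eq_or_lt with h0 | h0
      · exact absurd ⟨0, by rw [← h0]; rfl⟩ hc2
      · omega
    have h2 : 2 ≤ sc T i := by
      have h3 : sc T i ≠ 0 := by
        intro h0
        rw [h0, mul_zero] at hst
        rcases mul_eq_zero.1 hst.symm with h4 | h4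
        · exact absurd h4 hwi.ne'
        · omega
      omega
    have h5 : 1 * 1 ≤ tc T i * (sc T i - 1) := mul_le_mul h1 (by omega) (by omega) (by omega)
    rw [mul_assoc] at h
    omega

lemma ca_nonneg (h : T.IsMinusOne (Fin.last n)) (i j : Fin n) (hij : i ≠ j) : 0 ≤ ca T i j := by
  rw [ca_eq T h]
  have h1 := T.offDiag_nonneg i.castSucc j.castSucc (fun he => hij (Fin.castSucc_injective n he))
  have h2 := sc_nonneg T i
  have h3 := sc_nonneg T j
  have h4 := (T.w_pos (Fin.last n)).le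
  positivity

lemma n_pos (h : T.IsMinusOne (Fin.last n)) : 0 < n := by
  rcases Nat.eq_zero_or_pos n with hn | hn
  · subst hn
    have h1 := row_sum T (Fin.last 0)
    rw [Fin.sum_univ_one] at h1
    have h2 : T.a (Fin.last 0) (Fin.last 0) * T.m (Fin.last 0) = 0 := h1
    rw [h.2] at h2
    have := T.w_pos (Fin.last 0)
    have := T.m_pos (Fin.last 0)
    rcases mul_eq_zero.1 h2 with h3 | h3 <;> omega
  · exact hn

lemma ca_row (h : T.IsMinusOne (Fin.last n)) (i : Fin n) :
    ∑ j, ca T i j * T.m j.castSucc = 0 := by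
  have h1 := row_sum T i.castSucc
  have h2 := row_sum T (Fin.last n)
  rw [Fin.sum_univ_castSucc] at h1 h2
  have h3 : ∑ j : Fin n, T.a (Fin.last n) j.castSucc * T.m j.castSucc =
      T.w (Fin.last n) * T.m (Fin.last n) := by
    have := h.2
    rw [this] at h2; linarith
  have h4 : ∑ j : Fin n, T.w (Fin.last n) * sc T j * T.m j.castSucc =
      T.w (Fin.last n) * T.m (Fin.last n) := by
    rw [← h3]
    refine Finset.sum_congr rfl fun j _ => ?_
    rw [← sc_spec, a_comm]
  calc ∑ j, ca T i j * T.m j.castSucc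
      = ∑ j : Fin n, (T.a i.castSucc j.castSucc * T.m j.castSucc +
          sc T i * (T.w (Fin.last n) * sc T j * T.m j.castSucc)) := by
        refine Finset.sum_congr rfl fun j _ => ?_
        rw [ca_eq T h]; ring
    _ = ∑ j : Fin n, T.a i.castSucc j.castSucc * T.m j.castSucc +
          sc T i * (T.w (Fin.last n) * T.m (Fin.last n)) := by
        rw [Finset.sum_add_distrib, ← Finset.mul_sum, h4]
    _ = 0 := by
        rw [sc_spec] at h1
        linarith

lemma ca_connected (h : T.IsMinusOne (Fin.last n)) (I : Finset (Fin n)) (hI : I.Nonempty)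
    (hI' : I ≠ univ) : ∃ i ∈ I, ∃ j ∉ I, ca T i j ≠ 0 := by
  by_contra hcon
  push Not at hcon
  have hwl := T.w_pos (Fin.last n)
  -- both summands vanish
  have hz : ∀ i ∈ I, ∀ j ∉ I, T.a i.castSucc j.castSucc = 0 ∧ (sc T i = 0 ∨ sc T j = 0) := by
    intro i hi j hj
    have h0 := hcon i hi j hj
    rw [ca_eq T h] at h0
    have hij : i ≠ j := fun he => hj (he ▸ hi)
    have h1 := T.offDiag_nonneg i.castSucc j.castSucc (fun he => hij (Fin.castSucc_injective n he))
    have h2 := sc_nonneg T i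
    have h3 := sc_nonneg T j
    have h4 : 0 ≤ T.w (Fin.last n) * sc T i * sc T j := by positivity
    refine ⟨by omega, ?_⟩
    have h5 : T.w (Fin.last n) * sc T i * sc T j = 0 := by omega
    rcases mul_eq_zero.1 h5 with h6 | h6
    · rcases mul_eq_zero.1 h6 with h7 | h7
      · exact absurd h7 hwl.ne'
      · exact Or.inl h7
    · exact Or.inr h6
  obtain ⟨i₀, hi₀⟩ := hI
  obtain ⟨j₀, hj₀⟩ : ∃ j, j ∉ I := by
    by_contra hall
    push Not at hall
    exact hI' (Finset.eq_univ_iff_forall.2 hall)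
  by_cases hs : ∀ i ∈ I, sc T i = 0
  · -- `I` itself is disconnected from the rest
    obtain ⟨i, hi, j, hj, hij⟩ := T.connected (I.map Fin.castSuccEmb)
      (Finset.map_nonempty.2 ⟨i₀, hi₀⟩)
      (fun he => by
        have : Fin.last n ∈ I.map Fin.castSuccEmb := by rw [he]; exact Finset.mem_univ _
        rw [Finset.mem_map] at this
        obtain ⟨k, _, hk⟩ := this
        exact (Fin.castSucc_lt_last k).ne hk)
    rw [Finset.mem_map] at hi
    obtain ⟨i', hi', rfl⟩ := hi
    apply hij
    rcases Fin.eq_castSucc_or_eq_last j with ⟨j', rfl⟩ | rfl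
    · have hj' : j' ∉ I := fun hm => hj (Finset.mem_map.2 ⟨j', hm, rfl⟩)
      exact (hz i' hi' j' hj').1
    · change T.a i'.castSucc (Fin.last n) = 0
      rw [sc_spec, hs i' hi', mul_zero]
  · push Not at hs
    obtain ⟨i₁, hi₁, hs₁⟩ := hs
    have hs' : ∀ j ∉ I, sc T j = 0 := fun j hj => ((hz i₁ hi₁ j hj).2).resolve_left hs₁
    obtain ⟨i, hi, j, hj, hij⟩ := T.connected (insert (Fin.last n) (I.map Fin.castSuccEmb))
      ⟨_, Finset.mem_insert_self _ _⟩
      (fun he => by
        have : j₀.castSucc ∈ insert (Fin.last n) (I.map Fin.castSuccEmb) := by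
          rw [he]; exact Finset.mem_univ _
        rw [Finset.mem_insert, Finset.mem_map] at this
        rcases this with h1 | ⟨k, hk, hk'⟩
        · exact (Fin.castSucc_lt_last j₀).ne h1
        · exact hj₀ (Fin.castSucc_injective n hk' ▸ hk))
    rcases Fin.eq_castSucc_or_eq_last j with ⟨j', rfl⟩ | rfl
    · have hj' : j' ∉ I := fun hm =>
        hj (Finset.mem_insert_of_mem (Finset.mem_map.2 ⟨j', hm, rfl⟩))
      rw [Finset.mem_insert, Finset.mem_map] at hi
      apply hij
      rcases hi with rfl | ⟨i', hi', rfl⟩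
      · rw [a_comm, sc_spec, hs' j' hj', mul_zero]
      · exact (hz i' hi' j' hj').1
    · exact hj (Finset.mem_insert_self _ _)

/-- the contraction of a numerical type along a (-1)-index in last position -/
def contract (h : T.IsMinusOne (Fin.last n)) : _root_.Models.NumericalType n where
  m := fun i => T.m i.castSucc
  a := fun i j => ca T i j
  w := cw T
  g := cg T
  pos := n_pos T h
  m_pos := fun i => T.m_pos _
  w_pos := cw_pos T
  g_nonneg := cg_nonneg T
  symm := by
    ext i j
    change ca T j i = ca T i j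
    rw [ca_eq T h, ca_eq T h, a_comm T j.castSucc]; ring
  offDiag_nonneg := fun i j hij => ca_nonneg T h i j hij
  connected := ca_connected T h
  mulVec_m := by
    funext i
    simp only [Matrix.mulVec, dotProduct, Pi.zero_apply]
    exact ca_row T h i
  w_dvd := fun i j => by

    rw [ca_eq T h]
    refine dvd_add ((cw_dvd_w T i).trans (T.w_dvd _ _)) ?_
    rw [w_mul_sc]
    exact (((cw_dvd_w T i).mul_right _).mul_right _)

lemma contract_isContraction (h : T.IsMinusOne (Fin.last n)) :
    T.IsContraction (contract T h) :=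
  ⟨fun _ => rfl, fun _ _ => rfl, fun _ => rfl, fun _ => rfl⟩

lemma isContraction_fields {T' : _root_.Models.NumericalType n} (hT' : T.IsContraction T') :
    (∀ i, T'.m i = T.m i.castSucc) ∧ (∀ i j, T'.a i j = ca T i j) ∧ (∀ i, T'.w i = cw T i) ∧
      (∀ i, T'.g i = cg T i) := by
  obtain ⟨h1, h2, h3, h4⟩ := hT'
  refine ⟨h1, h2, h3, fun i => ?_⟩
  have h3' : T'.w i = cw T i := h3 i
  rw [h4 i, h3']
  rfl

theorem genus_contraction (h : T.IsMinusOne (Fin.last n)) (T' : _root_.Models.NumericalType n)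
    (hT' : T.IsContraction T') : T'.genus = T.genus := by
  obtain ⟨hm, ha, hw, hg⟩ := isContraction_fields T hT'
  have e1 := two_mul_genus T'
  have e2 := two_mul_genus T
  have h2 := row_sum T (Fin.last n)
  rw [Fin.sum_univ_castSucc] at h2 e2
  have h3 : ∑ j : Fin n, T.m j.castSucc * T.a j.castSucc (Fin.last n) =
      T.w (Fin.last n) * T.m (Fin.last n) := by
    have h4 := h.2
    rw [h4] at h2
    have h5 : ∑ j : Fin n, T.m j.castSucc * T.a j.castSucc (Fin.last n) =
       ∑ j : Fin n, T.a (Fin.last n) j.castSucc * T.m j.castSucc :=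
      Finset.sum_congr rfl fun j _ => by rw [a_comm]; ring
    rw [h5]; linarith
  have key : ∀ i : Fin n, 2 * (T'.m i * T'.w i * (T'.g i - 1)) - T'.m i * T'.a i i =
      (2 * (T.m i.castSucc * T.w i.castSucc * (T.g i.castSucc - 1)) -
        T.m i.castSucc * T.a i.castSucc i.castSucc) -
        T.m i.castSucc * T.a i.castSucc (Fin.last n) := by
    intro i
    rw [hm, ha, hw, hg, ca_eq T h]
    have h6 := two_mul_cg T i
    have h7 := w_eq T i
    have h8 : cw T i * (2 * (cg T i - 1)) =
        2 * (T.w i.castSucc * (T.g i.castSucc - 1)) +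
          T.w i.castSucc * tc T i * (sc T i - 1) := by
      rw [h6]
      conv_rhs => rw [h7]
      ring
    have h9 : T.w i.castSucc * tc T i = T.a i.castSucc (Fin.last n) := (tc_spec T i).symm
    rw [h9] at h8
    have h10 := sc_spec T i
    calc 2 * (T.m i.castSucc * cw T i * (cg T i - 1)) -
          T.m i.castSucc * (T.a i.castSucc i.castSucc + T.w (Fin.last n) * sc T i * sc T i)
        = T.m i.castSucc * (cw T i * (2 * (cg T i - 1))) -
          T.m i.castSucc * (T.a i.castSucc i.castSucc + T.a i.castSucc (Fin.last n) * sc T i) := by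
            rw [← h10]; ring
      _ = _ := by rw [h8]; ring
  have h11 : 2 * T'.genus = 2 * T.genus := by
    rw [e1, e2, Finset.sum_congr rfl fun i _ => key i, Finset.sum_sub_distrib, h3]
    have h12 := h.1
    have h13 := h.2
    rw [h12, h13]
    ring
  omega

end contraction

end Groth.Agent.Models.Contraction
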