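import Groth.Agent.Models.Contraction
import Mathlib.Tactic.Abel

/-!
# The Picard group of a contraction of a numerical type (Stacks 0C7J)
-/

set_option autoImplicit false

namespace Groth.Agent.Models.ContractionPic

open Finset Groth.Agent.Models.Contraction

variable {n : ℕ} (T : _root_.Models.NumericalType (n + 1)) (T' : _root_.Models.NumericalType n)

/-- forget the last coordinate -/
def q : (Fin (n + 1) → ℤ) →ₗ[ℤ] (Fin n → ℤ) := LinearMap.funLeft ℤ ℤ Fin.castSucc

/-- the map `e_l ↦ Σ (a_lj / w'_j) e_j`, `e_i ↦ (w_i/w'_i) e_i`. -/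
def p : (Fin (n + 1) → ℤ) →ₗ[ℤ] (Fin n → ℤ) where
  toFun x := fun j => T.w j.castSucc / T'.w j * x j.castSucc +
    T.a j.castSucc (Fin.last n) / T'.w j * x (Fin.last n)
  map_add' x y := by funext j; simp only [Pi.add_apply]; ring
  map_smul' c x := by
    funext j; simp only [Pi.smul_apply, smul_eq_mul, RingHom.id_apply]; ring

lemma p_apply (x : Fin (n + 1) → ℤ) (j : Fin n) :
    p T T' x j = T.w j.castSucc / T'.w j * x j.castSucc +
      T.a j.castSucc (Fin.last n) / T'.w j * x (Fin.last n) := rfl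

variable {T T'}

lemma w'_mul_p (hT' : T.IsContraction T') (x : Fin (n + 1) → ℤ) (j : Fin n) :
    T'.w j * p T T' x j = T.w j.castSucc * x j.castSucc +
      T.a j.castSucc (Fin.last n) * x (Fin.last n) := by
  obtain ⟨_, _, hw, _⟩ := isContraction_fields T hT'
  rw [p_apply, hw]
  have h1 : T.w j.castSucc = cw T j * (T.w j.castSucc / cw T j) :=
    (Int.mul_ediv_cancel' (cw_dvd_w T j)).symm
  have h2 : T.a j.castSucc (Fin.last n) = cw T j * (T.a j.castSucc (Fin.last n) / cw T j) :=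
    (Int.mul_ediv_cancel' ((cw_dvd_w T j).trans (T.w_dvd _ _))).symm
  conv_rhs => rw [h1, h2]
  ring

lemma w_mul_picMatrix {m : ℕ} (S : _root_.Models.NumericalType m) (x : Fin m → ℤ) (i : Fin m) :
    S.w i * (Matrix.mulVecLin S.picMatrix x) i = ∑ j, S.a i j * x j := by
  simp only [Matrix.mulVecLin_apply, Matrix.mulVec, dotProduct]
  rw [Finset.mul_sum]
  refine Finset.sum_congr rfl fun j _ => ?_
  rw [← mul_assoc]
  congr 1
  exact Int.mul_ediv_cancel' (S.w_dvd i j)

lemma comm (h : T.IsMinusOne (Fin.last n)) (hT' : T.IsContraction T') (x : Fin (n + 1) → ℤ) :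
    Matrix.mulVecLin T'.picMatrix (q x) = p T T' (Matrix.mulVecLin T.picMatrix x) := by
  obtain ⟨_, ha, hw, _⟩ := isContraction_fields T hT'
  funext j
  have hpos := T'.w_pos j
  apply mul_left_cancel₀ hpos.ne'
  rw [w_mul_picMatrix, w'_mul_p hT', w_mul_picMatrix]
  have hwl := T.w_pos (Fin.last n)
  have h1 : T.a j.castSucc (Fin.last n) * (Matrix.mulVecLin T.picMatrix x) (Fin.last n) =
      sc T j * ∑ k, T.a (Fin.last n) k * x k := by
    rw [← w_mul_picMatrix, sc_spec]; ring
  rw [h1, Fin.sum_univ_castSucc, Fin.sum_univ_castSucc, h.2]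
  have h2 : ∑ k : Fin n, T'.a j k * (q x) k =
      ∑ k : Fin n, T.a j.castSucc k.castSucc * x k.castSucc +
        sc T j * ∑ k : Fin n, T.a (Fin.last n) k.castSucc * x k.castSucc := by
    rw [Finset.mul_sum, ← Finset.sum_add_distrib]
    refine Finset.sum_congr rfl fun k _ => ?_
    rw [ha, ca_eq T h, a_comm T (Fin.last n), sc_spec T k]
    change _ * x k.castSucc = _
    ring
  rw [h2, sc_spec]; ring

/-- the kernel of `p` consists of multiples of the last column -/
lemma mem_range_of_p_eq_zero (h : T.IsMinusOne (Fin.last n)) (hT' : T.IsContraction T')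
    (x : Fin (n + 1) → ℤ) (hx : p T T' x = 0) :
    x ∈ LinearMap.range (Matrix.mulVecLin T.picMatrix) := by
  refine ⟨Pi.single (Fin.last n) (-x (Fin.last n)), ?_⟩
  funext i
  have hpos := T.w_pos i
  apply mul_left_cancel₀ hpos.ne'
  rw [w_mul_picMatrix, Finset.sum_eq_single (Fin.last n)
    (fun j _ hj => by rw [Pi.single_eq_of_ne hj, mul_zero]) (fun h => absurd (Finset.mem_univ _) h),
    Pi.single_eq_same]
  rcases Fin.eq_castSucc_or_eq_last i with ⟨j, rfl⟩ | rfl
  · have h1 := w'_mul_p hT' x j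
    rw [hx] at h1
    simp only [Pi.zero_apply, mul_zero] at h1
    linarith
  · rw [h.2]; ring

/-- the induced map on Picard groups -/
def picMap (h : T.IsMinusOne (Fin.last n)) (hT' : T.IsContraction T') : T.Pic →ₗ[ℤ] T'.Pic :=
  Submodule.mapQ _ _ (p T T') (by
    rintro _ ⟨y, rfl⟩
    exact ⟨q y, comm h hT' y⟩)

lemma picMap_mk (h : T.IsMinusOne (Fin.last n)) (hT' : T.IsContraction T')
    (x : Fin (n + 1) → ℤ) :
    picMap h hT' (Submodule.Quotient.mk x) = Submodule.Quotient.mk (p T T' x) := rfl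

theorem picMap_injective (h : T.IsMinusOne (Fin.last n)) (hT' : T.IsContraction T') :
    Function.Injective (picMap h hT') := by
  rw [← LinearMap.ker_eq_bot, eq_bot_iff]
  intro z hz
  obtain ⟨x, rfl⟩ := Submodule.Quotient.mk_surjective _ z
  rw [LinearMap.mem_ker, picMap_mk, Submodule.Quotient.mk_eq_zero] at hz
  obtain ⟨y, hy⟩ := hz
  obtain ⟨y', rfl⟩ : ∃ y', q y' = y := by
    refine ⟨Fin.snoc (α := fun _ => ℤ) y 0, ?_⟩
    funext j
    change Fin.snoc (α := fun _ => ℤ) y 0 j.castSucc = y j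
    rw [Fin.snoc_castSucc]
  rw [comm h hT'] at hy
  have h1 : p T T' (x - Matrix.mulVecLin T.picMatrix y') = 0 := by
    rw [map_sub, hy, sub_self]
  have h2 := mem_range_of_p_eq_zero h hT' _ h1
  rw [Submodule.mem_bot, Submodule.Quotient.mk_eq_zero]
  have h3 := Submodule.add_mem _ h2 (LinearMap.mem_range_self (Matrix.mulVecLin T.picMatrix) y')
  rwa [sub_add_cancel] at h3

theorem two_smul_mem_picMap (h : T.IsMinusOne (Fin.last n)) (hT' : T.IsContraction T')
    (y : T'.Pic) : ∃ x : T.Pic, 2 • y = picMap h hT' x := by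
  obtain ⟨_, _, hw, _⟩ := isContraction_fields T hT'
  obtain ⟨y, rfl⟩ := Submodule.Quotient.mk_surjective _ y
  have hk : ∀ j : Fin n, ∃ k : ℤ, T.w j.castSucc / T'.w j * k = 2 := by
    intro j
    rw [hw]
    rcases cw_cases T j with ⟨_, _, h'⟩ | ⟨_, _, h'⟩
    · exact ⟨2, by rw [h']; rfl⟩
    · exact ⟨1, by rw [h']; rfl⟩
  choose k hk using hk
  refine ⟨Submodule.Quotient.mk (Fin.snoc (α := fun _ => ℤ) (fun j => k j * y j) 0), ?_⟩
  rw [picMap_mk, ← Submodule.Quotient.mk_smul]
  congr 1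
  funext j
  rw [p_apply, Fin.snoc_castSucc, Fin.snoc_last, ← mul_assoc, hk]
  simp

end Groth.Agent.Models.ContractionPic
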