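import Groth.Agent.Models.TorLoc
import Groth.Agent.S2199

/-!
# Stacks 09PV for a chain of surjections `T → R → S`
-/

set_option autoImplicit false
universe u

open IsLocalRing

namespace Groth.Agent.Models.CoreSurj

/-- Stacks 09PV, for surjections `T → R → S` with `T` Noetherian local and `S` of finite Tor dimension
over `R`. -/
theorem mem_maximalIdeal_mul_ker {T R S : Type u} [CommRing T] [CommRing R] [CommRing S]
    [IsNoetherianRing T] [IsLocalRing T] [Nontrivial S] [Algebra T R] [Algebra R S] [Algebra T S]
    [IsScalarTower T R S] (hR : Function.Surjective (algebraMap T R))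
    (hS : Function.Surjective (algebraMap R S)) (hfd : DRing.HasFiniteTorDim R S) (x : T)
    (hx : x ∈ RingHom.ker (algebraMap T R))
    (hxm : x ∈ maximalIdeal T * RingHom.ker (algebraMap T S)) :
    x ∈ maximalIdeal T * RingHom.ker (algebraMap T R) := by
  set I := RingHom.ker (algebraMap T R) with hI
  set J := RingHom.ker (algebraMap T S) with hJ
  have hTS : Function.Surjective (algebraMap T S) := by
    rw [IsScalarTower.algebraMap_eq T R S]
    exact hS.comp hR
  have hIJ : I ≤ J := by
    intro y hy
    rw [hJ, RingHom.mem_ker, IsScalarTower.algebraMap_apply T R S, (RingHom.mem_ker).1 hy, map_zero]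
  have hJt : J ≠ ⊤ := RingHom.ker_ne_top _
  let eI : (T ⧸ I) ≃ₐ[T] R := Ideal.quotientKerAlgEquivOfSurjective (f := Algebra.ofId T R) hR
  let eJ : (T ⧸ J) ≃ₐ[T] S := Ideal.quotientKerAlgEquivOfSurjective (f := Algebra.ofId T S) hTS
  let a1 : Algebra (T ⧸ I) (T ⧸ J) := (Ideal.Quotient.factor hIJ).toAlgebra
  have : IsScalarTower T (T ⧸ I) (T ⧸ J) := IsScalarTower.of_algebraMap_eq fun t => rfl
  refine Groth.Agent.S2199.result I J hIJ hJt ?_ x hx hxm
  -- transport the finite Tor dimension
  let a2 : Algebra R (T ⧸ I) := (eI.symm : R ≃+* (T ⧸ I)).toRingHom.toAlgebra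
  let m1 : Module (T ⧸ I) S := Module.compHom S (eI : (T ⧸ I) →+* R)
  have : IsScalarTower R (T ⧸ I) S := ⟨fun a b y => by
    change (eI (eI.symm a * b)) • y = a • (eI b • y)
    rw [map_mul, AlgEquiv.apply_symm_apply, mul_smul]⟩
  have h1 : DRing.HasFiniteTorDim (T ⧸ I) S :=
    TorLoc.hasFiniteTorDim_of_bijective (A := R) (B := T ⧸ I) (M := S) eI.symm.bijective hfd
  refine TorLoc.hasFiniteTorDim_of_equiv (A := T ⧸ I) (M := S) ?_ h1
  exact
    { eJ.symm with
      map_smul' := fun a y => by
        obtain ⟨a, rfl⟩ := Ideal.Quotient.mk_surjective a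
        have e1 : (Ideal.Quotient.mk I a) • y = a • y := by
          change (eI (Ideal.Quotient.mk I a)) • y = a • y
          have : eI (Ideal.Quotient.mk I a) = algebraMap T R a := rfl
          rw [this, algebraMap_smul]
        have e2 : (Ideal.Quotient.mk I a) • (eJ.symm y) = a • (eJ.symm y) := by
          have : (Ideal.Quotient.mk I a) = algebraMap T (T ⧸ I) a := rfl
          rw [this, algebraMap_smul]
        simp only [RingHom.id_apply]
        rw [e1]
        change eJ.symm (a • y) = (Ideal.Quotient.mk I a) • (eJ.symm y)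
        rw [e2, map_smul] }

end Groth.Agent.Models.CoreSurj
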