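import Groth.Agent.Models.CotangentLoc
import Mathlib.RingTheory.Flat.Localization

/-!
Localization of the conormal module `I/I²`, flatness is local.
-/

namespace Groth.Agent.Models.CotangentFlat

open Groth.Agent.Models.CotangentLoc

variable {R : Type*} [CommRing R] (S' : Submonoid R) (Rₛ : Type*) [CommRing Rₛ] [Algebra R Rₛ]
  [IsLocalization S' Rₛ] (I : Ideal R)

include S' in
/-- `I/I² → J/J²`, `J = I Rₛ` is a localization. -/
theorem isLocalizedModule_cotMap : IsLocalizedModule S' (cotMap Rₛ I) where
  map_units s := by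
    rw [Module.End.isUnit_iff]
    have hs := IsLocalization.map_units Rₛ s
    constructor
    · intro x y hxy
      change (s : R) • x = (s : R) • y at hxy
      rw [← algebraMap_smul Rₛ (s : R) x, ← algebraMap_smul Rₛ (s : R) y] at hxy
      exact (IsUnit.smul_left_cancel hs).1 hxy
    · intro y
      obtain ⟨u, hu⟩ := hs
      refine ⟨(↑u⁻¹ : Rₛ) • y, ?_⟩
      change (s : R) • ((↑u⁻¹ : Rₛ) • y) = y
      rw [← algebraMap_smul Rₛ (s : R), ← hu, ← mul_smul, Units.mul_inv, one_smul]
  surj y := by
    obtain ⟨⟨y, hy⟩, rfl⟩ := Ideal.toCotangent_surjective _ y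
    obtain ⟨⟨a, s⟩, h⟩ := (IsLocalization.mem_map_algebraMap_iff S' Rₛ).1 hy
    refine ⟨⟨I.toCotangent a, s⟩, ?_⟩
    rw [cotMap_toCotangent, Submonoid.smul_def, ← algebraMap_smul Rₛ (s : R), ← map_smul]
    congr 1
    ext
    simp only [SetLike.val_smul, smul_eq_mul]
    rw [mul_comm]
    exact h
  exists_of_eq {x y} h := by
    obtain ⟨x, rfl⟩ := Ideal.toCotangent_surjective _ x
    obtain ⟨y, rfl⟩ := Ideal.toCotangent_surjective _ y
    rw [cotMap_toCotangent, cotMap_toCotangent, Ideal.toCotangent_eq] at h
    have h1 : algebraMap R Rₛ ((x : R) - y) ∈ (I ^ 2).map (algebraMap R Rₛ) := by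
      rw [Ideal.map_pow, map_sub]
      exact h
    obtain ⟨⟨a, s⟩, h2⟩ := (IsLocalization.mem_map_algebraMap_iff S' Rₛ).1 h1
    rw [← map_mul, IsLocalization.eq_iff_exists S'] at h2
    obtain ⟨t, ht⟩ := h2
    refine ⟨t * s, ?_⟩
    rw [Submonoid.smul_def, Submonoid.smul_def, ← map_smul, ← map_smul, Ideal.toCotangent_eq]
    have h3 : (t : R) * a ∈ I ^ 2 := Ideal.mul_mem_left _ _ a.2
    have h4 : (((t * s : S') : R) • x : I).1 - (((t * s : S') : R) • y : I).1 = t * a := by
      rw [← ht]
      simp only [SetLike.val_smul, smul_eq_mul, Submonoid.coe_mul]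
      ring
    rw [h4]
    exact h3

omit [IsLocalization S' Rₛ] in
/-- A localization map of `R/I`-modules along `S'` is one along the image of `S'`. -/
lemma isLocalizedModule_quotient {M N : Type*} [AddCommGroup M] [AddCommGroup N] [Module R M]
    [Module R N] [Module (R ⧸ I) M] [Module (R ⧸ I) N] [IsScalarTower R (R ⧸ I) M]
    [IsScalarTower R (R ⧸ I) N] (f : M →ₗ[R ⧸ I] N)
    [h : IsLocalizedModule S' (f.restrictScalars R)] (T : Submonoid (R ⧸ I))
    (hT : T = S'.map (Ideal.Quotient.mk I)) : IsLocalizedModule T f := by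
  subst hT
  have hs (a : R) (x : M) : Ideal.Quotient.mk I a • x = a • x := algebraMap_smul (R ⧸ I) a x
  have hs' (a : R) (x : N) : Ideal.Quotient.mk I a • x = a • x := algebraMap_smul (R ⧸ I) a x
  constructor
  · rintro ⟨_, s, hS, rfl⟩
    have h1 := h.map_units ⟨s, hS⟩
    rw [Module.End.isUnit_iff] at h1 ⊢
    constructor
    · intro x y hxy
      apply h1.1
      change Ideal.Quotient.mk I s • x = Ideal.Quotient.mk I s • y at hxy
      rw [hs', hs'] at hxy
      exact hxy
    · intro y
      obtain ⟨x, hx⟩ := h1.2 y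
      refine ⟨x, ?_⟩
      change Ideal.Quotient.mk I s • x = y
      rw [hs']
      exact hx
  · intro y
    obtain ⟨⟨x, s⟩, hx⟩ := h.surj y
    refine ⟨⟨x, ⟨Ideal.Quotient.mk I s, ⟨s, s.2, rfl⟩⟩⟩, ?_⟩
    rw [Submonoid.smul_def] at hx ⊢
    change Ideal.Quotient.mk I s • y = f x
    rw [hs']
    exact hx
  · intro x y hxy
    obtain ⟨c, hc⟩ := h.exists_of_eq (x₁ := x) (x₂ := y) hxy
    refine ⟨⟨Ideal.Quotient.mk I c, ⟨c, c.2, rfl⟩⟩, ?_⟩
    rw [Submonoid.smul_def] at hc ⊢
    change Ideal.Quotient.mk I c • x = Ideal.Quotient.mk I c • y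
    rw [hs, hs]
    exact hc

/-- Flatness of `I/I²` can be checked locally. -/
theorem flat_cotangent_of_exists_away {R : Type*} [CommRing R] (I : Ideal R)
    (h : ∀ p : Ideal R, p.IsPrime → I ≤ p → ∃ g : R, g ∉ p ∧
      Module.Flat (Localization.Away g ⧸ I.map (algebraMap R (Localization.Away g)))
        (I.map (algebraMap R (Localization.Away g))).Cotangent) :
    Module.Flat (R ⧸ I) I.Cotangent := by
  let s : Set (R ⧸ I) := {r | ∃ g : R, Ideal.Quotient.mk I g = r ∧
      Module.Flat (Localization.Away g ⧸ I.map (algebraMap R (Localization.Away g)))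
        (I.map (algebraMap R (Localization.Away g))).Cotangent}
  have hs : Ideal.span s = ⊤ := by
    by_contra hne
    obtain ⟨m, hm, hle⟩ := Ideal.exists_le_maximal _ hne
    obtain ⟨g, hg, hflat⟩ := h (m.comap (Ideal.Quotient.mk I)) inferInstance (by
      intro x hx
      rw [Ideal.mem_comap, Ideal.Quotient.eq_zero_iff_mem.2 hx]
      exact m.zero_mem)
    exact hg (hle (Ideal.subset_span ⟨g, rfl, hflat⟩))
  choose g hg hflat using fun r : s => r.2
  let instM (r : s) : Module (R ⧸ I) (I.map (algebraMap R (Localization.Away (g r)))).Cotangent :=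
    Module.compHom _ (algebraMap (R ⧸ I)
      (Localization.Away (g r) ⧸ I.map (algebraMap R (Localization.Away (g r)))))
  let f (r : s) : I.Cotangent →ₗ[R ⧸ I]
      (I.map (algebraMap R (Localization.Away (g r)))).Cotangent :=
    { toFun := cotMap (Localization.Away (g r)) I
      map_add' := map_add _
      map_smul' := fun c m => smul_cotMap (Localization.Away (g r)) I c m }
  have tower' (r : s) : IsScalarTower R
      (Localization.Away (g r) ⧸ I.map (algebraMap R (Localization.Away (g r))))
      (I.map (algebraMap R (Localization.Away (g r)))).Cotangent := ⟨fun a b x => by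
    obtain ⟨b, rfl⟩ := Ideal.Quotient.mk_surjective b
    obtain ⟨x, rfl⟩ := Ideal.toCotangent_surjective _ x
    have h1 : a • Ideal.Quotient.mk (I.map (algebraMap R (Localization.Away (g r)))) b =
      Ideal.Quotient.mk _ (a • b) := rfl
    have h2 (c : Localization.Away (g r))
        (y : (I.map (algebraMap R (Localization.Away (g r)))).Cotangent) :
        Ideal.Quotient.mk (I.map (algebraMap R (Localization.Away (g r)))) c • y = c • y := rfl
    rw [h1, h2, h2, ← algebraMap_smul (Localization.Away (g r)) a b,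
      ← algebraMap_smul (Localization.Away (g r)) a (b • _), smul_eq_mul, mul_smul]⟩
  have tower'' (r : s) : IsScalarTower (R ⧸ I)
      (Localization.Away (g r) ⧸ I.map (algebraMap R (Localization.Away (g r))))
      (I.map (algebraMap R (Localization.Away (g r)))).Cotangent := ⟨fun a b x => by
    rw [Algebra.smul_def, mul_smul]
    rfl⟩
  have tower (r : s) : IsScalarTower R (R ⧸ I)
      (I.map (algebraMap R (Localization.Away (g r)))).Cotangent := ⟨fun a b x => by
    change algebraMap (R ⧸ I) (Localization.Away (g r) ⧸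
        I.map (algebraMap R (Localization.Away (g r)))) (a • b) • x =
      a • (algebraMap (R ⧸ I) (Localization.Away (g r) ⧸
        I.map (algebraMap R (Localization.Away (g r)))) b • x)
    have h3 : algebraMap (R ⧸ I) (Localization.Away (g r) ⧸
        I.map (algebraMap R (Localization.Away (g r)))) (a • b) =
        a • algebraMap (R ⧸ I) (Localization.Away (g r) ⧸
          I.map (algebraMap R (Localization.Away (g r)))) b := by
      rw [Algebra.algebraMap_eq_smul_one, Algebra.algebraMap_eq_smul_one,
        smul_assoc a b (1 : Localization.Away (g r) ⧸ I.map (algebraMap R (Localization.Away (g r))))]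
    rw [h3]
    exact smul_assoc _ _ _⟩
  have loc (r : s) : IsLocalizedModule.Away r.1 (f r) := by
    have h1 : IsLocalizedModule (Submonoid.powers (g r)) ((f r).restrictScalars R) :=
      isLocalizedModule_cotMap (Submonoid.powers (g r)) (Localization.Away (g r)) I
    refine isLocalizedModule_quotient (Submonoid.powers (g r)) I (f r) _ ?_
    rw [Submonoid.map_powers]
    exact congrArg _ (hg r).symm
  refine Module.flat_of_isLocalized_span (R ⧸ I) _ s hs
    (fun r => (I.map (algebraMap R (Localization.Away (g r)))).Cotangent) f fun r => ?_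
  have h1 : Module.Flat (R ⧸ I)
      (Localization.Away (g r) ⧸ I.map (algebraMap R (Localization.Away (g r)))) :=
    IsLocalization.flat _ (Algebra.algebraMapSubmonoid (R ⧸ I) (Submonoid.powers (g r)))
  have h2 := hflat r
  exact Module.Flat.trans (R ⧸ I)
    (Localization.Away (g r) ⧸ I.map (algebraMap R (Localization.Away (g r)))) _

end Groth.Agent.Models.CotangentFlat
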