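import Mathlib.RingTheory.Ideal.Cotangent
import Mathlib.RingTheory.Localization.Algebra
import Mathlib.RingTheory.Localization.Module
import Mathlib.Algebra.Module.Projective
import Mathlib.RingTheory.Ideal.Quotient.Operations

/-!
# The conormal module of a localized ideal

* `projective_cotangent_map`: if `I/I²` is projective over `R/I` then for every localization `Rₛ` of `R`, the conormal
  module of `I Rₛ` is projective over `Rₛ/I Rₛ`.
-/

set_option autoImplicit false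

namespace Groth.Agent.Models.CotangentLoc

variable {R : Type*} [CommRing R] (S' : Submonoid R) (Rₛ : Type*) [CommRing Rₛ] [Algebra R Rₛ]
  [IsLocalization S' Rₛ] (I : Ideal R)

/-- The map `R/I → Rₛ/I Rₛ`. -/
noncomputable def quotMap : R ⧸ I →ₗ[R] Rₛ ⧸ I.map (algebraMap R Rₛ) :=
  Submodule.liftQ I (Algebra.linearMap R _) (by
    intro a ha
    rw [LinearMap.mem_ker]
    change Ideal.Quotient.mk _ (algebraMap R Rₛ a) = 0
    rw [Ideal.Quotient.eq_zero_iff_mem]
    exact Ideal.mem_map_of_mem _ ha)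

lemma quotMap_mk (a : R) : quotMap Rₛ I (Ideal.Quotient.mk I a) =
    Ideal.Quotient.mk _ (algebraMap R Rₛ a) := rfl

/-- The map `I/I² → J/J²`, `J = I Rₛ`. -/
noncomputable def cotMap : I.Cotangent →ₗ[R] (I.map (algebraMap R Rₛ)).Cotangent :=
  Ideal.Cotangent.lift
    (((I.map (algebraMap R Rₛ)).toCotangent.restrictScalars R) ∘ₗ Algebra.idealMap Rₛ I) (by
      intro x y
      rw [LinearMap.comp_apply, LinearMap.restrictScalars_apply, Ideal.toCotangent_eq_zero,
        Algebra.idealMap_mul, sq]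
      exact Ideal.mul_mem_mul (Algebra.idealMap Rₛ I x).2 (Algebra.idealMap Rₛ I y).2)

lemma cotMap_toCotangent (a : I) :
    cotMap Rₛ I (I.toCotangent a) = (I.map (algebraMap R Rₛ)).toCotangent (Algebra.idealMap Rₛ I a) := rfl

lemma smul_cotMap (c : R ⧸ I) (m : I.Cotangent) :
    cotMap Rₛ I (c • m) = quotMap Rₛ I c • cotMap Rₛ I m := by
  obtain ⟨c, rfl⟩ := Ideal.Quotient.mk_surjective c
  rw [quotMap_mk]
  have h1 : Ideal.Quotient.mk I c • m = c • m := rfl
  have h2 : (Ideal.Quotient.mk (I.map (algebraMap R Rₛ)) (algebraMap R Rₛ c)) • cotMap Rₛ I m =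
      c • cotMap Rₛ I m := by
    obtain ⟨m, rfl⟩ := I.toCotangent_surjective m
    rw [cotMap_toCotangent]
    change (algebraMap R Rₛ c) • ((I.map (algebraMap R Rₛ)).toCotangent (Algebra.idealMap Rₛ I m)) = _
    rw [algebraMap_smul]
  rw [h1, h2, map_smul]

include S' in
theorem projective_cotangent_map [Module.Projective (R ⧸ I) I.Cotangent] :
    Module.Projective (Rₛ ⧸ I.map (algebraMap R Rₛ)) (I.map (algebraMap R Rₛ)).Cotangent := by
  classical
  obtain ⟨s, hs⟩ := (Module.projective_def' (R := R ⧸ I) (P := I.Cotangent)).mp inferInstance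
  let J := I.map (algebraMap R Rₛ)
  let Ψ₁ : I →ₗ[R] (I.Cotangent →₀ (Rₛ ⧸ J)) :=
    (Finsupp.mapRange.linearMap (quotMap Rₛ I)) ∘ₗ (s.restrictScalars R) ∘ₗ I.toCotangent
  have hunit : ∀ x : S', IsUnit ((algebraMap R (Module.End R (I.Cotangent →₀ (Rₛ ⧸ J)))) x) := by
    intro x
    have hx := IsLocalization.map_units Rₛ x
    rw [Module.End.isUnit_iff]
    have h1 : ∀ v : I.Cotangent →₀ (Rₛ ⧸ J), (algebraMap R (Module.End R (I.Cotangent →₀ (Rₛ ⧸ J)))) x v =
        (algebraMap R Rₛ x) • v := by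
      intro v
      rw [Module.algebraMap_end_apply, algebraMap_smul]
    constructor
    · intro v w hvw
      rw [h1, h1] at hvw
      exact hx.smul_left_cancel.mp hvw
    · intro v
      obtain ⟨u, hu⟩ := hx
      refine ⟨(↑u⁻¹ : Rₛ) • v, ?_⟩
      rw [h1, ← hu, smul_smul, Units.mul_inv, one_smul]
  let Ψ₂ : J →ₗ[R] (I.Cotangent →₀ (Rₛ ⧸ J)) := IsLocalizedModule.lift S' (Algebra.idealMap Rₛ I) Ψ₁ hunit
  have hΨ₂ : ∀ a : I, Ψ₂ (Algebra.idealMap Rₛ I a) = Ψ₁ a := fun a =>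
    LinearMap.congr_fun (IsLocalizedModule.lift_comp S' (Algebra.idealMap Rₛ I) Ψ₁ hunit) a
  let Ψ₃ : J →ₗ[Rₛ] (I.Cotangent →₀ (Rₛ ⧸ J)) := Ψ₂.extendScalarsOfIsLocalization S' Rₛ
  have hkill : ∀ a ∈ J, ∀ v : I.Cotangent →₀ (Rₛ ⧸ J), a • v = 0 := by
    intro a ha v
    ext m
    rw [Finsupp.smul_apply, Finsupp.zero_apply]
    obtain ⟨w, hw⟩ := Ideal.Quotient.mk_surjective (v m)
    rw [← hw, ← Ideal.Quotient.mk_eq_mk, ← Submodule.Quotient.mk_smul, Submodule.Quotient.mk_eq_zero]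
    exact J.mul_mem_right _ ha
  let Ψ₄ : J.Cotangent →ₗ[Rₛ] (I.Cotangent →₀ (Rₛ ⧸ J)) := Ideal.Cotangent.lift Ψ₃ (by
    intro x y
    have : x * y = (x : Rₛ) • y := rfl
    rw [this, map_smul]
    exact hkill x x.2 _)
  let Ψ₅ : J.Cotangent →ₗ[Rₛ ⧸ J] (I.Cotangent →₀ (Rₛ ⧸ J)) :=
    Ψ₄.extendScalarsOfSurjective Ideal.Quotient.mk_surjective
  let κ : (I.Cotangent →₀ (Rₛ ⧸ J)) →ₗ[Rₛ ⧸ J] J.Cotangent :=
    Finsupp.linearCombination (Rₛ ⧸ J) (fun m : I.Cotangent => cotMap Rₛ I m)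
  have hmain : ∀ a : I, κ (Ψ₁ a) = J.toCotangent (Algebra.idealMap Rₛ I a) := by
    intro a
    have h1 : ∀ v : I.Cotangent →₀ (R ⧸ I), κ (Finsupp.mapRange.linearMap (quotMap Rₛ I) v) =
        cotMap Rₛ I (Finsupp.linearCombination (R ⧸ I) id v) := by
      intro v
      induction v using Finsupp.induction_linear with
      | zero => simp
      | add v w hv hw => rw [map_add, map_add, hv, hw, map_add, map_add]
      | single m c =>
        simp only [Finsupp.mapRange.linearMap_apply, Finsupp.mapRange_single,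
          Finsupp.linearCombination_single, κ, id_eq]
        rw [smul_cotMap]
    change κ (Finsupp.mapRange.linearMap (quotMap Rₛ I) (s (I.toCotangent a))) = _
    rw [h1]
    have h2 : Finsupp.linearCombination (R ⧸ I) id (s (I.toCotangent a)) = I.toCotangent a :=
      LinearMap.congr_fun hs _
    rw [h2, cotMap_toCotangent]
  refine Module.Projective.of_split Ψ₅ κ ?_
  apply LinearMap.ext
  intro y
  obtain ⟨y, rfl⟩ := J.toCotangent_surjective y
  change κ (Ψ₂ y) = J.toCotangent y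
  obtain ⟨⟨a, t⟩, rfl⟩ := IsLocalizedModule.mk'_surjective S' (Algebra.idealMap Rₛ I) y
  rw [Function.uncurry_apply_pair]
  have ht := IsLocalization.map_units Rₛ t
  have h3 : (algebraMap R Rₛ t) • (IsLocalizedModule.mk' (Algebra.idealMap Rₛ I) a t) =
      Algebra.idealMap Rₛ I a := by
    rw [algebraMap_smul]
    exact IsLocalizedModule.mk'_cancel' (Algebra.idealMap Rₛ I) a t
  apply ht.smul_left_cancel.mp
  have h4 : (algebraMap R Rₛ t) • κ (Ψ₂ (IsLocalizedModule.mk' (Algebra.idealMap Rₛ I) a t)) =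
      κ (Ψ₃ ((algebraMap R Rₛ t) • (IsLocalizedModule.mk' (Algebra.idealMap Rₛ I) a t))) := by
    rw [map_smul]
    exact ((κ.restrictScalars Rₛ).map_smul _ _).symm
  rw [h4, h3, ← map_smul, h3]
  change κ (Ψ₂ _) = _
  rw [hΨ₂, hmain]

end Groth.Agent.Models.CotangentLoc
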