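import Groth.Agent.Divis.IdealComap
import Groth.Agent.Etbase.EtaleStalk
import Mathlib.RingTheory.Etale.Basic
import Mathlib.RingTheory.TensorProduct.Quotient
import Mathlib.AlgebraicGeometry.Noetherian

/-!
The inverse image ideal of a vanishing (radical) ideal along an étale morphism is the vanishing ideal of
the preimage.
-/

set_option autoImplicit false
universe u

open CategoryTheory AlgebraicGeometry Limits TensorProduct

namespace Groth.Agent.Models.EtRadical

theorem isRadical_map {A B : Type u} [CommRing A] [CommRing B] [Algebra A B] [IsNoetherianRing A]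
    [Algebra.Etale A B] (I : Ideal A) (hI : I.IsRadical) : (I.map (algebraMap A B)).IsRadical := by
  have h1 : IsReduced (A ⧸ I) := (Ideal.isRadical_iff_quotient_reduced I).1 hI
  have h2 : IsReduced ((A ⧸ I) ⊗[A] B) :=
    Groth.Agent.Etbase.EtaleStalk.isReduced_of_flat_of_formallyUnramified (A := A ⧸ I)
  rw [Ideal.isRadical_iff_quotient_reduced]
  have e : (B ⧸ I.map (algebraMap A B)) ≃+* ((A ⧸ I) ⊗[A] B) :=
    (Algebra.TensorProduct.quotIdealMapEquivTensorQuot B I).toRingEquiv.trans
      (Algebra.TensorProduct.comm A B (A ⧸ I)).toRingEquiv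
  exact isReduced_of_injective e e.injective

theorem comap_vanishingIdeal {X Y : Scheme.{u}} (f : X ⟶ Y) [Etale f] [IsLocallyNoetherian Y]
    (Z : TopologicalSpace.Closeds Y) :
    (Scheme.IdealSheafData.vanishingIdeal Z).comap f =
      Scheme.IdealSheafData.vanishingIdeal (Z.preimage f.continuous) := by
  have h1 : ((Scheme.IdealSheafData.vanishingIdeal Z).comap f).support = Z.preimage f.continuous := by
    rw [Scheme.IdealSheafData.support_comap]
    congr 1
  rw [← h1, Scheme.IdealSheafData.vanishingIdeal_support]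
  refine Groth.Agent.Divis.IdealComap.ext_of_forall_mem fun x => ?_
  obtain ⟨U, V, -, hxV, -, -, e⟩ :=
    Groth.Agent.Divis.IdealComap.exists_affine_le f x ⊤ trivial ⊤ trivial
  refine ⟨V, hxV, ?_⟩
  change _ = (((Scheme.IdealSheafData.vanishingIdeal Z).comap f).ideal V).radical
  rw [Groth.Agent.Divis.IdealComap.ideal_comap _ f U V e]
  symm
  rw [Ideal.radical_eq_iff]
  have h2 : (f.appLE U.1 V.1 e).hom.Etale := f.etale_appLE U.2 V.2 e
  have h3 : IsNoetherianRing Γ(Y, U.1) := IsLocallyNoetherian.component_noetherian U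
  algebraize [(f.appLE U.1 V.1 e).hom]
  apply isRadical_map
  change Ideal.IsRadical (PrimeSpectrum.vanishingIdeal _)
  exact PrimeSpectrum.isRadical_vanishingIdeal _

end Groth.Agent.Models.EtRadical
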