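import Groth.Agent.Models.FFBomb
import Groth.Agent.MiscA.WCPlaceRes
import Groth.Agent.Cohder.HWTrick

set_option autoImplicit false

/-! The Stepanov-Bombieri bound in terms of places of a function field over an algebraically
closed field. -/

namespace Groth.Agent.Models.FFBombPlace

open Groth.Agent.Models.FFRR Groth.Agent.MiscA.WCPlace Groth.Agent.MiscA.WCPlaceCrv
  Groth.Agent.MiscA.WCPlaceRes Groth.Agent.MiscA.WCPlaceGal Groth.Agent.Cohder.HWTrick

universe u v

variable {k : Type u} {K : Type v} [Field k] [Field K] [Algebra k K]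

/-- Stepanov-Bombieri: for a function field `K` over an algebraically closed field `k` of
characteristic `p` there is a constant `c` such that every ring automorphism `ρ` of `K` which
is `a ↦ a ^ (p ^ e)` on `k` has at most `p ^ e + c * √(p ^ e)` fixed places. -/
theorem bombieri_place [IsAlgClosed k] (h : ∃ t : K, IsSep k K t) (p : ℕ) [Fact p.Prime]
    [CharP k p] :
    ∃ c : ℝ, ∀ (ρ : K ≃+* K) (e : ℕ), 1 ≤ e →
      (∀ a : k, ρ (algebraMap k K a) = algebraMap k K (a ^ p ^ e)) →
      Finite (Fix k ρ) ∧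
        (Nat.card (Fix k ρ) : ℝ) ≤ (p : ℝ) ^ e + c * Real.sqrt ((p : ℝ) ^ e) := by
  have : CharP K p := charP_of_injective_algebraMap (algebraMap k K).injective p
  have := nonempty_place h
  obtain ⟨c, hc⟩ := FFBomb.bombieri (crv h) (crv_fin h) (l_zero_eq_one_of_isAlgClosed h)
    (dg0_eq_one h) p
  refine ⟨c, fun ρ e he hρ => ?_⟩
  have hpe : (p : ℕ) ^ e ≠ 0 := pow_ne_zero _ (Nat.Prime.ne_zero Fact.out)
  -- the inverse of the Frobenius
  have hroot : ∀ a : k, ∃ b : k, b ^ p ^ e = a := fun a => IsAlgClosed.exists_pow_nat_eq a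
    (Nat.pos_of_ne_zero hpe)
  have hsymm : ∀ a : k, ∃ b : k, ρ.symm (algebraMap k K a) = algebraMap k K b := by
    intro a
    obtain ⟨b, hb⟩ := hroot a
    refine ⟨b, ?_⟩
    rw [RingEquiv.symm_apply_eq, hρ, hb]
  let ρX : Place k K → Place k K := fun P =>
    ⟨P.1.comap (ρ.symm : K →+* K), by
      refine ⟨?_, ?_⟩
      · intro htop
        apply P.2.1
        rw [eq_top_iff]
        intro x _
        have h1 : ρ x ∈ P.1.comap (ρ.symm : K →+* K) := by rw [htop]; trivial
        have h2 : ρ.symm (ρ x) ∈ P.1 := h1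
        rwa [RingEquiv.symm_apply_apply] at h2
      · intro a
        obtain ⟨b, hb⟩ := hsymm a
        change ρ.symm (algebraMap k K a) ∈ P.1
        rw [hb]
        exact P.2.2 b⟩
  have hcomap : ∀ P : Place k K, (ρX P).1.comap (ρ : K →+* K) = P.1 := by
    intro P
    ext x
    change ρ.symm (ρ x) ∈ P.1 ↔ x ∈ P.1
    rw [RingEquiv.symm_apply_apply]
  obtain ⟨t, ht⟩ := h
  obtain ⟨hfin, hcard⟩ := hc ρ ρX e he
    (fun P f => ht.val_apply_of_comap_eq P (ρX P) ρ (hcomap P) f) hρ
  have hiff : ∀ P : Place k K, ρX P = P ↔ P.1.comap (ρ : K →+* K) = P.1 := by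
    intro P
    constructor
    · intro hP
      conv_lhs => rw [← hP]
      exact hcomap P
    · intro hP
      apply Place.ext
      ext x
      change ρ.symm x ∈ P.1 ↔ x ∈ P.1
      conv_lhs => rw [← hP]
      change ρ (ρ.symm x) ∈ P.1 ↔ x ∈ P.1
      rw [RingEquiv.apply_symm_apply]
  have hset : {P : Place k K | ρX P = P} = {P | P.1.comap (ρ : K →+* K) = P.1} := by
    ext P
    exact hiff P
  rw [hset] at hfin hcard
  exact ⟨hfin.to_subtype, hcard⟩

end Groth.Agent.Models.FFBombPlace
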