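import Mathlib.RingTheory.Regular.RegularSequence
import Mathlib.RingTheory.Localization.AtPrime.Basic
import Mathlib.RingTheory.Localization.Away.Basic
import Mathlib.RingTheory.Localization.Ideal
import Mathlib.RingTheory.Noetherian.Basic
import Mathlib.Tactic.LinearCombination

/-!
# Regular sequences and localization, spreading out

* `isWeaklyRegular_localization_iff`: elementwise criterion for a sequence of `R` to be weakly regular in `S⁻¹R`.
* `exists_away`: a sequence of a Noetherian ring weakly regular in `R_p` is weakly regular in `R_g'` for all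
  multiples `g'` of some `g ∉ p`.
* `exists_fin_lift`: a (weakly) regular sequence of `S⁻¹R` can be replaced by one coming from `R`, generating the
  same ideals.
-/

set_option autoImplicit false

open RingTheory.Sequence
open scoped Pointwise

namespace Groth.Agent.Models.RegSpread

variable {R : Type*} [CommRing R]

lemma isWeaklyRegular_self_iff (rs : List R) :
    IsWeaklyRegular R rs ↔ ∀ i (h : i < rs.length), ∀ m : R, rs[i] * m ∈ Ideal.ofList (rs.take i) →
      m ∈ Ideal.ofList (rs.take i) := by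
  rw [isWeaklyRegular_iff]
  refine forall_congr' fun i => forall_congr' fun h => ?_
  rw [isSMulRegular_quotient_iff_mem_of_smul_mem]
  simp only [smul_eq_mul, Ideal.mul_top]

lemma isWeaklyRegular_localization_iff (S : Submonoid R) (Rₛ : Type*) [CommRing Rₛ] [Algebra R Rₛ]
    [IsLocalization S Rₛ] (rs : List R) :
    IsWeaklyRegular Rₛ (rs.map (algebraMap R Rₛ)) ↔
      ∀ i (h : i < rs.length), ∀ m : R, rs[i] * m ∈ Ideal.ofList (rs.take i) →
        ∃ s ∈ S, s * m ∈ Ideal.ofList (rs.take i) := by
  rw [isWeaklyRegular_self_iff]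
  have key : ∀ (J : Ideal R) (m : R), algebraMap R Rₛ m ∈ J.map (algebraMap R Rₛ) ↔ ∃ s ∈ S, s * m ∈ J := by
    intro J m
    rw [IsLocalization.algebraMap_mem_map_algebraMap_iff S]
  constructor
  · intro H i h m hm
    rw [← key]
    have h1 := H i (by simpa using h) (algebraMap R Rₛ m) (by
      rw [List.getElem_map, ← map_mul, ← List.map_take, ← Ideal.map_ofList]
      exact Ideal.mem_map_of_mem _ hm)
    rwa [← List.map_take, ← Ideal.map_ofList] at h1
  · intro H i h z hz
    rw [List.length_map] at h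
    rw [← List.map_take, ← Ideal.map_ofList] at hz ⊢
    rw [List.getElem_map] at hz
    obtain ⟨m, t, rfl⟩ := IsLocalization.exists_mk'_eq S z
    have ht := IsLocalization.map_units Rₛ t
    have h1 : algebraMap R Rₛ (rs[i] * m) ∈ (Ideal.ofList (rs.take i)).map (algebraMap R Rₛ) := by
      have : algebraMap R Rₛ (rs[i] * m) =
          algebraMap R Rₛ t * (algebraMap R Rₛ rs[i] * IsLocalization.mk' Rₛ m t) := by
        rw [map_mul, ← IsLocalization.mk'_spec Rₛ m t]
        ring
      rw [this]
      exact Ideal.mul_mem_left _ _ hz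
    rw [key] at h1
    obtain ⟨u, hu, h1⟩ := h1
    obtain ⟨s, hs, h2⟩ := H i h (u * m) (by
      have : rs[i] * (u * m) = u * (rs[i] * m) := by ring
      rwa [this])
    rw [IsLocalization.mk'_mem_map_algebraMap_iff]
    exact ⟨s * u, S.mul_mem hs hu, by rwa [mul_assoc]⟩

/-- Spreading out of weak regularity. -/
theorem exists_away [IsNoetherianRing R] (p : Ideal R) [p.IsPrime] (rs : List R)
    (hrs : IsWeaklyRegular (Localization.AtPrime p) (rs.map (algebraMap R (Localization.AtPrime p)))) :
    ∃ g, g ∉ p ∧ ∀ g', g ∣ g' → IsWeaklyRegular (Localization.Away g')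
      (rs.map (algebraMap R (Localization.Away g'))) := by
  classical
  rw [isWeaklyRegular_localization_iff p.primeCompl] at hrs
  have key : ∀ i : Fin rs.length, ∃ g, g ∉ p ∧ ∀ m : R, rs[i] * m ∈ Ideal.ofList (rs.take i) →
      g * m ∈ Ideal.ofList (rs.take i) := by
    intro i
    let N : Ideal R := Submodule.comap (LinearMap.mulLeft R rs[i]) (Ideal.ofList (rs.take i))
    have hN : ∀ m, m ∈ N ↔ rs[i] * m ∈ Ideal.ofList (rs.take i) := fun m => Iff.rfl
    obtain ⟨t, ht⟩ : N.FG := IsNoetherian.noetherian N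
    have hmem : ∀ a ∈ t, a ∈ N := fun a ha => ht ▸ Ideal.subset_span ha
    have h5 : ∀ a : t, ∃ s, s ∉ p ∧ s * (a : R) ∈ Ideal.ofList (rs.take i) := by
      intro a
      obtain ⟨s, hs, hs'⟩ := hrs i i.2 a ((hN _).mp (hmem a a.2))
      exact ⟨s, hs, hs'⟩
    choose f hf1 hf2 using h5
    refine ⟨∏ a : t, f a, ?_, ?_⟩
    · rw [Ideal.IsPrime.prod_mem_iff]
      rintro ⟨a, -, ha⟩
      exact hf1 _ ha
    · intro m hm
      rw [← hN, ← ht] at hm
      induction hm using Submodule.span_induction with
      | mem z hz =>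
        rw [← Finset.prod_erase_mul _ _ (Finset.mem_univ (⟨z, hz⟩ : t)), mul_assoc]
        exact Ideal.mul_mem_left _ _ (hf2 ⟨z, hz⟩)
      | zero => simp
      | add _ _ _ _ h h' => rw [mul_add]; exact Ideal.add_mem _ h h'
      | smul c z _ h => rw [smul_eq_mul, mul_left_comm]; exact Ideal.mul_mem_left _ _ h
  choose g hg1 hg2 using key
  refine ⟨∏ i, g i, ?_, ?_⟩
  · rw [Ideal.IsPrime.prod_mem_iff]
    rintro ⟨a, -, ha⟩
    exact hg1 _ ha
  · intro g' hg'
    rw [isWeaklyRegular_localization_iff (Submonoid.powers g')]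
    intro i hi m hm
    refine ⟨g', Submonoid.mem_powers g', ?_⟩
    obtain ⟨c, hc⟩ := (Finset.dvd_prod_of_mem g (Finset.mem_univ (⟨i, hi⟩ : Fin rs.length))).trans hg'
    rw [hc, mul_comm (g _), mul_assoc]
    exact Ideal.mul_mem_left _ _ (hg2 ⟨i, hi⟩ m hm)

/-- Two lists whose entries are pairwise associated are simultaneously weakly regular. -/
lemma isWeaklyRegular_of_forall₂_associated {M : Type*} [AddCommGroup M] [Module R M] {rs ss : List R}
    (h : List.Forall₂ Associated rs ss) (hrs : IsWeaklyRegular M rs) : IsWeaklyRegular M ss := by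
  induction h generalizing M with
  | nil => exact IsWeaklyRegular.nil R M
  | @cons r s rs ss hr h ih =>
    rw [isWeaklyRegular_cons_iff] at hrs ⊢
    obtain ⟨u, rfl⟩ := hr
    refine ⟨?_, ?_⟩
    · rw [mul_comm]
      exact (u.isUnit.isSMulRegular M).mul hrs.1
    · have h1 : (r * (u : R)) • (⊤ : Submodule R M) = r • (⊤ : Submodule R M) := by
        rw [← Submodule.ideal_span_singleton_smul, ← Submodule.ideal_span_singleton_smul]
        congr 1
        exact Ideal.span_singleton_mul_right_unit u.isUnit r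
      exact ((Submodule.quotEquivOfEq _ _ h1).isWeaklyRegular_congr ss).mpr (ih hrs.2)

lemma ofList_eq_of_forall₂_associated {rs ss : List R} (h : List.Forall₂ Associated rs ss) :
    Ideal.ofList rs = Ideal.ofList ss := by
  induction h with
  | nil => rfl
  | @cons r s rs ss hr h ih =>
    rw [Ideal.ofList_cons, Ideal.ofList_cons, ih]
    obtain ⟨u, rfl⟩ := hr
    rw [Ideal.span_singleton_mul_right_unit u.isUnit r]

/-- Every list of elements of `S⁻¹R` is, up to units, the image of a list of elements of `R`. -/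
lemma exists_lift_associated (S : Submonoid R) (Rₛ : Type*) [CommRing Rₛ] [Algebra R Rₛ]
    [IsLocalization S Rₛ] (rs : List Rₛ) :
    ∃ ss : List R, List.Forall₂ Associated rs (ss.map (algebraMap R Rₛ)) := by
  induction rs with
  | nil => exact ⟨[], List.Forall₂.nil⟩
  | cons r rs ih =>
    obtain ⟨ss, hss⟩ := ih
    obtain ⟨m, t, rfl⟩ := IsLocalization.exists_mk'_eq S r
    refine ⟨m :: ss, List.Forall₂.cons ?_ hss⟩
    refine ⟨(IsLocalization.map_units Rₛ t).unit, ?_⟩
    exact IsLocalization.mk'_spec Rₛ m t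

/-- Spreading out an inclusion of ideals. -/
theorem exists_away_map_le (p : Ideal R) [p.IsPrime] (A B : Ideal R) (hA : A.FG)
    (h : A.map (algebraMap R (Localization.AtPrime p)) ≤ B.map (algebraMap R (Localization.AtPrime p))) :
    ∃ g, g ∉ p ∧ ∀ g', g ∣ g' →
      A.map (algebraMap R (Localization.Away g')) ≤ B.map (algebraMap R (Localization.Away g')) := by
  classical
  obtain ⟨t, ht⟩ := hA
  have hmem : ∀ a ∈ t, a ∈ A := fun a ha => ht ▸ Ideal.subset_span ha
  have h5 : ∀ a : t, ∃ s, s ∉ p ∧ s * (a : R) ∈ B := by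
    intro a
    obtain ⟨s, hs, hs'⟩ := (IsLocalization.algebraMap_mem_map_algebraMap_iff p.primeCompl
      (Localization.AtPrime p) B a).mp (h (Ideal.mem_map_of_mem _ (hmem a a.2)))
    exact ⟨s, hs, hs'⟩
  choose f hf1 hf2 using h5
  refine ⟨∏ a : t, f a, ?_, ?_⟩
  · rw [Ideal.IsPrime.prod_mem_iff]
    rintro ⟨a, -, ha⟩
    exact hf1 _ ha
  · intro g' hg'
    rw [Ideal.map_le_iff_le_comap, ← ht, Ideal.span_le]
    intro z hz
    rw [SetLike.mem_coe, Ideal.mem_comap]
    rw [IsLocalization.algebraMap_mem_map_algebraMap_iff (Submonoid.powers g')]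
    refine ⟨g', Submonoid.mem_powers g', ?_⟩
    obtain ⟨c, hc⟩ := (Finset.dvd_prod_of_mem f (Finset.mem_univ (⟨z, hz⟩ : t))).trans hg'
    rw [hc, mul_comm (f _), mul_assoc]
    exact Ideal.mul_mem_left _ _ (hf2 ⟨z, hz⟩)

end Groth.Agent.Models.RegSpread
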