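import Groth.Agent.Models.FibreSeq
import Groth.Agent.Models.RegSpread

/-!
# Descending regular sequences in fibres of affine spaces to a Noetherian base
-/

set_option autoImplicit false
universe u

open IsLocalRing RingTheory.Sequence MvPolynomial

namespace Groth.Agent.Models.FibreDesc

attribute [local instance] MvPolynomial.algebraMvPolynomial

theorem flat_mvPolynomial (κ₀ κ : Type u) [Field κ₀] [Field κ] [Algebra κ₀ κ] (n : ℕ) :
    Module.Flat (MvPolynomial (Fin n) κ₀) (MvPolynomial (Fin n) κ) :=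
  Module.Flat.isBaseChange κ₀ (MvPolynomial (Fin n) κ₀) κ (MvPolynomial (Fin n) κ)
    (Algebra.IsPushout.out (R := κ₀) (S := MvPolynomial (Fin n) κ₀) (R' := κ)
      (S' := MvPolynomial (Fin n) κ))

variable {A₀ A : Type u} [CommRing A₀] [CommRing A] [Algebra A₀ A] {n : ℕ}
  (𝔭 : Ideal (MvPolynomial (Fin n) A)) [𝔭.IsPrime]
  (𝔮 : Ideal (MvPolynomial (Fin n) (𝔭.under A).ResidueField)) [𝔮.IsPrime]
  (h𝔮 : 𝔮.comap (algebraMap (MvPolynomial (Fin n) A) _) = 𝔭)

include h𝔮

/-- Weak regularity in the fibre over `A` gives weak regularity in the fibre over `A₀`. -/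
theorem isWeaklyRegular_fibre (rs : List (MvPolynomial (Fin n) A₀))
    (h : IsWeaklyRegular (Localization.AtPrime 𝔮) ((rs.map (algebraMap _ (MvPolynomial (Fin n) A))).map
      (algebraMap _ (Localization.AtPrime 𝔮)))) :
    IsWeaklyRegular (Localization.AtPrime (𝔭.under (MvPolynomial (Fin n) A₀)) ⧸
      ((𝔭.under (MvPolynomial (Fin n) A₀)).under A₀).map
        (algebraMap A₀ (Localization.AtPrime (𝔭.under (MvPolynomial (Fin n) A₀))))) rs := by
  let P₀ := MvPolynomial (Fin n) A₀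
  let P := MvPolynomial (Fin n) A
  let 𝔭₀ := 𝔭.under P₀
  let p₀ := 𝔭₀.under A₀
  let p := 𝔭.under A
  have hp : p₀ = p.comap (algebraMap A₀ A) := by
    change ((𝔭.comap (algebraMap P₀ P)).comap (algebraMap A₀ P₀)) =
      (𝔭.comap (algebraMap A P)).comap (algebraMap A₀ A)
    rw [Ideal.comap_comap, Ideal.comap_comap, ← IsScalarTower.algebraMap_eq,
      ← IsScalarTower.algebraMap_eq]
  let κ₀ := p₀.ResidueField
  let κ := p.ResidueField
  letI : Algebra κ₀ κ := (Ideal.ResidueField.map p₀ p (algebraMap A₀ A) hp).toAlgebra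
  have hκ : ∀ a, algebraMap κ₀ κ (algebraMap A₀ κ₀ a) = algebraMap A κ (algebraMap A₀ A a) :=
    fun a => Ideal.ResidueField.map_algebraMap p₀ p (algebraMap A₀ A) hp a
  let Pκ₀ := MvPolynomial (Fin n) κ₀
  let Pκ := MvPolynomial (Fin n) κ
  have hcomm : ∀ x : P₀, algebraMap Pκ₀ Pκ (algebraMap P₀ Pκ₀ x) =
      algebraMap P Pκ (algebraMap P₀ P x) := by
    intro x
    change MvPolynomial.map (algebraMap κ₀ κ) (MvPolynomial.map (algebraMap A₀ κ₀) x) =
      MvPolynomial.map (algebraMap A κ) (MvPolynomial.map (algebraMap A₀ A) x)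
    have hκ' : (algebraMap κ₀ κ).comp (algebraMap A₀ κ₀) = (algebraMap A κ).comp (algebraMap A₀ A) :=
      RingHom.ext hκ
    rw [MvPolynomial.map_map, MvPolynomial.map_map, hκ']
  let 𝔮₀ : Ideal Pκ₀ := 𝔮.comap (algebraMap Pκ₀ Pκ)
  have h𝔮₀ : 𝔮₀.comap (algebraMap P₀ Pκ₀) = 𝔭₀ := by
    ext x
    change algebraMap Pκ₀ Pκ (algebraMap P₀ Pκ₀ x) ∈ 𝔮 ↔ algebraMap P₀ P x ∈ 𝔭
    rw [hcomm, FibreRing.mem_iff 𝔮 h𝔮]
  have hfl : Module.Flat Pκ₀ Pκ := flat_mvPolynomial κ₀ κ n
  let F₀ := Localization.AtPrime 𝔮₀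
  let F := Localization.AtPrime 𝔮
  have hlo : 𝔮.LiesOver 𝔮₀ := ⟨rfl⟩
  letI : Algebra F₀ F := Localization.AtPrime.algebraOfLiesOver 𝔮₀ 𝔮
  have hF : ∀ x : Pκ₀, algebraMap F₀ F (algebraMap Pκ₀ F₀ x) = algebraMap Pκ F (algebraMap Pκ₀ Pκ x) :=
    fun x => Localization.localRingHom_to_map 𝔮₀ 𝔮 (algebraMap Pκ₀ Pκ) rfl x
  have hFfl : Module.Flat F₀ F := inferInstance
  have hFloc : IsLocalHom (algebraMap F₀ F) :=
    Localization.isLocalHom_localRingHom 𝔮₀ 𝔮 (algebraMap Pκ₀ Pκ) rfl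
  have hFff : Module.FaithfullyFlat F₀ F := Module.FaithfullyFlat.of_flat_of_isLocalHom
  have h1 : IsWeaklyRegular F₀ (rs.map (algebraMap P₀ F₀)) := by
    refine Ega4dB.RegDescent.isWeaklyRegular_of_map_of_faithfullyFlat F _ ?_
    have : (rs.map (algebraMap P₀ F₀)).map (algebraMap F₀ F) =
        ((rs.map (algebraMap P₀ P)).map (algebraMap P F)) := by
      rw [List.map_map, List.map_map]
      refine List.map_congr_left fun x _ => ?_
      simp only [Function.comp_apply]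
      rw [IsScalarTower.algebraMap_apply P₀ Pκ₀ F₀, hF, hcomm, ← IsScalarTower.algebraMap_apply]
    rw [this]
    exact h
  rw [isWeaklyRegular_map_algebraMap_iff] at h1
  obtain ⟨e⟩ := FibreRing.exists_algEquiv 𝔮₀ h𝔮₀
  exact (LinearEquiv.isWeaklyRegular_congr e.toLinearEquiv rs).2 h1

/-- Weak regularity in the local ring over the Noetherian base. -/
theorem isWeaklyRegular_localization [IsNoetherianRing A₀] (rs : List (MvPolynomial (Fin n) A₀))
    (hrs : ∀ r ∈ rs, algebraMap _ (MvPolynomial (Fin n) A) r ∈ 𝔭)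
    (h : IsWeaklyRegular (Localization.AtPrime 𝔮) ((rs.map (algebraMap _ (MvPolynomial (Fin n) A))).map
      (algebraMap _ (Localization.AtPrime 𝔮)))) :
    IsWeaklyRegular (Localization.AtPrime (𝔭.under (MvPolynomial (Fin n) A₀)))
      (rs.map (algebraMap _ (Localization.AtPrime (𝔭.under (MvPolynomial (Fin n) A₀))))) := by
  let P₀ := MvPolynomial (Fin n) A₀
  let 𝔭₀ := 𝔭.under P₀
  let p₀ := 𝔭₀.under A₀
  let R := Localization.AtPrime p₀
  let S := Localization.AtPrime 𝔭₀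
  have hlo : 𝔭₀.LiesOver p₀ := ⟨rfl⟩
  letI : Algebra R S := Localization.AtPrime.algebraOfLiesOver p₀ 𝔭₀
  have hloc : IsLocalHom (algebraMap R S) :=
    Localization.isLocalHom_localRingHom p₀ 𝔭₀ (algebraMap A₀ P₀) rfl
  have hfl : Module.Flat R S := inferInstance
  have hN : IsNoetherianRing R := IsLocalization.isNoetherianRing p₀.primeCompl R inferInstance
  have hNS : IsNoetherianRing S := IsLocalization.isNoetherianRing 𝔭₀.primeCompl S inferInstance
  have h1 := isWeaklyRegular_fibre 𝔭 𝔮 h𝔮 rs h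
  have hJ : (maximalIdeal R).map (algebraMap R S) = p₀.map (algebraMap A₀ S) := by
    rw [← Localization.AtPrime.map_eq_maximalIdeal, Ideal.map_map,
      ← IsScalarTower.algebraMap_eq A₀ R S]
  refine (Sga4B.FibreReg.isWeaklyRegular_and_flat R _ S (rs.map (algebraMap P₀ S)) rfl ?_ ?_).1
  · intro r hr
    obtain ⟨x, hx, rfl⟩ := List.mem_map.1 hr
    exact (IsLocalization.AtPrime.to_map_mem_maximal_iff S 𝔭₀ _).2 (hrs x hx)
  · rw [hJ, isWeaklyRegular_map_algebraMap_iff]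
    exact h1

end Groth.Agent.Models.FibreDesc
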