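import Mathlib.RingTheory.TensorProduct.MvPolynomial
import Mathlib.RingTheory.LocalRing.ResidueField.Ideal
import Mathlib.RingTheory.RegularLocalRing.Polynomial
import Mathlib.RingTheory.Regular.RegularSequence
import Mathlib.RingTheory.Flat.Localization

/-!
# The local rings of the fibres of affine space

`P = A[x₁, …, xₙ]`, `𝔭` a prime of `P` over `p`, `𝔮` a prime of `κ(p)[x₁, …, xₙ]` over `𝔭`,
`F = κ(p)[x₁, …, xₙ]_𝔮`: the elements of `F` are fractions `a/s`, `a ∈ P`, `s ∈ P ∖ 𝔭` and the kernel of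
`P → F` is `pP`.
-/

set_option autoImplicit false
universe u

open MvPolynomial

namespace Groth.Agent.Models.FibreRing

attribute [local instance] MvPolynomial.algebraMvPolynomial

section

variable {A : Type u} [CommRing A] {n : ℕ}

/-- Clearing denominators in `κ(p)[x]`. -/
theorem exists_mul_eq (p : Ideal A) [p.IsPrime] (c : MvPolynomial (Fin n) p.ResidueField) :
    ∃ (u : A) (a : MvPolynomial (Fin n) A), u ∉ p ∧
      algebraMap A (MvPolynomial (Fin n) p.ResidueField) u * c =
        algebraMap (MvPolynomial (Fin n) A) (MvPolynomial (Fin n) p.ResidueField) a := by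
  induction c using MvPolynomial.induction_on with
  | C x =>
    obtain ⟨a, s, hs, h⟩ := IsFractionRing.div_surjective (A := A ⧸ p) x
    obtain ⟨a, rfl⟩ := Ideal.Quotient.mk_surjective a
    obtain ⟨s, rfl⟩ := Ideal.Quotient.mk_surjective s
    have hs' : s ∉ p := by
      intro hsp
      rw [Ideal.Quotient.eq_zero_iff_mem.2 hsp] at hs
      exact zero_notMem_nonZeroDivisors hs
    refine ⟨s, C a, hs', ?_⟩
    have hne : algebraMap (A ⧸ p) p.ResidueField (Ideal.Quotient.mk p s) ≠ 0 := by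
      rw [Ideal.algebraMap_quotient_residueField_mk, Ne, Ideal.algebraMap_residueField_eq_zero]
      exact hs'
    have h1 : algebraMap A p.ResidueField s * x = algebraMap A p.ResidueField a := by
      rw [← h, ← Ideal.algebraMap_quotient_residueField_mk, ← Ideal.algebraMap_quotient_residueField_mk]
      field_simp
    rw [IsScalarTower.algebraMap_apply A p.ResidueField (MvPolynomial (Fin n) p.ResidueField),
      MvPolynomial.algebraMap_eq, ← C_mul, h1]
    change _ = MvPolynomial.map _ (C a)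
    rw [MvPolynomial.map_C]
  | add c d hc hd =>
    obtain ⟨u, a, hu, h1⟩ := hc
    obtain ⟨v, b, hv, h2⟩ := hd
    refine ⟨u * v, C v * a + C u * b, fun h => ?_, ?_⟩
    · exact (Ideal.IsPrime.mem_or_mem ‹_› h).elim hu hv
    · rw [map_add, map_mul, map_mul, map_mul, ← h1, ← h2]
      have hC : ∀ w : A, algebraMap (MvPolynomial (Fin n) A) (MvPolynomial (Fin n) p.ResidueField) (C w) =
          algebraMap A (MvPolynomial (Fin n) p.ResidueField) w := fun w => by
        rw [IsScalarTower.algebraMap_apply A (MvPolynomial (Fin n) A)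
          (MvPolynomial (Fin n) p.ResidueField)]
        rfl
      rw [hC, hC]
      ring
  | mul_X c i hc =>
    obtain ⟨u, a, hu, h1⟩ := hc
    refine ⟨u, a * X i, hu, ?_⟩
    rw [map_mul, ← h1, mul_assoc]
    congr 2
    change X i = MvPolynomial.map _ (X i)
    rw [MvPolynomial.map_X]

theorem ker_eq (p : Ideal A) [p.IsPrime] :
    RingHom.ker (algebraMap (MvPolynomial (Fin n) A) (MvPolynomial (Fin n) p.ResidueField)) =
      p.map (algebraMap A (MvPolynomial (Fin n) A)) := by
  ext x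
  rw [RingHom.mem_ker, MvPolynomial.algebraMap_eq, MvPolynomial.mem_map_C_iff]
  change MvPolynomial.map _ x = 0 ↔ _
  constructor
  · intro h m
    have := congrArg (MvPolynomial.coeff m) h
    rw [MvPolynomial.coeff_map, MvPolynomial.coeff_zero, Ideal.algebraMap_residueField_eq_zero] at this
    exact this
  · intro h
    ext m
    rw [MvPolynomial.coeff_map, MvPolynomial.coeff_zero, Ideal.algebraMap_residueField_eq_zero]
    exact h m

variable (𝔭 : Ideal (MvPolynomial (Fin n) A)) [𝔭.IsPrime]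

theorem exists_prime : ∃ 𝔮 : Ideal (MvPolynomial (Fin n) (𝔭.under A).ResidueField), 𝔮.IsPrime ∧
    𝔮.comap (algebraMap (MvPolynomial (Fin n) A) _) = 𝔭 := by
  let p := 𝔭.under A
  let κ := p.ResidueField
  let k := 𝔭.ResidueField
  let P := MvPolynomial (Fin n) A
  let Pκ := MvPolynomial (Fin n) κ
  let κk : κ →+* k := Ideal.ResidueField.map p 𝔭 (algebraMap A P) rfl
  have hκk : ∀ a : A, κk (algebraMap A κ a) = algebraMap P k (algebraMap A P a) := fun a =>
    Ideal.ResidueField.map_algebraMap p 𝔭 (algebraMap A P) rfl a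
  let χ : Pκ →+* k := MvPolynomial.eval₂Hom κk (fun i => algebraMap P k (X i))
  have hχ : χ.comp (algebraMap P Pκ) = algebraMap P k := by
    refine MvPolynomial.ringHom_ext ?_ ?_
    · intro a
      simp only [RingHom.comp_apply]
      change χ (MvPolynomial.map (algebraMap A κ) (C a)) = algebraMap P k (C a)
      rw [MvPolynomial.map_C]
      change MvPolynomial.eval₂ _ _ (C _) = _
      rw [MvPolynomial.eval₂_C, hκk]
      rfl
    · intro i
      simp only [RingHom.comp_apply]
      change χ (MvPolynomial.map (algebraMap A κ) (X i)) = algebraMap P k (X i)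
      rw [MvPolynomial.map_X]
      change MvPolynomial.eval₂ _ _ (X _) = _
      rw [MvPolynomial.eval₂_X]
  refine ⟨RingHom.ker χ, RingHom.ker_isPrime χ, ?_⟩
  rw [RingHom.ker_eq_comap_bot, Ideal.comap_comap, hχ, ← RingHom.ker_eq_comap_bot,
    Ideal.ker_algebraMap_residueField]

variable {𝔭} (𝔮 : Ideal (MvPolynomial (Fin n) (𝔭.under A).ResidueField)) [𝔮.IsPrime]
  (h𝔮 : 𝔮.comap (algebraMap (MvPolynomial (Fin n) A) _) = 𝔭)

include h𝔮

omit [𝔮.IsPrime] in
theorem mem_iff (s : MvPolynomial (Fin n) A) :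
    algebraMap (MvPolynomial (Fin n) A) (MvPolynomial (Fin n) (𝔭.under A).ResidueField) s ∈ 𝔮 ↔
      s ∈ 𝔭 := by
  conv_rhs => rw [← h𝔮]
  rfl

theorem isUnit_of_notMem (s : MvPolynomial (Fin n) A) (hs : s ∉ 𝔭) :
    IsUnit (algebraMap (MvPolynomial (Fin n) A) (Localization.AtPrime 𝔮) s) := by
  rw [IsScalarTower.algebraMap_apply (MvPolynomial (Fin n) A)
    (MvPolynomial (Fin n) (𝔭.under A).ResidueField)]
  refine IsLocalization.map_units (M := 𝔮.primeCompl) (Localization.AtPrime 𝔮) ⟨_, ?_⟩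
  rw [Ideal.mem_primeCompl_iff, mem_iff 𝔮 h𝔮]
  exact hs

theorem exists_frac (c : Localization.AtPrime 𝔮) : ∃ a s : MvPolynomial (Fin n) A, s ∉ 𝔭 ∧
    c * algebraMap _ (Localization.AtPrime 𝔮) s = algebraMap _ (Localization.AtPrime 𝔮) a := by
  obtain ⟨b, t, rfl⟩ := IsLocalization.exists_mk'_eq 𝔮.primeCompl c
  obtain ⟨u, a, hu, h1⟩ := exists_mul_eq (𝔭.under A) b
  obtain ⟨v, s, hv, h2⟩ := exists_mul_eq (𝔭.under A) (t : MvPolynomial (Fin n) (𝔭.under A).ResidueField)
  have huv : ∀ w : A, w ∉ 𝔭.under A → algebraMap A (MvPolynomial (Fin n) A) w ∉ 𝔭 := fun w hw => hw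
  have hs : s ∉ 𝔭 := by
    rw [← mem_iff 𝔮 h𝔮, ← h2]
    intro h
    rcases Ideal.IsPrime.mem_or_mem ‹_› h with h | h
    · rw [IsScalarTower.algebraMap_apply A (MvPolynomial (Fin n) A), mem_iff 𝔮 h𝔮] at h
      exact huv v hv h
    · exact t.2 h
  refine ⟨algebraMap A _ v * a, algebraMap A _ u * s, fun h => ?_, ?_⟩
  · exact (Ideal.IsPrime.mem_or_mem ‹_› h).elim (huv u hu) hs
  · rw [map_mul, map_mul, IsScalarTower.algebraMap_apply (MvPolynomial (Fin n) A)
        (MvPolynomial (Fin n) (𝔭.under A).ResidueField) (Localization.AtPrime 𝔮) s,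
      IsScalarTower.algebraMap_apply (MvPolynomial (Fin n) A)
        (MvPolynomial (Fin n) (𝔭.under A).ResidueField) (Localization.AtPrime 𝔮) a, ← h1, ← h2,
      map_mul, map_mul, ← IsScalarTower.algebraMap_apply, ← IsScalarTower.algebraMap_apply,
      ← IsScalarTower.algebraMap_apply, ← IsScalarTower.algebraMap_apply]
    have h3 := IsLocalization.mk'_spec (Localization.AtPrime 𝔮) b t
    rw [← h3]
    ring

theorem ker_eq' : RingHom.ker (algebraMap (MvPolynomial (Fin n) A) (Localization.AtPrime 𝔮)) =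
    (𝔭.under A).map (algebraMap A (MvPolynomial (Fin n) A)) := by
  rw [← ker_eq]
  ext x
  rw [RingHom.mem_ker, RingHom.mem_ker, IsScalarTower.algebraMap_apply (MvPolynomial (Fin n) A)
    (MvPolynomial (Fin n) (𝔭.under A).ResidueField), IsLocalization.to_map_eq_zero_iff
      (M := 𝔮.primeCompl) _ 𝔮.primeCompl_le_nonZeroDivisors]

/-- `P_𝔭 / pP_𝔭 ≃ κ(p)[x]_𝔮`. -/
theorem exists_algEquiv : Nonempty ((Localization.AtPrime 𝔭 ⧸
    (𝔭.under A).map (algebraMap A (Localization.AtPrime 𝔭))) ≃ₐ[MvPolynomial (Fin n) A]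
      Localization.AtPrime 𝔮) := by
  let P := MvPolynomial (Fin n) A
  let F := Localization.AtPrime 𝔮
  let ψ : Localization.AtPrime 𝔭 →ₐ[P] F :=
    IsLocalization.liftAlgHom (M := 𝔭.primeCompl) (f := Algebra.ofId P F)
      (fun s => isUnit_of_notMem 𝔮 h𝔮 s s.2)
  have hψs : Function.Surjective ψ := by
    intro c
    obtain ⟨a, s, hs, h⟩ := exists_frac 𝔮 h𝔮 c
    refine ⟨IsLocalization.mk' _ a (⟨s, hs⟩ : 𝔭.primeCompl), ?_⟩
    rw [← (isUnit_of_notMem 𝔮 h𝔮 s hs).mul_left_inj, h, ← AlgHom.commutes ψ s,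
      ← map_mul, IsLocalization.mk'_spec, AlgHom.commutes]
  have hker : (𝔭.under A).map (algebraMap A (Localization.AtPrime 𝔭)) = RingHom.ker ψ := by
    rw [IsScalarTower.algebraMap_eq A P (Localization.AtPrime 𝔭), ← Ideal.map_map, ← ker_eq' 𝔮 h𝔮]
    ext x
    obtain ⟨a, s, rfl⟩ := IsLocalization.exists_mk'_eq 𝔭.primeCompl x
    rw [IsLocalization.mk'_mem_map_algebraMap_iff, RingHom.mem_ker]
    have h1 : ψ (IsLocalization.mk' (Localization.AtPrime 𝔭) a s) * algebraMap P F s =
        algebraMap P F a := by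
      rw [← AlgHom.commutes ψ (s : P), ← map_mul, IsLocalization.mk'_spec, AlgHom.commutes]
    constructor
    · rintro ⟨t, ht, h⟩
      rw [RingHom.mem_ker, map_mul] at h
      have h2 := (isUnit_of_notMem 𝔮 h𝔮 t ht).mul_right_eq_zero.1 h
      rw [h2] at h1
      exact (isUnit_of_notMem 𝔮 h𝔮 s s.2).mul_left_eq_zero.1 h1
    · intro h
      rw [h, zero_mul] at h1
      exact ⟨1, 𝔭.primeCompl.one_mem, by rw [one_mul, RingHom.mem_ker, ← h1]⟩
  exact ⟨(Ideal.quotientEquivAlgOfEq P hker).trans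
    (Ideal.quotientKerAlgEquivOfSurjective hψs)⟩

end

end Groth.Agent.Models.FibreRing
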