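import Groth.Agent.Models.Vasconcelos
import Groth.Agent.Models.RegSeqMin
import Groth.Agent.Models.GoodFact
import Groth.Agent.Models.CIKer
import Groth.Agent.Models.FibreRing
import Groth.Agent.Sga4B.FibreReg
import Groth.Agent.Ega4dB.RegDescent
import Groth.Agent.S0563

/-!
# Quasi-free generators of ideals in regular local rings are regular sequences
-/

set_option autoImplicit false
universe u

open IsLocalRing RingTheory.Sequence CategoryTheory

namespace Groth.Agent.Models.FibreSeq

theorem ofList_ofFn {R : Type*} [CommRing R] {c : ℕ} (f : Fin c → R) :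
    Ideal.ofList (List.ofFn f) = Ideal.span (Set.range f) := by
  rw [Ideal.ofList]
  congr 1
  ext x
  simp [List.mem_ofFn']

/-- In a regular local ring, generators `fᵢ` of a proper ideal `J` all whose relations have coefficients
in `J` form a regular sequence. -/
theorem isRegular_of_relations {F : Type u} [CommRing F] [IsRegularLocalRing F] (J : Ideal F)
    (hJ : J ≠ ⊤) {c : ℕ} (f : Fin c → F) (hf : Ideal.span (Set.range f) = J)
    (hind : ∀ a : Fin c → F, ∑ i, a i * f i = 0 → ∀ i, a i ∈ J) :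
    IsRegular F (List.ofFn f) := by
  have hfJ : ∀ i, f i ∈ J := fun i => hf ▸ Ideal.subset_span ⟨i, rfl⟩
  let f' : Fin c → J := fun i => ⟨f i, hfJ i⟩
  let π : (Fin c → F) →ₗ[F] J := (Pi.basisFun F (Fin c)).constr F f'
  have hπ : ∀ a, (π a : F) = ∑ i, a i * f i := by
    intro a
    simp only [π, Module.Basis.constr_apply_fintype, Pi.basisFun_equivFun, LinearEquiv.refl_apply,
      AddSubmonoidClass.coe_finset_sum, Submodule.coe_smul, smul_eq_mul, f']
  have hπs : Function.Surjective π := by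
    rintro ⟨x, hx⟩
    have hx' := hx
    rw [← hf, Ideal.mem_span_range_iff_exists_fun] at hx'
    obtain ⟨a, ha⟩ := hx'
    exact ⟨a, Subtype.ext ((hπ a).trans ha)⟩
  let μ : (Fin c → F) →ₗ[F] (Fin c → F ⧸ J) := (Algebra.linearMap F (F ⧸ J)).compLeft (Fin c)
  have hμ : LinearMap.ker π ≤ LinearMap.ker μ := by
    intro a ha
    rw [LinearMap.mem_ker] at ha ⊢
    have h1 := hπ a
    rw [ha] at h1
    funext i
    exact Ideal.Quotient.eq_zero_iff_mem.2 (hind a h1.symm i)
  let ψ : J →ₗ[F] (Fin c → F ⧸ J) :=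
    ((LinearMap.ker π).liftQ μ hμ).comp (π.quotKerEquivOfSurjective hπs).symm.toLinearMap
  have hψ : ∀ a, ψ (π a) = μ a := by
    intro a
    have : (π.quotKerEquivOfSurjective hπs).symm (π a) = Submodule.Quotient.mk a := by
      rw [LinearEquiv.symm_apply_eq]
      rfl
    simp only [ψ, LinearMap.comp_apply, LinearEquiv.coe_coe, this]
    rfl
  have hψf : ∀ j, ψ (f' j) = Pi.single j 1 := by
    intro j
    have : f' j = π (Pi.single j 1) := by
      have h1 := (Pi.basisFun F (Fin c)).constr_basis F f' j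
      rw [Pi.basisFun_apply] at h1
      exact h1.symm
    rw [this, hψ]
    funext i
    by_cases hij : i = j
    · subst hij
      change algebraMap F (F ⧸ J) (Pi.single (M := fun _ => F) i 1 i) = _
      rw [Pi.single_eq_same, Pi.single_eq_same, map_one]
    · change algebraMap F (F ⧸ J) (Pi.single (M := fun _ => F) j 1 i) = _
      rw [Pi.single_eq_of_ne hij, Pi.single_eq_of_ne hij, map_zero]
  obtain ⟨d, hd⟩ := CIKer.exists_ringKrullDim_eq F
  obtain ⟨x, hxJ, hxr, hx⟩ := Vasconcelos.exists_regularSeq c J hJ (d + 1)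
    (S0563.result F d hd J) ψ f' hψf
  have hxJ' : Ideal.span (Set.range x) = J := by
    refine le_antisymm (Ideal.span_le.2 ?_) ?_
    · rintro _ ⟨i, rfl⟩
      exact hxJ i
    · refine Submodule.le_of_le_smul_of_le_jacobson_bot (I := J) (IsNoetherian.noetherian J) ?_ ?_
      · exact (IsLocalRing.le_maximalIdeal hJ).trans (IsLocalRing.maximalIdeal_le_jacobson ⊥)
      · have h2 : (J • J : Ideal F) = J ^ 2 := by rw [smul_eq_mul, sq]
        change J ≤ Ideal.span (Set.range x) ⊔ J • J
        rw [h2, hx]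
        change J ≤ Ideal.span (Set.range f) ⊔ J ^ 2
        rw [hf]
        exact le_sup_left
  refine RegSeqMin.isRegular_of_length_le hxr ?_ ?_
  · rw [ofList_ofFn, ofList_ofFn, hxJ', hf]
  · rw [List.length_ofFn, List.length_ofFn]

section Fibre

open MvPolynomial

attribute [local instance] MvPolynomial.algebraMvPolynomial

variable {A : Type u} [CommRing A] {n : ℕ} {𝔭 : Ideal (MvPolynomial (Fin n) A)} [𝔭.IsPrime]
  (𝔮 : Ideal (MvPolynomial (Fin n) (𝔭.under A).ResidueField)) [𝔮.IsPrime]
  (h𝔮 : 𝔮.comap (algebraMap (MvPolynomial (Fin n) A) _) = 𝔭)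

include h𝔮

/-- Relations in the fibre. -/
theorem relations_fibre (I : Ideal (MvPolynomial (Fin n) A)) [Module.Flat A (MvPolynomial (Fin n) A ⧸ I)]
    {c : ℕ} (f : Fin c → MvPolynomial (Fin n) A) (hfI : ∀ i, f i ∈ I)
    (g : MvPolynomial (Fin n) A) (hg : g ∉ 𝔭) (hgI : ∀ x ∈ I, g * x ∈ Ideal.span (Set.range f))
    (hind : ∀ a : Fin c → MvPolynomial (Fin n) A, ∑ i, a i * f i = 0 →
      ∃ s, s ∉ 𝔭 ∧ ∀ i, s * a i ∈ I)
    (a : Fin c → Localization.AtPrime 𝔮)
    (ha : ∑ i, a i * algebraMap _ (Localization.AtPrime 𝔮) (f i) = 0) (i : Fin c) :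
    a i ∈ I.map (algebraMap _ (Localization.AtPrime 𝔮)) := by
  classical
  let P := MvPolynomial (Fin n) A
  let F := Localization.AtPrime 𝔮
  choose b s hs hb using fun j => FibreRing.exists_frac 𝔮 h𝔮 (a j)
  let t : P := ∏ j, s j
  have ht : t ∉ 𝔭 := by
    intro h
    obtain ⟨j, -, hj⟩ := (Ideal.IsPrime.prod_mem_iff (p := 𝔭)).1 h
    exact hs j hj
  -- numerators with a common denominator
  have h1 : ∀ j, ∃ b' : P, a j * algebraMap P F t = algebraMap P F b' := by
    intro j
    refine ⟨b j * ∏ k ∈ Finset.univ.erase j, s k, ?_⟩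
    have : t = s j * ∏ k ∈ Finset.univ.erase j, s k :=
      (Finset.mul_prod_erase Finset.univ s (Finset.mem_univ j)).symm
    rw [this, map_mul, ← mul_assoc, hb, ← map_mul]
  choose b' hb' using h1
  have h2 : algebraMap P F (∑ j, b' j * f j) = 0 := by
    rw [map_sum]
    have : ∀ j, algebraMap P F (b' j * f j) = algebraMap P F t * (a j * algebraMap P F (f j)) := by
      intro j
      rw [map_mul, ← hb']
      ring
    simp_rw [this]
    rw [← Finset.mul_sum, ha, mul_zero]
  have h3 : (∑ j, b' j * f j) ∈ (𝔭.under A).map (algebraMap A P) := by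
    rw [← FibreRing.ker_eq' 𝔮 h𝔮]
    exact h2
  have h4 : (∑ j, b' j * f j) ∈ I := Ideal.sum_mem _ fun j _ => I.mul_mem_left _ (hfI j)
  have h5 : (∑ j, b' j * f j) ∈ (𝔭.under A).map (algebraMap A P) * I := by
    have hk : RingHom.ker (Ideal.Quotient.mkₐ A I) = I := Ideal.Quotient.mkₐ_ker A I
    have := GoodFact.ker_inf_map_le (Ideal.Quotient.mkₐ A I) (Ideal.Quotient.mkₐ_surjective A I)
      (𝔭.under A)
    rw [hk] at this
    exact this ⟨h4, h3⟩
  have h6 : ∀ y ∈ (𝔭.under A).map (algebraMap A P) * I, ∃ m : Fin c → P,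
      (∀ j, m j ∈ (𝔭.under A).map (algebraMap A P)) ∧ g * y = ∑ j, m j * f j := by
    intro y hy
    induction hy using Submodule.mul_induction_on' with
    | mem_mul_mem u hu v hv =>
      obtain ⟨w, hw⟩ := Ideal.mem_span_range_iff_exists_fun.1 (hgI v hv)
      refine ⟨fun j => u * w j, fun j => Ideal.mul_mem_right _ _ hu, ?_⟩
      have : g * (u * v) = u * (g * v) := by ring
      rw [this, ← hw, Finset.mul_sum]
      exact Finset.sum_congr rfl fun j _ => (mul_assoc _ _ _).symm
    | add x _ y _ hx hy =>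
      obtain ⟨m, hm, h⟩ := hx
      obtain ⟨m', hm', h'⟩ := hy
      refine ⟨fun j => m j + m' j, fun j => Ideal.add_mem _ (hm j) (hm' j), ?_⟩
      rw [mul_add, h, h', ← Finset.sum_add_distrib]
      exact Finset.sum_congr rfl fun j _ => (add_mul _ _ _).symm
  obtain ⟨m, hm, h7⟩ := h6 _ h5
  have h8 : ∑ j, (g * b' j - m j) * f j = 0 := by
    have : ∀ j, (g * b' j - m j) * f j = g * (b' j * f j) - m j * f j := fun j => by ring
    simp_rw [this]
    rw [Finset.sum_sub_distrib, ← Finset.mul_sum, h7, sub_self]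
  obtain ⟨w, hw, h9⟩ := hind _ h8
  have h10 : algebraMap P F (w * (g * b' i - m i)) ∈ I.map (algebraMap P F) :=
    Ideal.mem_map_of_mem _ (h9 i)
  have h11 : algebraMap P F (m i) = 0 := by
    have := hm i
    rw [← FibreRing.ker_eq' 𝔮 h𝔮] at this
    exact this
  have h12 : algebraMap P F (w * (g * b' i - m i)) =
      algebraMap P F (w * g * t) * a i := by
    rw [map_mul, map_sub, h11, sub_zero, map_mul, ← hb', map_mul, map_mul]
    ring
  rw [h12] at h10
  have hu : IsUnit (algebraMap P F (w * g * t)) :=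
    FibreRing.isUnit_of_notMem 𝔮 h𝔮 _ fun h => by
      rcases Ideal.IsPrime.mem_or_mem ‹_› h with h | h
      · exact (Ideal.IsPrime.mem_or_mem ‹_› h).elim hw hg
      · exact ht h
  exact (Ideal.unit_mul_mem_iff_mem _ hu).1 h10

/-- The images of quasi-free generators in the local ring of the fibre form a regular sequence. -/
theorem isRegular_fibre (I : Ideal (MvPolynomial (Fin n) A)) (hI : I ≤ 𝔭)
    [Module.Flat A (MvPolynomial (Fin n) A ⧸ I)]
    {c : ℕ} (f : Fin c → MvPolynomial (Fin n) A) (hfI : ∀ i, f i ∈ I)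
    (g : MvPolynomial (Fin n) A) (hg : g ∉ 𝔭) (hgI : ∀ x ∈ I, g * x ∈ Ideal.span (Set.range f))
    (hind : ∀ a : Fin c → MvPolynomial (Fin n) A, ∑ i, a i * f i = 0 →
      ∃ s, s ∉ 𝔭 ∧ ∀ i, s * a i ∈ I) :
    IsRegular (Localization.AtPrime 𝔮)
      (List.ofFn fun i => algebraMap _ (Localization.AtPrime 𝔮) (f i)) := by
  have hreg : IsRegularLocalRing (Localization.AtPrime 𝔮) := inferInstance
  refine isRegular_of_relations (I.map (algebraMap _ (Localization.AtPrime 𝔮))) ?_ _ ?_
    (relations_fibre 𝔮 h𝔮 I f hfI g hg hgI hind)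
  · intro h
    have h1 : I.map (algebraMap _ (Localization.AtPrime 𝔮)) ≤
        IsLocalRing.maximalIdeal (Localization.AtPrime 𝔮) := by
      rw [Ideal.map_le_iff_le_comap]
      intro x hx
      rw [Ideal.mem_comap, IsScalarTower.algebraMap_apply (MvPolynomial (Fin n) A)
        (MvPolynomial (Fin n) (𝔭.under A).ResidueField),
        IsLocalization.AtPrime.to_map_mem_maximal_iff _ 𝔮, FibreRing.mem_iff 𝔮 h𝔮]
      exact hI hx
    rw [h, top_le_iff] at h1
    exact (IsLocalRing.maximalIdeal.isMaximal _).ne_top h1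
  · refine le_antisymm (Ideal.span_le.2 ?_) (Ideal.map_le_iff_le_comap.2 fun x hx => ?_)
    · rintro _ ⟨i, rfl⟩
      exact Ideal.mem_map_of_mem _ (hfI i)
    · rw [Ideal.mem_comap]
      have h1 : algebraMap _ (Localization.AtPrime 𝔮) (g * x) ∈ Ideal.span (Set.range fun i =>
          algebraMap _ (Localization.AtPrime 𝔮) (f i)) := by
        have := Ideal.mem_map_of_mem (algebraMap _ (Localization.AtPrime 𝔮)) (hgI x hx)
        rw [Ideal.map_span, ← Set.range_comp] at this
        exact this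
      rw [map_mul] at h1
      exact (Ideal.unit_mul_mem_iff_mem _ (FibreRing.isUnit_of_notMem 𝔮 h𝔮 g hg)).1 h1

end Fibre

end Groth.Agent.Models.FibreSeq
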