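import Mathlib.RingTheory.Regular.ProjectiveDimension
import Mathlib.RingTheory.LocalProperties.ProjectiveDimension
import Mathlib.RingTheory.LocalRing.Module

/-!
# Finite projective dimension over a Noetherian local ring

* `free_of_socle`: over a Noetherian local ring of depth zero, a finite module of finite projective dimension is free.
* `localizedIdeal_eq_bot`: an ideal of finite projective dimension contained in an associated prime `p` of the
  ring is killed by an element outside `p`.
-/

set_option autoImplicit false

universe u

open CategoryTheory IsLocalRing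

namespace Groth.Agent.Models.FinitePd

variable {R : Type u} [CommRing R]

/-- Over a Noetherian local ring with a nonzero element killed by the maximal ideal, a finite module of finite
projective dimension is free. -/
theorem free_of_socle [IsLocalRing R] [IsNoetherianRing R] {x : R} (hx : x ≠ 0)
    (hxm : ∀ y ∈ maximalIdeal R, y * x = 0) (n : ℕ) :
    ∀ (M : ModuleCat.{u} R) [Module.Finite R M] [HasProjectiveDimensionLT M n], Module.Free R M := by
  induction n with
  | zero =>
    intro M _ _
    have h := isZero_of_hasProjectiveDimensionLT_zero M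
    rw [ModuleCat.isZero_iff_subsingleton] at h
    infer_instance
  | succ n ih =>
    intro M _ hM
    obtain ⟨P, _, _, _, _, f, surjf⟩ := Module.exists_finite_presentation R M
    rcases n with _ | n
    · have hp : Projective M := by
        rwa [projective_iff_hasProjectiveDimensionLT_one]
      rw [← IsProjective.iff_projective] at hp
      exact Module.free_of_flat_of_isLocalRing
    · let S : ShortComplex (ModuleCat.{u} R) := f.shortComplexKer
      have hS : S.ShortExact := LinearMap.shortExact_shortComplexKer surjf
      have h1 : HasProjectiveDimensionLT S.X₁ (n + 1) :=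
        (hS.hasProjectiveDimensionLT_X₃_iff n (ModuleCat.projective_of_categoryTheory_projective S.X₂)).mp hM
      have hfree : Module.Free R (LinearMap.ker f) := ih S.X₁
      let g : ResidueField R →ₗ[R] R :=
        Submodule.liftQ (maximalIdeal R) (LinearMap.toSpanSingleton R R x) (fun y hy => by
          simpa using hxm y hy)
      have hg : Function.Injective g := by
        rw [← LinearMap.ker_eq_bot]
        apply Submodule.ker_liftQ_eq_bot
        intro y hy
        by_contra hym
        have hu : IsUnit y := by
          by_contra h
          exact hym h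
        have : y * x = 0 := by simpa using hy
        exact hx (by simpa using (hu.mul_right_eq_zero).mp this)
      have hinj : Function.Injective ((LinearMap.ker f).subtype.lTensor (ResidueField R)) := by
        have hcomp : (g.rTensor P) ∘ₗ ((LinearMap.ker f).subtype.lTensor (ResidueField R)) =
            ((LinearMap.ker f).subtype.lTensor R) ∘ₗ (g.rTensor (LinearMap.ker f)) := by
          rw [LinearMap.rTensor_comp_lTensor, LinearMap.lTensor_comp_rTensor]
        have h2 : Function.Injective
            (((LinearMap.ker f).subtype.lTensor R) ∘ₗ (g.rTensor (LinearMap.ker f))) := by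
          rw [LinearMap.coe_comp]
          exact (Module.Flat.lTensor_preserves_injective_linearMap _ Subtype.val_injective).comp
            (Module.Flat.rTensor_preserves_injective_linearMap _ hg)
        rw [← hcomp, LinearMap.coe_comp] at h2
        exact h2.of_comp
      exact Module.free_of_lTensor_residueField_injective (LinearMap.ker f).subtype f surjf
        (LinearMap.exact_subtype_ker_map f) hinj

/-- An ideal of finite projective dimension contained in an associated prime `p` of a Noetherian ring is killed
by an element outside `p`. -/
theorem exists_notMem_mul_eq_zero [IsNoetherianRing R] (I : Ideal R) (n : ℕ)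
    (hpd : HasProjectiveDimensionLT (ModuleCat.of R I) n) (p : Ideal R)
    (hp : p ∈ associatedPrimes R R) (hIp : I ≤ p) : ∃ s, s ∉ p ∧ ∀ a ∈ I, s * a = 0 := by
  classical
  rw [AssociatedPrimes.mem_iff, isAssociatedPrime_iff] at hp
  obtain ⟨hprime, y, hy⟩ := hp
  have hy' : ∀ r, r ∈ p ↔ r * y = 0 := fun r => by rw [hy]; simp [Submodule.mem_colon_singleton]
  let Rp := Localization.AtPrime p
  let x : Rp := algebraMap R Rp y
  have hx : x ≠ 0 := by
    intro h
    rw [IsLocalization.map_eq_zero_iff p.primeCompl] at h
    obtain ⟨⟨s, hs⟩, h⟩ := h
    exact hs ((hy' s).mpr h)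
  have hxm : ∀ z ∈ maximalIdeal Rp, z * x = 0 := by
    intro z hz
    obtain ⟨a, s, rfl⟩ := IsLocalization.exists_mk'_eq p.primeCompl z
    have ha : a ∈ p := (IsLocalization.AtPrime.mk'_mem_maximal_iff Rp p a s).mp hz
    have : algebraMap R Rp (a * y) = 0 := by rw [(hy' a).mp ha, map_zero]
    rw [IsLocalization.mk'_eq_mul_mk'_one, mul_right_comm, ← map_mul, this, zero_mul]
  have hpd' : HasProjectiveDimensionLE (ModuleCat.of R I) n := by
    exact hasProjectiveDimensionLT_of_ge _ n _ (Nat.le_succ n)
  let M := (ModuleCat.of R I).localizedModule p.primeCompl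
  have h1 : HasProjectiveDimensionLE M n := ModuleCat.localizedModule_hasProjectiveDimensionLE n _ _
  let mk : I →ₗ[R] M := (ModuleCat.of R I).localizedModuleMkLinearMap p.primeCompl
  have : IsLocalizedModule p.primeCompl mk :=
    ModuleCat.localizedModule_isLocalizedModule (ModuleCat.of R I) p.primeCompl
  have hfin : Module.Finite Rp M := Module.Finite.of_isLocalizedModule p.primeCompl (Rₚ := Rp) mk
  have hfree : Module.Free Rp M := by
    have : HasProjectiveDimensionLT M (n + 1) := h1
    exact free_of_socle hx hxm (n + 1) M
  -- `x` kills `M`
  have hkill : ∀ m : M, x • m = 0 := by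
    intro m
    obtain ⟨⟨a, s⟩, rfl⟩ := IsLocalizedModule.mk'_surjective p.primeCompl mk m
    have h2 : y • a = 0 := by
      ext
      have : (a : R) * y = 0 := (hy' _).mp (hIp a.2)
      simpa [mul_comm] using this
    have : x • IsLocalizedModule.mk' mk a s = 0 := by
      rw [algebraMap_smul, ← IsLocalizedModule.mk'_smul, h2, IsLocalizedModule.mk'_zero]
    exact this
  have hsub : Subsingleton M := by
    by_contra hM
    rw [not_subsingleton_iff_nontrivial] at hM
    let b := Module.Free.chooseBasis Rp M
    obtain ⟨i⟩ : Nonempty (Module.Free.ChooseBasisIndex Rp M) := b.index_nonempty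
    have h3 := hkill (b i)
    have h4 : b.repr (x • b i) i = 0 := by rw [h3]; simp
    simp at h4
    exact hx h4
  have hfg : I.FG := IsNoetherian.noetherian I
  obtain ⟨t, ht⟩ := hfg
  have h5 : ∀ a : I, ∃ s, s ∉ p ∧ s * (a : R) = 0 := by
    intro a
    have h6 : mk a = 0 := Subsingleton.elim _ _
    rw [IsLocalizedModule.eq_zero_iff p.primeCompl mk] at h6
    obtain ⟨⟨s, hs⟩, h6⟩ := h6
    exact ⟨s, hs, by simpa using congrArg (Subtype.val) h6⟩
  have hmem : ∀ a ∈ t, a ∈ I := fun a ha => ht ▸ Ideal.subset_span ha
  choose f hf1 hf2 using h5
  refine ⟨∏ a : t, f ⟨a.1, hmem a.1 a.2⟩, ?_, ?_⟩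
  · rw [hprime.prod_mem_iff]
    rintro ⟨a, -, ha⟩
    exact hf1 _ ha
  · intro a ha
    rw [← ht] at ha
    induction ha using Submodule.span_induction with
    | mem z hz =>
      rw [← Finset.prod_erase_mul _ _ (Finset.mem_univ (⟨z, hz⟩ : t)), mul_assoc]
      rw [hf2 ⟨z, hmem z hz⟩, mul_zero]
    | zero => simp
    | add _ _ _ _ h h' => rw [mul_add, h, h', add_zero]
    | smul c z _ h => rw [smul_eq_mul, mul_left_comm, h, mul_zero]

end Groth.Agent.Models.FinitePd
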