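import Groth.Agent.Models.KoszulBC2
import Groth.Agent.LoccohB.GorKoszulFlat
import Groth.Agent.CalgB.CMPoly
import Mathlib.RingTheory.KrullDimension.Polynomial
import Mathlib.RingTheory.TensorProduct.MvPolynomial
import Mathlib.RingTheory.LocalRing.ResidueField.Fiber

/-!
# Length of Koszul-regular sequences cutting out flat algebras

`φ : P = A[x₁, …, xₙ] → B` surjective, `B` flat over `A`, `g ∈ P`, `l` a Koszul-regular sequence in `P_g`
generating `(ker φ) P_g` and `q` a prime of `B` not containing `φ g`: then `l` has length at most `n`.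
-/

set_option autoImplicit false
universe u

open MvPolynomial

namespace Groth.Agent.Models.GciLen

attribute [local instance] MvPolynomial.algebraMvPolynomial

section BC

/-- Base change of a principal localization. -/
theorem isPushout_away {A κ P Pκ : Type u} [CommRing A] [CommRing κ] [Algebra A κ] [CommRing P]
    [Algebra A P] [CommRing Pκ] [Algebra κ Pκ] [Algebra P Pκ] [Algebra A Pκ] [IsScalarTower A κ Pκ]
    [IsScalarTower A P Pκ] [Algebra.IsPushout A P κ Pκ] (g : P) (D D' : Type u) [CommRing D]
    [CommRing D'] [Algebra P D] [Algebra A D] [IsScalarTower A P D] [IsLocalization.Away g D]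
    [Algebra Pκ D'] [Algebra P D'] [IsScalarTower P Pκ D'] [Algebra κ D'] [IsScalarTower κ Pκ D']
    [Algebra A D'] [IsScalarTower A κ D'] [IsScalarTower A Pκ D']
    [IsLocalization.Away (algebraMap P Pκ g) D'] [Algebra D D'] [IsScalarTower P D D']
    [IsScalarTower A D D'] : Algebra.IsPushout A κ D D' := by
  have h3 : IsLocalization (Algebra.algebraMapSubmonoid Pκ (Submonoid.powers g)) D' := by
    have : Algebra.algebraMapSubmonoid Pκ (Submonoid.powers g) =
        Submonoid.powers (algebraMap P Pκ g) := by
      rw [Algebra.algebraMapSubmonoid, Submonoid.map_powers]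
    rw [this]
    infer_instance
  have h4 : Algebra.IsPushout P D Pκ D' :=
    (Algebra.isPushout_of_isLocalization (A := D) (Submonoid.powers g) Pκ D').symm
  have h5 := (Algebra.IsPushout.comp_iff A P κ (S' := Pκ) (T := D) (T' := D')).2 h4
  exact h5.symm

theorem ringKrullDim_le_of_isLocalization {R S : Type*} [CommRing R] [CommRing S] [Algebra R S]
    (M : Submonoid R) [IsLocalization M S] : ringKrullDim S ≤ ringKrullDim R := by
  rw [ringKrullDim_le_iff_height_le]
  intro p hp
  rw [← IsLocalization.height_under M p]
  exact Ideal.height_le_ringKrullDim_of_isPrime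

end BC

/-- The length bound, over the fibre. -/
theorem length_le {A B : Type u} [CommRing A] [CommRing B] [Algebra A B] [Module.Flat A B] {n : ℕ}
    (φ : MvPolynomial (Fin n) A →ₐ[A] B) (hφ : Function.Surjective φ) (g : MvPolynomial (Fin n) A)
    (l : List (Localization.Away g)) (hl : LCI.IsKoszulRegularSeq (Localization.Away g) l)
    (hlI : (RingHom.ker φ.toRingHom).map (algebraMap _ (Localization.Away g)) =
      Ideal.span {x | x ∈ l})
    (q : Ideal B) [q.IsPrime] (hq : φ g ∉ q) : l.length ≤ n := by
  let P := MvPolynomial (Fin n) A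
  let D := Localization.Away g
  let p := q.under A
  let κ := p.ResidueField
  let Pκ := MvPolynomial (Fin n) κ
  let g' : Pκ := algebraMap P Pκ g
  let D' := Localization.Away g'
  letI : Algebra D D' := (Localization.awayMap (algebraMap P Pκ) g).toAlgebra
  have hDD' : ∀ x : P, algebraMap D D' (algebraMap P D x) = algebraMap Pκ D' (algebraMap P Pκ x) :=
    fun x => IsLocalization.map_eq (S := D) (Q := D') (g := algebraMap P Pκ)
      (M := Submonoid.powers g) (T := Submonoid.powers g')
      (by rw [← Submonoid.map_le_iff_le_comap, Submonoid.map_powers]) x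
  have h1 : IsScalarTower P D D' := IsScalarTower.of_algebraMap_eq fun x => by
    rw [hDD', ← IsScalarTower.algebraMap_apply]
  have h2 : IsScalarTower A D D' := IsScalarTower.of_algebraMap_eq fun x => by
    rw [IsScalarTower.algebraMap_apply A P D, ← IsScalarTower.algebraMap_apply P D D',
      ← IsScalarTower.algebraMap_apply A P D']
  have h3 : Algebra.IsPushout A κ D D' := isPushout_away (P := P) (Pκ := Pκ) g D D'
  -- flatness of the quotient
  let ψ₂ : D →+* Localization.Away (φ g) := Localization.awayMap φ.toRingHom g
  have hψ₂s : Function.Surjective ψ₂ := by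
    rw [Localization.awayMap_surjective_iff]
    intro a
    obtain ⟨b, rfl⟩ := hφ a
    exact ⟨b, 0, by simp⟩
  have hψ₂k : RingHom.ker ψ₂ = Ideal.ofList l := by
    rw [Ideal.ofList, ← hlI]
    exact IsLocalization.ker_map (M := Submonoid.powers g) (S := Localization.Away g)
      (T := Submonoid.powers (φ.toRingHom g)) (Q := Localization.Away (φ g)) (g := φ.toRingHom)
      (by rw [Submonoid.map_powers])
  let ψA : D →ₐ[A] Localization.Away (φ g) :=
    { ψ₂ with
      commutes' := fun a => by
        change ψ₂ (algebraMap A D a) = _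
        rw [IsScalarTower.algebraMap_apply A P D]
        change IsLocalization.map (Localization.Away (φ g)) φ.toRingHom _ (algebraMap P _ _) = _
        rw [IsLocalization.map_eq, IsScalarTower.algebraMap_apply A B (Localization.Away (φ g))]
        congr 1
        change φ (algebraMap A _ a) = _
        rw [AlgHom.commutes] }
  have hflatC : Module.Flat A (Localization.Away (φ g)) := Module.Flat.trans A B _
  have hflatQ : Module.Flat A (D ⧸ Ideal.ofList l) := by
    have hk : RingHom.ker ψA = Ideal.ofList l := hψ₂k
    have e : (D ⧸ Ideal.ofList l) ≃ₐ[A] Localization.Away (φ g) :=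
      (Ideal.quotientEquivAlgOfEq A hk.symm).trans
        (Ideal.quotientKerAlgEquivOfSurjective (f := ψA) hψ₂s)
    exact Module.Flat.of_linearEquiv e.toLinearEquiv
  have hflatD : Module.Flat A D := Module.Flat.trans A P _
  -- base change
  have hK : LCI.IsKoszulRegularSeq D' (l.map (algebraMap D D')) :=
    KoszulBC2.isKoszulRegularSeq_map (A := A) (P := D) κ l hl
  -- the point of the fibre
  let k := q.ResidueField
  let κk : κ →+* k := Ideal.ResidueField.map p q (algebraMap A B) rfl
  have hκk : ∀ a : A, κk (algebraMap A κ a) = algebraMap B k (algebraMap A B a) := fun a =>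
    Ideal.ResidueField.map_algebraMap p q (algebraMap A B) rfl a
  let χ : Pκ →+* k := MvPolynomial.eval₂Hom κk
    (fun i => algebraMap B k (φ (X i)))
  have hχ : χ.comp (algebraMap P Pκ) = (algebraMap B k).comp φ.toRingHom := by
    ext a
    · simp only [RingHom.comp_apply]
      change χ (MvPolynomial.map (algebraMap A κ) (C a)) = algebraMap B k (φ (C a))
      rw [MvPolynomial.map_C]
      change MvPolynomial.eval₂ _ _ (C _) = _
      rw [MvPolynomial.eval₂_C, ← MvPolynomial.algebraMap_eq, AlgHom.commutes, hκk]
    · simp only [RingHom.comp_apply]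
      change χ (MvPolynomial.map (algebraMap A κ) (X a)) = algebraMap B k (φ (X a))
      rw [MvPolynomial.map_X]
      change MvPolynomial.eval₂ _ _ (X _) = _
      rw [MvPolynomial.eval₂_X]
  have hg' : IsUnit (χ g') := by
    have : χ g' = algebraMap B k (φ g) := DFunLike.congr_fun hχ g
    rw [this, isUnit_iff_ne_zero, Ne, Ideal.algebraMap_residueField_eq_zero]
    exact hq
  let χ' : D' →+* k := IsLocalization.Away.lift g' hg'
  let 𝔮 : Ideal D' := RingHom.ker χ'
  have h𝔮 : 𝔮.IsPrime := RingHom.ker_isPrime χ'
  have hmem : ∀ x ∈ l, algebraMap D D' x ∈ 𝔮 := by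
    have hle : (Ideal.span {x | x ∈ l}) ≤ 𝔮.comap (algebraMap D D') := by
      rw [← hlI, Ideal.map_le_iff_le_comap]
      intro x hx
      rw [Ideal.mem_comap, Ideal.mem_comap, ← IsScalarTower.algebraMap_apply P D D']
      change χ' (algebraMap P D' x) = 0
      rw [IsScalarTower.algebraMap_apply P Pκ D']
      change IsLocalization.Away.lift g' hg' _ = 0
      rw [IsLocalization.Away.lift_eq]
      have : χ (algebraMap P Pκ x) = algebraMap B k (φ x) := DFunLike.congr_fun hχ x
      rw [this]
      have hx' : φ x = 0 := hx
      rw [hx', map_zero]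
    intro x hx
    exact hle (Ideal.subset_span hx)
  let R := Localization.AtPrime 𝔮
  have hR : LCI.IsKoszulRegularSeq R ((l.map (algebraMap D D')).map (algebraMap D' R)) := by
    refine LoccohB.GorKoszulFlat.isKoszulRegularSeq_map_of_flat (algebraMap D' R) ?_ _ hK
    rw [RingHom.flat_algebraMap_iff]
    exact IsLocalization.flat R 𝔮.primeCompl
  have hRm : ∀ x ∈ (l.map (algebraMap D D')).map (algebraMap D' R),
      x ∈ IsLocalRing.maximalIdeal R := by
    intro x hx
    simp only [List.map_map, List.mem_map, Function.comp_apply] at hx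
    obtain ⟨y, hy, rfl⟩ := hx
    exact (IsLocalization.AtPrime.to_map_mem_maximal_iff R 𝔮 _).2 (hmem y hy)
  have : IsNoetherianRing D' := IsLocalization.isNoetherianRing (Submonoid.powers g') D' inferInstance
  have : IsNoetherianRing R := IsLocalization.isNoetherianRing 𝔮.primeCompl R inferInstance
  have hw := LoccohB.GorKoszulFlat.isWeaklyRegular_of_isKoszulRegularSeq _ hRm hR
  have hlen := CalgB.CMPoly.length_le_ringKrullDim _ hRm hw
  rw [List.length_map, List.length_map] at hlen
  have hd1 : ringKrullDim R ≤ ringKrullDim D' := ringKrullDim_le_of_isLocalization 𝔮.primeCompl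
  have hd2 : ringKrullDim D' ≤ ringKrullDim Pκ :=
    ringKrullDim_le_of_isLocalization (Submonoid.powers g')
  have hd3 : ringKrullDim Pκ = n := by
    rw [MvPolynomial.ringKrullDim_of_isNoetherianRing, ringKrullDim_eq_zero_of_field]
    simp
  have := hlen.trans (hd1.trans (hd2.trans hd3.le))
  exact_mod_cast this

end Groth.Agent.Models.GciLen
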