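import Mathlib.RingTheory.Localization.Away.AdjoinRoot
import Mathlib.RingTheory.Localization.Algebra
import Mathlib.Algebra.MvPolynomial.Equiv
import Mathlib.RingTheory.Ideal.Operations
import Mathlib.RingTheory.Ideal.Maps
import Mathlib.RingTheory.Ideal.Quotient.Operations

/-!
# Presentations of principal localizations with few equations

If `φ : A[x₁, …, xₙ] → B` is surjective and the extension of `ker φ` to the localization at `g` is
generated by a list of length `≤ n`, then `B_g` is `A[x₁, …, xₙ₊₁] / (f₁, …, fₙ₊₁)`.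
-/

set_option autoImplicit false
universe u

open Polynomial

namespace Groth.Agent.Models.GciPres

theorem exists_list_map {X Y : Type*} (f : X → Y) (hf : Function.Surjective f) (l : List Y) :
    ∃ l' : List X, l'.map f = l := by
  refine ⟨l.map (Function.surjInv hf), ?_⟩
  rw [List.map_map]
  conv_rhs => rw [← List.map_id l]
  refine List.map_congr_left fun x _ => ?_
  simp [Function.surjInv_eq hf]

/-- If the kernel of `f` is generated by a list and `I` by another list, then the preimage of `I`
under a surjection `f` is generated by the list of generators and lifts. -/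
theorem exists_list_comap {R S : Type*} [CommRing R] [CommRing S] (f : R →+* S)
    (hf : Function.Surjective f) (k : List R) (hk : RingHom.ker f = Ideal.span {x | x ∈ k})
    (l : List S) : ∃ m : List R, m.length = l.length + k.length ∧
      (Ideal.span {x | x ∈ l}).comap f = Ideal.span {x | x ∈ m} := by
  obtain ⟨l', rfl⟩ := exists_list_map f hf l
  refine ⟨l' ++ k, by simp, ?_⟩
  have h1 : Ideal.span {x | x ∈ l'.map f} = (Ideal.span {x | x ∈ l'}).map f := by
    rw [Ideal.map_span]
    congr 1
    ext x
    simp
  rw [h1, Ideal.comap_map_of_surjective f hf, ← RingHom.ker_eq_comap_bot, hk, ← Ideal.span_union]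
  congr 1
  ext x
  simp

/-- An ideal generated by a list of length at most `n` is generated by a family indexed by `Fin n`. -/
theorem exists_fin_family {R : Type*} [CommRing R] (l : List R) (n : ℕ) (h : l.length ≤ n) :
    ∃ f : Fin n → R, Ideal.span (Set.range f) = Ideal.span {x | x ∈ l} := by
  refine ⟨fun i => l.getD i 0, le_antisymm ?_ ?_⟩
  · rw [Ideal.span_le]
    rintro _ ⟨i, rfl⟩
    simp only [List.getD_eq_getElem?_getD]
    rcases lt_or_ge (i : ℕ) l.length with hi | hi
    · rw [List.getElem?_eq_getElem hi, Option.getD_some]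
      exact Ideal.subset_span (List.getElem_mem hi)
    · rw [List.getElem?_eq_none hi, Option.getD_none]
      exact Ideal.zero_mem _
  · rw [Ideal.span_le]
    intro x hx
    obtain ⟨i, hi, rfl⟩ := List.mem_iff_getElem.mp hx
    refine Ideal.subset_span ⟨⟨i, hi.trans_le h⟩, ?_⟩
    simp only [List.getD_eq_getElem?_getD]
    rw [List.getElem?_eq_getElem hi, Option.getD_some]

section

variable {A B : Type u} [CommRing A] [CommRing B] [Algebra A B]

theorem exists_presentation {n : ℕ} (φ : MvPolynomial (Fin n) A →ₐ[A] B)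
    (hφ : Function.Surjective φ) (g : MvPolynomial (Fin n) A) (l : List (Localization.Away g))
    (hlen : l.length ≤ n)
    (hl : (RingHom.ker φ.toRingHom).map (algebraMap _ (Localization.Away g)) =
      Ideal.span {x | x ∈ l}) :
    ∃ f : Fin (n + 1) → MvPolynomial (Fin (n + 1)) A,
      Nonempty (Localization.Away (φ g) ≃ₐ[A]
        (MvPolynomial (Fin (n + 1)) A ⧸ Ideal.span (Set.range f))) := by
  let P := MvPolynomial (Fin n) A
  -- the three maps
  let e₀ : MvPolynomial (Fin (n + 1)) A ≃ₐ[A] P[X] := MvPolynomial.finSuccEquiv A n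
  let e₁ : AdjoinRoot (C g * X - 1 : P[X]) ≃ₐ[P] Localization.Away g :=
    (Localization.awayEquivAdjoin g).symm
  let ψ₁ : P[X] →+* Localization.Away g :=
    (e₁ : AdjoinRoot (C g * X - 1 : P[X]) →+* Localization.Away g).comp
      (AdjoinRoot.mk (C g * X - 1))
  let ψ₂ : Localization.Away g →+* Localization.Away (φ g) :=
    Localization.awayMap φ.toRingHom g
  have hψ₁s : Function.Surjective ψ₁ := e₁.surjective.comp AdjoinRoot.mk_surjective
  have hψ₁k : RingHom.ker ψ₁ = Ideal.span {x | x ∈ [(C g * X - 1 : P[X])]} := by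
    ext x
    rw [RingHom.mem_ker]
    change e₁ (AdjoinRoot.mk _ x) = 0 ↔ _
    rw [map_eq_zero_iff _ e₁.injective, AdjoinRoot.mk_eq_zero, ← Ideal.mem_span_singleton]
    simp
  have hψ₂s : Function.Surjective ψ₂ := by
    rw [Localization.awayMap_surjective_iff]
    intro a
    obtain ⟨b, rfl⟩ := hφ a
    exact ⟨b, 0, by simp⟩
  have hψ₂k : RingHom.ker ψ₂ = Ideal.span {x | x ∈ l} := by
    rw [← hl]
    exact IsLocalization.ker_map (M := Submonoid.powers g) (S := Localization.Away g)
      (T := Submonoid.powers (φ.toRingHom g)) (Q := Localization.Away (φ g)) (g := φ.toRingHom)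
      (by rw [Submonoid.map_powers])
  let ψ : MvPolynomial (Fin (n + 1)) A →+* Localization.Away (φ g) :=
    (ψ₂.comp ψ₁).comp (e₀ : MvPolynomial (Fin (n + 1)) A →+* P[X])
  have hψs : Function.Surjective ψ := (hψ₂s.comp hψ₁s).comp e₀.surjective
  -- the kernel
  obtain ⟨m, hm, hm'⟩ := exists_list_comap ψ₁ hψ₁s _ hψ₁k l
  have he₀k : RingHom.ker (e₀ : MvPolynomial (Fin (n + 1)) A →+* P[X]) =
      Ideal.span {x | x ∈ ([] : List (MvPolynomial (Fin (n + 1)) A))} := by
    rw [show {x | x ∈ ([] : List (MvPolynomial (Fin (n + 1)) A))} = ∅ by ext; simp,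
      Ideal.span_empty]
    exact (RingHom.injective_iff_ker_eq_bot _).mp e₀.injective
  obtain ⟨m', hm'l, hm''⟩ := exists_list_comap
    (e₀ : MvPolynomial (Fin (n + 1)) A →+* P[X]) e₀.surjective _ he₀k m
  have hker : RingHom.ker ψ = Ideal.span {x | x ∈ m'} := by
    rw [← hm'', ← hm', ← hψ₂k]
    rfl
  obtain ⟨f, hf⟩ := exists_fin_family m' (n + 1) (by
    rw [hm'l, hm]; simp; exact hlen)
  refine ⟨f, ⟨?_⟩⟩
  -- `ψ` as an `A`-algebra map
  let ψA : MvPolynomial (Fin (n + 1)) A →ₐ[A] Localization.Away (φ g) :=
    { ψ with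
      commutes' := fun a => by
        change ψ₂ (e₁ (AdjoinRoot.mk _ (e₀ (algebraMap A _ a)))) = _
        have h1 : e₀ (algebraMap A _ a) = C (MvPolynomial.C a : P) := by
          rw [AlgEquiv.commutes]; rfl
        have h2 : e₁ (AdjoinRoot.mk (C g * X - 1 : P[X]) (C (MvPolynomial.C a : P))) =
            algebraMap P (Localization.Away g) (MvPolynomial.C a) := by
          have : AdjoinRoot.mk (C g * X - 1 : P[X]) (C (MvPolynomial.C a : P)) =
            algebraMap P (AdjoinRoot (C g * X - 1 : P[X])) (MvPolynomial.C a) := rfl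
          rw [this, AlgEquiv.commutes]
        rw [h1, h2]
        change IsLocalization.map (Localization.Away (φ g)) φ.toRingHom _ (algebraMap P _ _) = _
        rw [IsLocalization.map_eq, IsScalarTower.algebraMap_apply A B (Localization.Away (φ g))]
        congr 1
        change φ (algebraMap A _ a) = _
        rw [AlgHom.commutes] }
  have hψAs : Function.Surjective ψA := hψs
  have hψAk : RingHom.ker ψA = Ideal.span (Set.range f) := by
    rw [hf, ← hker]
    rfl
  exact ((Ideal.quotientEquivAlgOfEq A hψAk.symm).trans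
    (Ideal.quotientKerAlgEquivOfSurjective hψAs)).symm

end

end Groth.Agent.Models.GciPres
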