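import Groth.Agent.Flat2H.KoszulSeq
import Mathlib.RingTheory.Flat.Equalizer
import Mathlib.RingTheory.IsTensorProduct

/-!
Base change of Koszul-regular sequences `l` in `P` when `P` and `P/(l)` are flat over `A`.
-/

open CategoryTheory Limits CochainComplex

universe u v w

namespace Groth.Agent.Models.KoszulBC

open Groth.Agent.Flat2H.KoszulGen

section Functor

variable {A A' : Type w} [CommRing A] [CommRing A']
variable {C : Type u} [Category.{v} C] [Preadditive C] [Linear A C] [HasBinaryBiproducts C]
variable {D : Type u} [Category.{v} D] [Preadditive D] [Linear A' D] [HasBinaryBiproducts D]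

/-- Semilinear additive functors commute with the iterated cones. -/
lemma kos_map (φ : A →+* A') (H : C ⥤ D) [H.Additive]
    (hH : ∀ (a : A) {X Y : C} (g : X ⟶ Y), H.map (a • g) = φ a • H.map g) (l : List A)
    (K : CochainComplex C ℤ) :
    Nonempty ((H.mapHomologicalComplex _).obj (kos l K) ≅
      kos (l.map φ) ((H.mapHomologicalComplex _).obj K)) := by
  induction l with
  | nil => exact ⟨Iso.refl _⟩
  | cons f l ih =>
    obtain ⟨e⟩ := ih
    have h : (H.mapHomologicalComplex (ComplexShape.up ℤ)).map (f • 𝟙 (kos l K)) =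
        φ f • 𝟙 ((H.mapHomologicalComplex (ComplexShape.up ℤ)).obj (kos l K)) := by
      ext i
      exact (hH f _).trans (by simp; rfl)
    have i₁ := mappingCone.mapHomologicalComplexIso (f • 𝟙 (kos l K)) H
    rw [h] at i₁
    exact ⟨i₁ ≪≫ coneIso (φ f) e⟩

end Functor

section Flat

variable (A A' : Type u) {P P' : Type u} [CommRing A] [CommRing A'] [CommRing P] [CommRing P']
  [Algebra A A'] [Algebra A P] [Algebra A P'] [Algebra A' P'] [Algebra P P']
  [IsScalarTower A A' P'] [IsScalarTower A P P'] [Algebra.IsPushout A A' P P']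

include A' in
/-- Tensoring with `P' = A' ⊗ P` preserves injections with `A`-flat cokernel. -/
lemma lTensor_injective {X Y Z : Type u} [AddCommGroup X] [AddCommGroup Y] [AddCommGroup Z]
    [Module P X] [Module P Y] [Module P Z] [Module A X] [Module A Y] [Module A Z]
    [IsScalarTower A P X] [IsScalarTower A P Y] [IsScalarTower A P Z] [Module.Flat A Z]
    (f : X →ₗ[P] Y) (g : Y →ₗ[P] Z) (hf : Function.Injective f) (hg : Function.Surjective g)
    (H : Function.Exact f g) : Function.Injective (f.lTensor P') := by
  have h1 : Function.Injective ((f.restrictScalars A).lTensor A') :=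
    LinearMap.lTensor_injective_of_exact_of_flat (g.restrictScalars A) hg (f.restrictScalars A) hf
      H A'
  let eX := (Algebra.IsPushout.cancelBaseChange A A' P P' X).symm
  let eY := (Algebra.IsPushout.cancelBaseChange A A' P P' Y).symm
  have h2 : ∀ x, f.lTensor P' (eX x) = eY ((f.restrictScalars A).lTensor A' x) := by
    intro x
    induction x with
    | zero => simp
    | add x y hx hy => simp only [map_add, hx, hy]
    | tmul s m => simp [eX, eY]
  intro x y hxy
  obtain ⟨x, rfl⟩ := eX.surjective x
  obtain ⟨y, rfl⟩ := eX.surjective y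
  rw [h2, h2] at hxy
  rw [h1 (eY.injective hxy)]

/-- The kernel of a surjection of flat modules is flat. -/
lemma flat_of_exact {K M N : Type u} [AddCommGroup K] [AddCommGroup M] [AddCommGroup N]
    [Module A K] [Module A M] [Module A N] [Module.Flat A M] [Module.Flat A N]
    (g : K →ₗ[A] M) (f : M →ₗ[A] N) (hg : Function.Injective g) (hf : Function.Surjective f)
    (H : Function.Exact g f) : Module.Flat A K := by
  rw [Module.Flat.iff_lTensor_preserves_injective_linearMap]
  intro N N' _ _ _ _ h hh
  have h1 : Function.Injective (h.lTensor M) :=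
    Module.Flat.lTensor_preserves_injective_linearMap h hh
  have h2 : Function.Injective (g.rTensor N) := by
    rw [← LinearMap.lTensor_inj_iff_rTensor_inj]
    exact LinearMap.lTensor_injective_of_exact_of_flat f hf g hg H N
  have h3 : (g.rTensor N') ∘ₗ (h.lTensor K) = (h.lTensor M) ∘ₗ (g.rTensor N) := by
    ext x y
    simp
  have h4 : Function.Injective ((g.rTensor N') ∘ₗ (h.lTensor K)) := by
    rw [h3]
    exact h1.comp h2
  rw [LinearMap.coe_comp] at h4
  exact Function.Injective.of_comp h4

/-- If `X → Y → Z` is exact, `Z` and `Z / im` are `A`-flat, then `Y / im` is `A`-flat. -/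
lemma flat_quotient_range {X Y Z : Type u} [AddCommGroup X] [AddCommGroup Y] [AddCommGroup Z]
    [Module P X] [Module P Y] [Module P Z] [Module A X] [Module A Y] [Module A Z]
    [IsScalarTower A P X] [IsScalarTower A P Y] [IsScalarTower A P Z] [Module.Flat A Z]
    (f : X →ₗ[P] Y) (g : Y →ₗ[P] Z) (H : Function.Exact f g)
    [Module.Flat A (Z ⧸ LinearMap.range g)] : Module.Flat A (Y ⧸ LinearMap.range f) := by
  let h : (Y ⧸ LinearMap.range f) →ₗ[P] Z := (LinearMap.range f).liftQ g (by
    rintro _ ⟨x, rfl⟩
    exact H.apply_apply_eq_zero x)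
  have hinj : Function.Injective h := by
    rw [← LinearMap.ker_eq_bot, Submodule.ker_liftQ_eq_bot]
    intro y hy
    exact (H y).1 hy
  let h' : (Y ⧸ LinearMap.range f) →ₗ[A] Z := h.restrictScalars A
  let q' : Z →ₗ[A] (Z ⧸ LinearMap.range g) := (LinearMap.range g).mkQ.restrictScalars A
  have hs : Function.Surjective q' := fun z => by
    obtain ⟨y, rfl⟩ := Submodule.Quotient.mk_surjective _ z
    exact ⟨y, rfl⟩
  have hinj' : Function.Injective h' := hinj
  suffices hex : Function.Exact h' q' from flat_of_exact A h' q' hinj' hs hex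
  intro z
  change (LinearMap.range g).mkQ z = 0 ↔ _
  rw [Submodule.mkQ_apply, Submodule.Quotient.mk_eq_zero]
  constructor
  · rintro ⟨y, rfl⟩
    exact ⟨Submodule.Quotient.mk y, rfl⟩
  · rintro ⟨y, rfl⟩
    obtain ⟨y, rfl⟩ := Submodule.Quotient.mk_surjective _ y
    exact ⟨y, rfl⟩

include A' in
/-- If `X → Y → Z` is exact and `Z / im` is `A`-flat, then exactness is preserved by `P' ⊗ -`. -/
lemma lTensor_exact_of_flat {X Y Z : Type u} [AddCommGroup X] [AddCommGroup Y] [AddCommGroup Z]
    [Module P X] [Module P Y] [Module P Z] [Module A X] [Module A Y] [Module A Z]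
    [IsScalarTower A P X] [IsScalarTower A P Y] [IsScalarTower A P Z]
    (f : X →ₗ[P] Y) (g : Y →ₗ[P] Z) (H : Function.Exact f g)
    [Module.Flat A (Z ⧸ LinearMap.range g)] :
    Function.Exact (f.lTensor P') (g.lTensor P') := by
  have h1 : Function.Exact (f.lTensor P') (g.rangeRestrict.lTensor P') := by
    have h0 : Function.Exact f g.rangeRestrict := by
      intro y
      rw [← H y]
      exact Subtype.ext_iff
    exact _root_.lTensor_exact P' h0 g.surjective_rangeRestrict
  have h2 : Function.Injective ((LinearMap.range g).subtype.lTensor P') := by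
    have h4 : Function.Injective (LinearMap.range g).subtype := Submodule.subtype_injective _
    have h5 : Function.Surjective (LinearMap.range g).mkQ := Submodule.mkQ_surjective _
    have h6 : Function.Exact (LinearMap.range g).subtype (LinearMap.range g).mkQ :=
      LinearMap.exact_subtype_mkQ _
    exact lTensor_injective A A' _ _ h4 h5 h6
  have h3 : ∀ y, g.lTensor P' y = (LinearMap.range g).subtype.lTensor P'
      (g.rangeRestrict.lTensor P' y) := by
    intro y
    rw [← LinearMap.comp_apply, ← LinearMap.lTensor_comp]
    rfl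
  intro y
  rw [h3, ← h1 y]
  exact ⟨fun h => h2 (by rw [h, map_zero]), fun h => by rw [h, map_zero]⟩

end Flat

end Groth.Agent.Models.KoszulBC
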