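import Groth.Agent.Models.CotangentFlat
import Groth.Agent.Flat2H.KoszulSeq

/-!
The conormal module of a Koszul-regular ideal is flat (locally free).
-/

universe u

namespace Groth.Agent.Models.KoszulCot

open LCI Groth.Agent.Flat2H.KoszulSeq

variable {R : Type u} [CommRing R]

/-- If `l` is Koszul-regular then `I/I²` is free for `I = (l)`. -/
theorem free_cotangent (l : List R) (hl : IsKoszulRegularSeq R l) (J : Ideal R)
    (hJ : J = Ideal.ofList l) : Module.Free (R ⧸ J) J.Cotangent := by
  subst hJ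
  set J := Ideal.ofList l with hJ
  have hmem (i : Fin l.length) : l.get i ∈ J := Ideal.subset_span (List.get_mem l i)
  let Φ : (Fin l.length → R ⧸ J) →ₗ[R ⧸ J] J.Cotangent :=
    Fintype.linearCombination (R ⧸ J) (fun i => J.toCotangent ⟨l.get i, hmem i⟩)
  have hΦ (c : Fin l.length → R) : Φ (fun i => Ideal.Quotient.mk J (c i)) =
      J.toCotangent ⟨∑ i, c i * l.get i, Ideal.sum_mem _ fun i _ => J.mul_mem_left _ (hmem i)⟩ := by
    have h1 : (⟨∑ i, c i * l.get i, Ideal.sum_mem _ fun i _ => J.mul_mem_left _ (hmem i)⟩ : J) =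
        ∑ i, c i • (⟨l.get i, hmem i⟩ : J) := by
      ext
      simp
    rw [h1, map_sum, Fintype.linearCombination_apply]
    refine Finset.sum_congr rfl fun i _ => ?_
    rw [map_smul]
    rfl
  have hinj : Function.Injective Φ := by
    rw [injective_iff_map_eq_zero]
    intro c hc
    choose c' hc' using fun i => Ideal.Quotient.mk_surjective (c i)
    obtain rfl : (fun i => Ideal.Quotient.mk J (c' i)) = c := funext hc'
    rw [hΦ, Ideal.toCotangent_eq_zero] at hc
    ext i
    exact Ideal.Quotient.eq_zero_iff_mem.2 (coeff_mem_of_sum_mem_sq hl c' hc i)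
  have hsurj : Function.Surjective Φ := by
    intro y
    obtain ⟨⟨y, hy⟩, rfl⟩ := Ideal.toCotangent_surjective _ y
    obtain ⟨c, hc⟩ : ∃ c : Fin l.length → R, ∑ i, c i * l.get i = y := by
      have hy' := hy
      rw [hJ, ofList_eq_span_range, Ideal.mem_span_range_iff_exists_fun] at hy'
      exact hy'
    subst hc
    exact ⟨_, hΦ c⟩
  exact Module.Free.of_equiv (LinearEquiv.ofBijective Φ ⟨hinj, hsurj⟩)

/-- `I/I²` is flat for a Koszul-regular ideal. -/
theorem flat_cotangent {I : Ideal R} (h : IsKoszulRegularIdeal I) :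
    Module.Flat (R ⧸ I) I.Cotangent := by
  refine CotangentFlat.flat_cotangent_of_exists_away I fun p hp hI => ?_
  obtain ⟨g, hg, l, hl, hIl⟩ := h ⟨p, hp⟩ hI
  refine ⟨g, hg, ?_⟩
  have := free_cotangent l hl _ hIl
  infer_instance

end Groth.Agent.Models.KoszulCot
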