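import Mathlib.RingTheory.Ideal.Cotangent
import Mathlib.RingTheory.LocalRing.Module
import Mathlib.RingTheory.Flat.Localization
import Mathlib.RingTheory.Localization.Finiteness
import Groth.Agent.Models.RegSpread

/-!
# Local quasi-free generators of an ideal with flat conormal module
-/

set_option autoImplicit false
universe u

namespace Groth.Agent.Models.QuasiFree

open IsLocalRing

/-- A finitely generated flat module has, locally at a prime, a basis among given generators. -/
theorem exists_basis_family {B M : Type u} [CommRing B] [AddCommGroup M] [Module B M]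
    [Module.Flat B M] {s : ℕ} (v : Fin s → M) (hv : Submodule.span B (Set.range v) = ⊤)
    (𝔭 : Ideal B) [𝔭.IsPrime] :
    ∃ (c : ℕ) (a : Fin c → Fin s),
      (∀ m : M, ∃ t, t ∉ 𝔭 ∧ t • m ∈ Submodule.span B (Set.range (v ∘ a))) ∧
      ∀ b : Fin c → B, ∑ i, b i • v (a i) = 0 → ∃ t, t ∉ 𝔭 ∧ ∀ i, t * b i = 0 := by
  classical
  let S := 𝔭.primeCompl
  let L := Localization.AtPrime 𝔭
  let M' := LocalizedModule S M
  have hfin : Module.Finite B M := ⟨⟨Finset.univ.image v, by simpa using hv⟩⟩
  have hfin' : Module.Finite L M' := inferInstance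
  have hflat' : Module.Flat L M' := Module.Flat.localizedModule S
  have hfree : Module.Free L M' := Module.free_of_flat_of_isLocalRing
  have hfp : Module.FinitePresentation L M' := Module.finitePresentation_of_projective L M'
  let f := LocalizedModule.mkLinearMap S M
  have hspan : Submodule.span L (Set.range (f ∘ v)) = ⊤ := by
    rw [Set.range_comp]
    exact span_eq_top_of_isLocalizedModule L S f hv
  obtain ⟨κ, a, b, hb⟩ := Module.exists_basis_of_span_of_flat (f ∘ v) hspan
  have hκ : Finite κ := Module.Finite.finite_basis b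
  obtain ⟨c, ⟨e⟩⟩ := Finite.exists_equiv_fin κ
  have hb' : ∀ i : Fin c, b.reindex e i = f (v (a (e.symm i))) := fun i => by
    rw [Module.Basis.reindex_apply, hb]
    rfl
  refine ⟨c, a ∘ e.symm, fun m => ?_, fun β hβ => ?_⟩
  · -- coordinates
    let l := (b.reindex e).repr (f m)
    have h1 : ∑ i, l i • f (v (a (e.symm i))) = f m := by
      have := (b.reindex e).sum_repr (f m)
      simp_rw [hb'] at this
      exact this
    obtain ⟨u, hu⟩ := IsLocalization.exist_integer_multiples S Finset.univ (fun i => l i)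
    choose z hz using fun i => hu i (Finset.mem_univ i)
    have h2 : f ((u : B) • m) = f (∑ i, z i • v (a (e.symm i))) := by
      rw [map_smul, ← h1, Finset.smul_sum, map_sum]
      refine Finset.sum_congr rfl fun i _ => ?_
      rw [map_smul, ← smul_assoc, ← hz i, algebraMap_smul]
    obtain ⟨w, hw⟩ := (IsLocalizedModule.eq_iff_exists S f).1 h2
    refine ⟨w * u, fun h => ?_, ?_⟩
    · exact (Ideal.IsPrime.mem_or_mem ‹_› h).elim w.2 u.2
    · have h3 : ((w : B) * (u : B)) • m = (w : B) • ∑ i, z i • v (a (e.symm i)) := by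
        rw [mul_smul]
        exact hw
      rw [h3]
      refine Submodule.smul_mem _ _ (Submodule.sum_mem _ fun i _ => Submodule.smul_mem _ _ ?_)
      exact Submodule.subset_span ⟨i, rfl⟩
  · have h1 : ∑ i, algebraMap B L (β i) • b.reindex e i = 0 := by
      have := congrArg f hβ
      rw [map_zero, map_sum] at this
      rw [← this]
      refine Finset.sum_congr rfl fun i _ => ?_
      rw [hb', map_smul, algebraMap_smul]
      rfl
    have h2 : ∀ i, algebraMap B L (β i) = 0 := by
      have := (Fintype.linearIndependent_iff.1 (b.reindex e).linearIndependent) _ h1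
      exact this
    choose t ht using fun i => (IsLocalization.map_eq_zero_iff S L (β i)).1 (h2 i)
    refine ⟨∏ i, (t i : B), fun h => ?_, fun i => ?_⟩
    · obtain ⟨j, -, hj⟩ := (Ideal.IsPrime.prod_mem_iff (p := 𝔭)).1 h
      exact (t j).2 hj
    · rw [← Finset.mul_prod_erase Finset.univ _ (Finset.mem_univ i)]
      calc _ = (∏ x ∈ Finset.univ.erase i, (t x : B)) * ((t i : B) * β i) := by ring
        _ = 0 := by rw [ht i, mul_zero]

/-- If `I/I²` is flat over `P/I`, `I` finitely generated by `h`, then near a prime `𝔭 ⊇ I` the ideal is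
generated by a subfamily of `h` all whose relations have, near `𝔭`, coefficients in `I`. -/
theorem exists_quasi_free {P : Type u} [CommRing P] (I : Ideal P) {s : ℕ} (h : Fin s → P)
    (hh : Ideal.span (Set.range h) = I) [Module.Flat (P ⧸ I) I.Cotangent] (𝔭 : Ideal P)
    [𝔭.IsPrime] (hI : I ≤ 𝔭) :
    ∃ (c : ℕ) (a : Fin c → Fin s) (g : P), g ∉ 𝔭 ∧
      (∀ x ∈ I, g * x ∈ Ideal.span (Set.range (h ∘ a))) ∧
      ∀ b : Fin c → P, ∑ i, b i * h (a i) = 0 → ∃ t, t ∉ 𝔭 ∧ ∀ i, t * b i ∈ I := by
  classical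
  have hhI : ∀ k, h k ∈ I := fun k => hh ▸ Ideal.subset_span ⟨k, rfl⟩
  let v : Fin s → I.Cotangent := fun k => I.toCotangent ⟨h k, hhI k⟩
  have hv : Submodule.span (P ⧸ I) (Set.range v) = ⊤ := by
    rw [eq_top_iff]
    rintro m -
    obtain ⟨⟨x, hx⟩, rfl⟩ := I.toCotangent_surjective m
    have hx' := hx
    rw [← hh, Ideal.mem_span_range_iff_exists_fun] at hx'
    obtain ⟨z, hz⟩ := hx'
    have h1 : (⟨x, hx⟩ : I) = ∑ k, z k • (⟨h k, hhI k⟩ : I) := by
      apply Subtype.ext
      refine Eq.trans hz.symm ?_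
      simp only [AddSubmonoidClass.coe_finsetSum, Submodule.coe_smul, smul_eq_mul]
    rw [h1, map_sum]
    refine Submodule.sum_mem _ fun k _ => ?_
    rw [map_smul, ← algebraMap_smul (P ⧸ I) (z k)]
    exact Submodule.smul_mem _ _ (Submodule.subset_span ⟨k, rfl⟩)
  have hprime : (𝔭.map (Ideal.Quotient.mk I)).IsPrime :=
    Ideal.map_isPrime_of_surjective Ideal.Quotient.mk_surjective (by rwa [Ideal.mk_ker])
  have hmem : ∀ x : P, Ideal.Quotient.mk I x ∈ 𝔭.map (Ideal.Quotient.mk I) ↔ x ∈ 𝔭 := by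
    intro x
    rw [← Ideal.mem_comap, Ideal.comap_map_of_surjective _ Ideal.Quotient.mk_surjective,
      ← RingHom.ker_eq_comap_bot, Ideal.mk_ker, sup_eq_left.2 hI]
  obtain ⟨c, a, hgen, hind⟩ := exists_basis_family v hv (𝔭.map (Ideal.Quotient.mk I))
  -- generation
  let K : Ideal P := Ideal.span (Set.range (h ∘ a))
  have hg1 : ∀ x ∈ I, ∃ u, u ∉ 𝔭 ∧ u * x ∈ K ⊔ I * I := by
    intro x hx
    obtain ⟨t, ht, htm⟩ := hgen (I.toCotangent ⟨x, hx⟩)
    obtain ⟨u, rfl⟩ := Ideal.Quotient.mk_surjective t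
    refine ⟨u, fun hu => ht ((hmem u).2 hu), ?_⟩
    rw [Submodule.mem_span_range_iff_exists_fun] at htm
    obtain ⟨z, hz⟩ := htm
    choose y hy using fun i => Ideal.Quotient.mk_surjective (z i)
    have h1 : I.toCotangent (u • ⟨x, hx⟩ - ∑ i, y i • (⟨h (a i), hhI (a i)⟩ : I)) = 0 := by
      rw [map_sub, map_smul, map_sum, sub_eq_zero]
      have h2 : (Ideal.Quotient.mk I) u • I.toCotangent ⟨x, hx⟩ = u • I.toCotangent ⟨x, hx⟩ :=
        algebraMap_smul (P ⧸ I) u _
      rw [← h2, ← hz]
      refine Finset.sum_congr rfl fun i _ => ?_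
      rw [← hy i, map_smul]
      exact algebraMap_smul (P ⧸ I) (y i) _
    rw [Ideal.toCotangent_eq_zero] at h1
    have h3 : ((u • ⟨x, hx⟩ - ∑ i, y i • (⟨h (a i), hhI (a i)⟩ : I) : I) : P) =
        u * x - ∑ i, y i * h (a i) := by
      simp only [AddSubgroupClass.coe_sub, AddSubmonoidClass.coe_finsetSum, Submodule.coe_smul,
        smul_eq_mul]
    rw [h3, sq] at h1
    have h4 : u * x = ∑ i, y i * h (a i) + (u * x - ∑ i, y i * h (a i)) := by ring
    rw [h4]
    refine Ideal.add_mem _ (Ideal.mem_sup_left (Ideal.sum_mem _ fun i _ => ?_)) (Ideal.mem_sup_right h1)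
    exact Ideal.mul_mem_left _ _ (Ideal.subset_span ⟨i, rfl⟩)
  let L := Localization.AtPrime 𝔭
  have hIL : I.map (algebraMap P L) ≤ K.map (algebraMap P L) := by
    have hfg : (I.map (algebraMap P L)).FG := by
      rw [← hh]
      exact Ideal.FG.map ⟨Finset.univ.image h, by simp⟩ _
    refine Submodule.le_of_le_smul_of_le_jacobson_bot (I := I.map (algebraMap P L)) hfg ?_ ?_
    · refine le_trans ?_ (IsLocalRing.maximalIdeal_le_jacobson ⊥)
      rw [← Localization.AtPrime.map_eq_maximalIdeal]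
      exact Ideal.map_mono hI
    · rw [Ideal.map_le_iff_le_comap]
      intro x hx
      obtain ⟨u, hu, hux⟩ := hg1 x hx
      rw [Ideal.mem_comap]
      have h1 := Ideal.mem_map_of_mem (algebraMap P L) hux
      rw [Ideal.map_sup, Ideal.map_mul, map_mul] at h1
      exact (Ideal.unit_mul_mem_iff_mem _ (IsLocalization.map_units (M := 𝔭.primeCompl) L ⟨u, hu⟩)).1 h1
  have hg2 : ∀ k, ∃ u, u ∉ 𝔭 ∧ u * h k ∈ K := by
    intro k
    have h1 := hIL (Ideal.mem_map_of_mem _ (hhI k))
    obtain ⟨u, hu, h2⟩ := (IsLocalization.algebraMap_mem_map_algebraMap_iff 𝔭.primeCompl L K (h k)).1 h1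
    exact ⟨u, hu, h2⟩
  choose u hu huk using hg2
  refine ⟨c, a, ∏ k, u k, fun h' => ?_, fun x hx => ?_, fun b hb => ?_⟩
  · obtain ⟨j, -, hj⟩ := (Ideal.IsPrime.prod_mem_iff (p := 𝔭)).1 h'
    exact hu j hj
  · rw [← hh] at hx
    induction hx using Submodule.span_induction with
    | mem x hx =>
      obtain ⟨k, rfl⟩ := hx
      rw [← Finset.mul_prod_erase Finset.univ _ (Finset.mem_univ k)]
      have : u k * (∏ x ∈ Finset.univ.erase k, u x) * h k =
        (∏ x ∈ Finset.univ.erase k, u x) * (u k * h k) := by ring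
      rw [this]
      exact Ideal.mul_mem_left _ _ (huk k)
    | zero => rw [mul_zero]; exact Ideal.zero_mem _
    | add x y _ _ hx hy => rw [mul_add]; exact Ideal.add_mem _ hx hy
    | smul r x _ hx =>
      rw [smul_eq_mul, mul_left_comm]
      exact Ideal.mul_mem_left _ _ hx
  · have h1 : ∑ i, Ideal.Quotient.mk I (b i) • v (a i) = 0 := by
      have h2 : ∑ i, b i • (⟨h (a i), hhI (a i)⟩ : I) = 0 := by
        apply Subtype.ext
        simpa only [AddSubmonoidClass.coe_finsetSum, Submodule.coe_smul, smul_eq_mul,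
          ZeroMemClass.coe_zero] using hb
      have h3 := congrArg I.toCotangent h2
      rw [map_zero, map_sum] at h3
      rw [← h3]
      refine Finset.sum_congr rfl fun i _ => ?_
      rw [map_smul]
      exact algebraMap_smul (P ⧸ I) (b i) _
    obtain ⟨t, ht, h2⟩ := hind _ h1
    obtain ⟨w, rfl⟩ := Ideal.Quotient.mk_surjective t
    refine ⟨w, fun hw => ht ((hmem w).2 hw), fun i => ?_⟩
    rw [← Ideal.Quotient.eq_zero_iff_mem, map_mul]
    exact h2 i

end Groth.Agent.Models.QuasiFree
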