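import Groth.Agent.Models.FibreDesc
import Groth.Agent.Models.QuasiFree
import Groth.Agent.Models.GciLen
import Groth.Agent.Models.KoszulBC2
import Groth.Agent.Flat2H.KoszulBC
import Groth.Agent.Etbase.FlatStageExplicit
import Mathlib.RingTheory.Adjoin.FG

/-!
# Ideals with flat conormal module and flat quotient in polynomial algebras are Koszul-regular

`A` any ring, `P = A[x₁, …, xₙ]`, `I` a finitely generated ideal of `P`, `P/I` flat over `A` and `I/I²` flat
over `P/I`: then `I` is Koszul-regular.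
-/

set_option autoImplicit false
universe u

open MvPolynomial RingTheory.Sequence

namespace Groth.Agent.Models.KoszulOfFlat

attribute [local instance] MvPolynomial.algebraMvPolynomial

section aux

/-- The cokernel of a matrix with one column. -/
theorem flat_fin_one_iff (A : Type*) {P : Type*} [CommRing A] [CommRing P] [Algebra A P] {s : ℕ}
    (k : Fin s → Fin 1 → P) :
    Module.Flat A ((Fin 1 → P) ⧸ Submodule.span P (Set.range k)) ↔
      Module.Flat A (P ⧸ Ideal.span (Set.range fun i => k i 0)) := by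
  let e : (Fin 1 → P) ≃ₗ[P] P := LinearEquiv.funUnique (Fin 1) P P
  have he : Submodule.map (e : (Fin 1 → P) →ₗ[P] P) (Submodule.span P (Set.range k)) =
      Ideal.span (Set.range fun i => k i 0) := by
    rw [Submodule.map_span, ← Set.range_comp]
    rfl
  let E : ((Fin 1 → P) ⧸ Submodule.span P (Set.range k)) ≃ₗ[P]
      (P ⧸ Ideal.span (Set.range fun i => k i 0)) := Submodule.Quotient.equiv _ _ e he
  let E' := E.restrictScalars A
  exact ⟨fun h => Module.Flat.of_linearEquiv E'.symm, fun h => Module.Flat.of_linearEquiv E'⟩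

/-- Localization of a flat quotient. -/
theorem flat_quotient_localization (A : Type*) {P : Type*} [CommRing A] [CommRing P] [Algebra A P]
    (I : Ideal P) [Module.Flat A (P ⧸ I)] (S : Submonoid P) (D : Type*) [CommRing D] [Algebra P D]
    [IsLocalization S D] [Algebra A D] [IsScalarTower A P D] :
    Module.Flat A (D ⧸ I.map (algebraMap P D)) := by
  have : Module.Flat (P ⧸ I) (D ⧸ I.map (algebraMap P D)) := by
    have : IsLocalization (Algebra.algebraMapSubmonoid (P ⧸ I) S) (D ⧸ I.map (algebraMap P D)) :=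
      inferInstance
    exact IsLocalization.flat _ (Algebra.algebraMapSubmonoid (P ⧸ I) S)
  have : IsScalarTower A (P ⧸ I) (D ⧸ I.map (algebraMap P D)) := by
    refine IsScalarTower.of_algebraMap_eq fun a => ?_
    change Ideal.Quotient.mk _ (algebraMap A D a) = Ideal.Quotient.mk _ (algebraMap P D (algebraMap A P a))
    rw [← IsScalarTower.algebraMap_apply]
  exact Module.Flat.trans A (P ⧸ I) _

end aux

/-- **Main theorem** (elementwise form at a prime). -/
theorem exists_koszul {A : Type u} [CommRing A] {n : ℕ} (I : Ideal (MvPolynomial (Fin n) A)) (hI : I.FG)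
    [Module.Flat A (MvPolynomial (Fin n) A ⧸ I)]
    [Module.Flat (MvPolynomial (Fin n) A ⧸ I) I.Cotangent]
    (𝔭 : Ideal (MvPolynomial (Fin n) A)) [𝔭.IsPrime] (hI𝔭 : I ≤ 𝔭) :
    ∃ G : MvPolynomial (Fin n) A, G ∉ 𝔭 ∧ ∃ l : List (Localization.Away G),
      LCI.IsKoszulRegularSeq (Localization.Away G) l ∧
        I.map (algebraMap _ (Localization.Away G)) = Ideal.span {x | x ∈ l} := by
  classical
  let P := MvPolynomial (Fin n) A
  obtain ⟨s, h, hh⟩ := Submodule.fg_iff_exists_fin_generating_family.1 hI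
  have hh' : Ideal.span (Set.range h) = I := hh
  have hhI : ∀ k, h k ∈ I := fun k => hh' ▸ Ideal.subset_span ⟨k, rfl⟩
  obtain ⟨c, a, g, hg, hgI, hind⟩ := QuasiFree.exists_quasi_free I h hh' 𝔭 hI𝔭
  -- the relations `g hₖ = ∑ eₖⱼ h (a j)`
  have he : ∀ k, ∃ e : Fin c → P, ∑ j, e j * h (a j) = g * h k := fun k =>
    Ideal.mem_span_range_iff_exists_fun.1 (hgI _ (hhI k))
  choose e he using he
  -- descent to a finitely generated subring
  let T : Finset A := g.coeffs ∪ Finset.univ.biUnion fun k => Finset.univ.biUnion fun j => (e k j).coeffs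
  have hflat1 : Module.Flat A ((Fin 1 → P) ⧸ Submodule.span P (Set.range fun k (_ : Fin 1) => h k)) := by
    rw [flat_fin_one_iff]
    change Module.Flat A (P ⧸ Ideal.span (Set.range h))
    rw [hh']
    infer_instance
  obtain ⟨A₀, S₀, k₀, hA₀, hT, hk₀, hflat₀⟩ :=
    Etbase.FlatStageExplicit.exists_subring_flat (fun k (_ : Fin 1) => h k) hflat1 T
  have hN : IsNoetherianRing A₀ := by
    rw [hA₀]
    exact is_noetherian_subring_closure _ S₀.finite_toSet
  let P₀ := MvPolynomial (Fin n) A₀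
  have hmap : ∀ x : P₀, algebraMap P₀ P x = MvPolynomial.map A₀.subtype x := fun _ => rfl
  have hinj : Function.Injective (algebraMap P₀ P) :=
    MvPolynomial.map_injective _ Subtype.val_injective
  let h₀ : Fin s → P₀ := fun k => k₀ k 0
  have hh₀ : ∀ k, algebraMap P₀ P (h₀ k) = h k := fun k => hk₀ k 0
  let I₀ : Ideal P₀ := Ideal.span (Set.range h₀)
  have hflatI₀ : Module.Flat A₀ (P₀ ⧸ I₀) := (flat_fin_one_iff A₀ k₀).1 hflat₀
  have hlift : ∀ x : P, (x.coeffs : Set A) ⊆ T → ∃ y : P₀, algebraMap P₀ P y = x := by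
    intro x hx
    have : x ∈ Set.range (MvPolynomial.map (σ := Fin n) A₀.subtype) := by
      rw [MvPolynomial.mem_range_map_iff_coeffs_subset]
      intro z hz
      exact ⟨⟨z, hT (hx hz)⟩, rfl⟩
    exact this
  obtain ⟨g₀, hg₀⟩ := hlift g (by
    intro x hx
    exact Finset.mem_coe.2 (Finset.mem_union_left _ hx))
  have he₀ : ∀ k j, ∃ y : P₀, algebraMap P₀ P y = e k j := fun k j => hlift _ (by
    intro x hx
    refine Finset.mem_coe.2 (Finset.mem_union_right _ ?_)
    exact Finset.mem_biUnion.2 ⟨k, Finset.mem_univ _, Finset.mem_biUnion.2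
      ⟨j, Finset.mem_univ _, hx⟩⟩)
  choose e₀ he₀ using he₀
  have hrel₀ : ∀ k, ∑ j, e₀ k j * h₀ (a j) = g₀ * h₀ k := by
    intro k
    apply hinj
    rw [map_sum, map_mul, hg₀, hh₀, ← he k]
    exact Finset.sum_congr rfl fun j _ => by rw [map_mul, he₀, hh₀]
  -- regularity in the local rings
  let rs : List P₀ := List.ofFn fun j => h₀ (a j)
  obtain ⟨𝔮, h𝔮p, h𝔮⟩ := FibreRing.exists_prime 𝔭
  have hreg := FibreSeq.isRegular_fibre 𝔮 h𝔮 I hI𝔭 (fun j => h (a j)) (fun j => hhI (a j)) g hg hgI hind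
  have hrsP : rs.map (algebraMap P₀ P) = List.ofFn fun j => h (a j) := by
    rw [List.map_ofFn]
    congr 1
    funext j
    exact hh₀ (a j)
  let 𝔭₀ := 𝔭.under P₀
  have hw : IsWeaklyRegular (Localization.AtPrime 𝔭₀)
      (rs.map (algebraMap P₀ (Localization.AtPrime 𝔭₀))) := by
    refine FibreDesc.isWeaklyRegular_localization 𝔭 𝔮 h𝔮 rs ?_ ?_
    · intro r hr
      have h1 : algebraMap P₀ P r ∈ rs.map (algebraMap P₀ P) := List.mem_map_of_mem hr
      rw [hrsP, List.mem_ofFn'] at h1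
      obtain ⟨j, hj⟩ := h1
      rw [← hj]
      exact hI𝔭 (hhI _)
    · rw [hrsP, List.map_ofFn]
      exact hreg.toIsWeaklyRegular
  obtain ⟨g₂, hg₂, hw₂⟩ := RegSpread.exists_away 𝔭₀ rs hw
  let G₀ : P₀ := g₀ * g₂
  have hg₀𝔭 : g₀ ∉ 𝔭₀ := by
    intro h1
    have h2 : algebraMap P₀ P g₀ ∈ 𝔭 := h1
    rw [hg₀] at h2
    exact hg h2
  have hG₀ : G₀ ∉ 𝔭₀ := fun h1 => (Ideal.IsPrime.mem_or_mem inferInstance h1).elim hg₀𝔭 hg₂
  let D₀ := Localization.Away G₀
  have hw₃ : IsWeaklyRegular D₀ (rs.map (algebraMap P₀ D₀)) := hw₂ G₀ (Dvd.intro_left g₀ rfl)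
  have hK₀ : LCI.IsKoszulRegularSeq D₀ (rs.map (algebraMap P₀ D₀)) :=
    Flat2H.KoszulBC.isKoszulRegularSeq_of_isWeaklyRegular hw₃
  -- the ideals
  have hI₀ : Ideal.ofList (rs.map (algebraMap P₀ D₀)) = I₀.map (algebraMap P₀ D₀) := by
    apply le_antisymm
    · rw [Ideal.ofList, Ideal.span_le]
      intro x hx
      obtain ⟨y, hy, rfl⟩ := List.mem_map.1 hx
      rw [List.mem_ofFn'] at hy
      obtain ⟨j, rfl⟩ := hy
      exact Ideal.mem_map_of_mem _ (Ideal.subset_span ⟨a j, rfl⟩)
    · rw [Ideal.map_span, Ideal.span_le]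
      rintro _ ⟨_, ⟨k, rfl⟩, rfl⟩
      have hu : IsUnit (algebraMap P₀ D₀ g₀) := by
        have := IsLocalization.map_units (M := Submonoid.powers G₀) D₀ ⟨G₀, Submonoid.mem_powers _⟩
        rw [map_mul] at this
        exact isUnit_of_mul_isUnit_left this
      have h1 : algebraMap P₀ D₀ (g₀ * h₀ k) ∈ Ideal.ofList (rs.map (algebraMap P₀ D₀)) := by
        rw [← hrel₀, map_sum]
        refine Ideal.sum_mem _ fun j _ => ?_
        rw [map_mul]
        refine Ideal.mul_mem_left _ _ (Ideal.subset_span ?_)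
        exact List.mem_map_of_mem ((List.mem_ofFn' _ _).2 ⟨j, rfl⟩)
      rw [map_mul] at h1
      exact (Ideal.unit_mul_mem_iff_mem _ hu).1 h1
  have hflatD₀ : Module.Flat A₀ D₀ := Module.Flat.trans A₀ P₀ D₀
  have hflatQ₀ : Module.Flat A₀ (D₀ ⧸ Ideal.ofList (rs.map (algebraMap P₀ D₀))) := by
    rw [hI₀]
    exact flat_quotient_localization A₀ I₀ (Submonoid.powers G₀) D₀
  -- base change
  let G : P := algebraMap P₀ P G₀
  let D := Localization.Away G
  letI : Algebra D₀ D := (Localization.awayMap (algebraMap P₀ P) G₀).toAlgebra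
  have hDD' : ∀ x : P₀, algebraMap D₀ D (algebraMap P₀ D₀ x) = algebraMap P D (algebraMap P₀ P x) :=
    fun x => IsLocalization.map_eq (S := D₀) (Q := D) (g := algebraMap P₀ P)
      (M := Submonoid.powers G₀) (T := Submonoid.powers G)
      (by rw [← Submonoid.map_le_iff_le_comap, Submonoid.map_powers]) x
  have h1 : IsScalarTower P₀ D₀ D := IsScalarTower.of_algebraMap_eq fun x => by
    rw [hDD', ← IsScalarTower.algebraMap_apply]
  have h2 : IsScalarTower A₀ D₀ D := IsScalarTower.of_algebraMap_eq fun x => by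
    rw [IsScalarTower.algebraMap_apply A₀ P₀ D₀, ← IsScalarTower.algebraMap_apply P₀ D₀ D,
      ← IsScalarTower.algebraMap_apply A₀ P₀ D]
  have h3 : Algebra.IsPushout A₀ A D₀ D := GciLen.isPushout_away (P := P₀) (Pκ := P) G₀ D₀ D
  have hK : LCI.IsKoszulRegularSeq D ((rs.map (algebraMap P₀ D₀)).map (algebraMap D₀ D)) :=
    KoszulBC2.isKoszulRegularSeq_map (A := A₀) (P := D₀) A _ hK₀
  refine ⟨G, fun hG => hG₀ hG, _, hK, ?_⟩
  have hlist : (rs.map (algebraMap P₀ D₀)).map (algebraMap D₀ D) =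
      (List.ofFn fun j => h (a j)).map (algebraMap P D) := by
    rw [← hrsP, List.map_map, List.map_map]
    exact List.map_congr_left fun x _ => hDD' x
  rw [hlist]
  apply le_antisymm
  · rw [Ideal.map_le_iff_le_comap]
    intro x hx
    have hu : IsUnit (algebraMap P D g) := by
      have := IsLocalization.map_units (M := Submonoid.powers G) D ⟨G, Submonoid.mem_powers _⟩
      rw [show (((⟨G, Submonoid.mem_powers _⟩ : Submonoid.powers G)) : P) = g * algebraMap P₀ P g₂ by
        change algebraMap P₀ P (g₀ * g₂) = _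
        rw [map_mul, hg₀], map_mul] at this
      exact isUnit_of_mul_isUnit_left this
    obtain ⟨z, hz⟩ := Ideal.mem_span_range_iff_exists_fun.1 (hgI x hx)
    have h1 : algebraMap P D (g * x) ∈
        Ideal.span {x | x ∈ (List.ofFn fun j => h (a j)).map (algebraMap P D)} := by
      rw [← hz, map_sum]
      refine Ideal.sum_mem _ fun j _ => ?_
      rw [map_mul]
      refine Ideal.mul_mem_left _ _ (Ideal.subset_span ?_)
      exact List.mem_map_of_mem ((List.mem_ofFn' _ _).2 ⟨j, rfl⟩)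
    rw [map_mul] at h1
    exact (Ideal.unit_mul_mem_iff_mem _ hu).1 h1
  · rw [Ideal.span_le]
    intro x hx
    obtain ⟨y, hy, rfl⟩ := List.mem_map.1 hx
    rw [List.mem_ofFn'] at hy
    obtain ⟨j, rfl⟩ := hy
    exact Ideal.mem_map_of_mem _ (hhI (a j))

theorem isKoszulRegularIdeal {A : Type u} [CommRing A] {n : ℕ} (I : Ideal (MvPolynomial (Fin n) A))
    (hI : I.FG) [Module.Flat A (MvPolynomial (Fin n) A ⧸ I)]
    [Module.Flat (MvPolynomial (Fin n) A ⧸ I) I.Cotangent] : LCI.IsKoszulRegularIdeal I :=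
  fun 𝔭 hI𝔭 => exists_koszul I hI 𝔭.asIdeal hI𝔭

end Groth.Agent.Models.KoszulOfFlat
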