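import Groth.Agent.LoccohB.LocDualHull
import Groth.Agent.LoccohA.LCTComp
import Groth.Agent.Localalg.Matlis5

/-!
# Grothendieck local duality over a complete local ring
-/

set_option autoImplicit false
universe v w u
open CategoryTheory Limits Opposite Pretriangulated
attribute [local instance] HasDerivedCategory.standard

namespace Groth.Agent.Models.LocDualComp

open Groth.Agent.LoccohB.LocDualBasic Groth.Agent.LoccohB.LocDualDev Groth.Agent.LoccohB.LocDualVan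
  Groth.Agent.LoccohB.LocDualTors Groth.Agent.LoccohB.LocDualElt Groth.Agent.LoccohB.LocDualLoc
  Groth.Agent.LoccohB.LocDualInj Groth.Agent.LoccohB.LocDualBaer Groth.Agent.LoccohB.LocDualMod
  Groth.Agent.LoccohB.LocDualCx Groth.Agent.LoccohB.LocDualFinal Groth.Agent.LoccohB.LocDualHull
open IsLocalRing

variable {A : Type u} [CommRing A] [IsLocalRing A] [IsNoetherianRing A]

/-- If the pairing is perfect for `K[i]` and `Hom(K[i], ω)` is finite, then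
`Hom(K, ω[-i])` is the dual of `H^i_m(K)`. -/
theorem core [IsAdicComplete (maximalIdeal A) A] (ω : Dual.D A) (hω : Dual.IsDualizing A ω)
    (hn : Dual.IsNormalized A ω) (E : Type u) [AddCommGroup E] [Module A E]
    (f : ResidueField A →ₗ[A] E) (hf : InjHull.IsInjectiveHull f) (K : Dual.D A) (i : ℤ)
    (hB : B (maximalIdeal A) ω (K⟦i⟧)) (hX : Module.Finite A (K ⟶ ω⟦(-i)⟧)) :
    Nonempty ((K ⟶ ω⟦(-i)⟧) ≃ₗ[A] (Dual2.HDI A (maximalIdeal A) K i →ₗ[A] E)) := by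
  obtain ⟨h3, ⟨e, he1, he2⟩, hfin⟩ := normData ω hω hn
  obtain ⟨ψ⟩ := nonempty_equiv_HL ω h3 e he1 he2 E f hf
  let ε : (K ⟶ ω⟦(-i)⟧) ≃ₗ[A] (K⟦i⟧ ⟶ ω) := shiftEquiv K ω i (-i) (by omega)
  let Φ : HL (maximalIdeal A) (K⟦i⟧) ≃ₗ[A] ((K⟦i⟧ ⟶ ω) →ₗ[A] HL (maximalIdeal A) ω) :=
    LinearEquiv.ofBijective (Phi (maximalIdeal A) ω (K⟦i⟧)) hB
  let α : Dual2.HDI A (maximalIdeal A) K i ≃ₗ[A] ((K ⟶ ω⟦(-i)⟧) →ₗ[A] E) :=
    ((locEquiv (K⟦i⟧)).trans Φ).trans (LinearEquiv.arrowCongr ε.symm ψ.symm)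
  let β : (K ⟶ ω⟦(-i)⟧) ≃ₗ[A] (((K ⟶ ω⟦(-i)⟧) →ₗ[A] E) →ₗ[A] E) :=
    LinearEquiv.ofBijective _ (Groth.Agent.Localalg.Matlis.applyₗ_bijective_of_finite hf _)
  exact ⟨β.trans (LinearEquiv.arrowCongr α.symm (LinearEquiv.refl A E))⟩

end Groth.Agent.Models.LocDualComp
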