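import Groth.Prelude.Def_LCI2
import Groth.Agent.Models.DoubleCx

/-!
The naive cotangent complex can be computed by any presentation (up to homotopy).
-/

open CategoryTheory Limits

universe u

namespace Groth.Agent.Models.NLBasic

open Groth.Agent.Models.DoubleCx

attribute [local instance] HasDerivedCategory.standard

variable {A B : Type u} [CommRing A] [CommRing B] [Algebra A B]

/-- The naive cotangent complex of an extension `P → B` of `A`-algebras. -/
noncomputable def nlcx (P : Algebra.Extension.{u} A B) : DRing.Cx B :=
  dbl (ModuleCat.ofHom P.cotangentComplex)

lemma NLcx_eq : LCI.NLcx A B = nlcx (Algebra.Generators.self A B).toExtension := rfl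

/-- Two extensions with maps in both directions have homotopy equivalent naive cotangent complexes. -/
noncomputable def nlcxEquiv {P P' : Algebra.Extension.{u} A B} (f : P.Hom P') (g : P'.Hom P) :
    HomotopyEquiv (nlcx P) (nlcx P') :=
  dblHomotopyEquiv
    (ModuleCat.ofHom (Algebra.Extension.Cotangent.map f))
    (ModuleCat.ofHom (Algebra.Extension.CotangentSpace.map f))
    (by
      ext x
      exact (Algebra.Extension.CotangentSpace.map_cotangentComplex f x).symm)
    (ModuleCat.ofHom (Algebra.Extension.Cotangent.map g))
    (ModuleCat.ofHom (Algebra.Extension.CotangentSpace.map g))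
    (by
      ext x
      exact (Algebra.Extension.CotangentSpace.map_cotangentComplex g x).symm)
    (ModuleCat.ofHom ((g.comp f).sub (.id P)))
    (by
      refine ModuleCat.hom_ext (LinearMap.ext fun x => ?_)
      have := LinearMap.congr_fun (Algebra.Extension.Cotangent.map_sub_map (g.comp f) (.id P)) x
      rw [Algebra.Extension.Cotangent.map_comp, Algebra.Extension.Cotangent.map_id] at this
      simpa [sub_eq_iff_eq_add] using this)
    (by
      refine ModuleCat.hom_ext (LinearMap.ext fun x => ?_)
      have := LinearMap.congr_fun
        (Algebra.Extension.CotangentSpace.map_sub_map (g.comp f) (.id P)) x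
      rw [Algebra.Extension.CotangentSpace.map_comp, Algebra.Extension.CotangentSpace.map_id]
        at this
      simpa [sub_eq_iff_eq_add] using this)
    (ModuleCat.ofHom ((f.comp g).sub (.id P')))
    (by
      refine ModuleCat.hom_ext (LinearMap.ext fun x => ?_)
      have := LinearMap.congr_fun (Algebra.Extension.Cotangent.map_sub_map (f.comp g) (.id P')) x
      rw [Algebra.Extension.Cotangent.map_comp, Algebra.Extension.Cotangent.map_id] at this
      simpa [sub_eq_iff_eq_add] using this)
    (by
      refine ModuleCat.hom_ext (LinearMap.ext fun x => ?_)
      have := LinearMap.congr_fun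
        (Algebra.Extension.CotangentSpace.map_sub_map (f.comp g) (.id P')) x
      rw [Algebra.Extension.CotangentSpace.map_comp, Algebra.Extension.CotangentSpace.map_id]
        at this
      simpa [sub_eq_iff_eq_add] using this)

/-- Homotopy equivalent complexes are isomorphic in the derived category. -/
noncomputable def toDIso {K L : DRing.Cx B} (e : HomotopyEquiv K L) : DRing.toD K ≅ DRing.toD L :=
  haveI : QuasiIso e.hom := inferInstance
  asIso (DerivedCategory.Q.map e.hom)

/-- The naive cotangent complex may be computed by any presentation by a polynomial ring. -/
noncomputable def NLIso {ι : Type u} (P : Algebra.Generators A B ι) :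
    LCI.NL A B ≅ DRing.toD (nlcx P.toExtension) :=
  toDIso (nlcxEquiv (Algebra.Generators.defaultHom (Algebra.Generators.self A B) P).toExtensionHom
    (Algebra.Generators.defaultHom P (Algebra.Generators.self A B)).toExtensionHom)

end Groth.Agent.Models.NLBasic
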