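import Groth.Agent.Models.NLMain
import Mathlib.RingTheory.Flat.Localization

/-!
`NL_{B/A}` has tor-amplitude in `[-1, 0]` iff `I/I²` is flat over `A[x_i]/I`, `I` the kernel of a
presentation.
-/

open CategoryTheory Limits

universe u

namespace Groth.Agent.Models.NLIdeal

attribute [local instance] HasDerivedCategory.standard

/-- Flatness over the source and the target of a bijective ring map. -/
lemma flat_iff_of_bijective {R S : Type*} [CommRing R] [CommRing S] [Algebra R S]
    (h : Function.Bijective (algebraMap R S)) (M : Type*) [AddCommGroup M] [Module R M]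
    [Module S M] [IsScalarTower R S M] : Module.Flat S M ↔ Module.Flat R M := by
  have : IsLocalization (⊥ : Submonoid R) S :=
    IsLocalization.of_le_isUnit_of_bijective (by simp [Algebra.algebraMapSubmonoid]) h
  exact Module.flat_iff_of_isLocalization S (⊥ : Submonoid R) M

lemma flat_iff_of_surjective {R B : Type*} [CommRing R] [CommRing B] [Algebra R B]
    (hs : Function.Surjective (algebraMap R B)) (I : Ideal R)
    (hI : RingHom.ker (algebraMap R B) = I) {M N : Type*} [AddCommGroup M] [Module R M]
    [Module B M] [IsScalarTower R B M] [AddCommGroup N] [Module R N] [Module (R ⧸ I) N]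
    [IsScalarTower R (R ⧸ I) N] (e : M ≃ₗ[R] N) : Module.Flat B M ↔ Module.Flat (R ⧸ I) N := by
  let φ : R ⧸ I →+* B := Ideal.Quotient.lift I (algebraMap R B) (fun a ha => by
    rw [← hI] at ha
    exact ha)
  have hφ : Function.Bijective φ := by
    constructor
    · rw [injective_iff_map_eq_zero]
      intro a ha
      obtain ⟨a, rfl⟩ := Ideal.Quotient.mk_surjective a
      rw [Ideal.Quotient.lift_mk] at ha
      rw [Ideal.Quotient.eq_zero_iff_mem, ← hI]
      exact ha
    · intro b
      obtain ⟨a, rfl⟩ := hs b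
      exact ⟨Ideal.Quotient.mk I a, by simp [φ]⟩
  let : Algebra (R ⧸ I) B := φ.toAlgebra
  let : Module (R ⧸ I) M := Module.compHom M φ
  have : IsScalarTower (R ⧸ I) B M := ⟨fun a b m => by
    change (φ a * b) • m = φ a • b • m
    rw [mul_smul]⟩
  have : IsScalarTower R (R ⧸ I) M := ⟨fun a b m => by
    obtain ⟨b, rfl⟩ := Ideal.Quotient.mk_surjective b
    change φ (a • Ideal.Quotient.mk I b) • m = a • (φ (Ideal.Quotient.mk I b) • m)
    rw [← algebraMap_smul B a (φ (Ideal.Quotient.mk I b) • m), ← mul_smul]
    congr 1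
    rw [Algebra.smul_def, map_mul]
    rfl⟩
  rw [flat_iff_of_bijective (R := R ⧸ I) (S := B) hφ M]
  exact Module.Flat.equiv_iff (e.extendScalarsOfSurjective
    (Ideal.Quotient.mk_surjective (I := I)))

variable {A B : Type u} [CommRing A] [CommRing B] [Algebra A B]

lemma flat_cotangent_iff (E : Algebra.Extension.{u} A B) :
    Module.Flat B E.Cotangent ↔ Module.Flat (E.Ring ⧸ E.ker) E.ker.Cotangent := by
  let e : E.Cotangent ≃ₗ[E.Ring] E.ker.Cotangent :=
    { __ := AddEquiv.refl _, map_smul' := Algebra.Extension.Cotangent.val_smul' }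
  exact flat_iff_of_surjective (R := E.Ring) E.algebraMap_surjective E.ker rfl e

/-- `NL_{B/A}` has tor-amplitude in `[-1, 0]` iff `I/I²` is flat. -/
theorem hasTorAmplitudeIn_NL_iff_ker {ι : Type} (f : MvPolynomial ι A →ₐ[A] B)
    (hf : Function.Surjective f) :
    DRing.HasTorAmplitudeIn B (-1) 0 (LCI.NL A B) ↔
      Module.Flat (MvPolynomial ι A ⧸ RingHom.ker f.toRingHom)
        (RingHom.ker f.toRingHom).Cotangent := by
  let P : Algebra.Generators A B ι := Algebra.Generators.ofAlgHom f hf
  rw [NLMain.hasTorAmplitudeIn_NL_iff P, flat_cotangent_iff P.toExtension]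
  have hk : P.ker = RingHom.ker f.toRingHom := Algebra.Generators.ker_ofAlgHom f hf
  rw [← hk]
  exact Iff.rfl

end Groth.Agent.Models.NLIdeal
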