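import Groth.Agent.Models.NLBasic
import Groth.Agent.Models.NLFlat

/-!
`NL_{B/A}` has tor-amplitude in `[-1, 0]` iff `I/I²` is flat for a presentation `A[x_i]/I = B`.
-/

open CategoryTheory Limits

universe u

namespace Groth.Agent.Models.NLMain

open Groth.Agent.Models.DoubleCx Groth.Agent.Models.NLBasic Groth.Agent.Models.NLFlat

attribute [local instance] HasDerivedCategory.standard

variable {A B : Type u} [CommRing A] [CommRing B] [Algebra A B]

lemma hasTorAmplitudeIn_of_iso {a b : ℤ} {K L : Dual.D B} (e : K ≅ L)
    (h : DRing.HasTorAmplitudeIn B a b K) : DRing.HasTorAmplitudeIn B a b L := by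
  obtain ⟨E, h1, h2, ⟨e'⟩⟩ := h
  exact ⟨E, h1, h2, ⟨e' ≪≫ e⟩⟩

/-- The naive cotangent complex may be computed by any presentation by a polynomial ring in
`Type`-many variables. -/
noncomputable def NLIso' {ι : Type} (P : Algebra.Generators A B ι) :
    LCI.NL A B ≅ DRing.toD (nlcx P.toExtension) :=
  toDIso (nlcxEquiv (Algebra.Generators.defaultHom (Algebra.Generators.self A B) P).toExtensionHom
    (Algebra.Generators.defaultHom P (Algebra.Generators.self A B)).toExtensionHom)

/-- `NL_{B/A}` has tor-amplitude in `[-1, 0]` iff `I/I²` is flat. -/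
theorem hasTorAmplitudeIn_NL_iff {ι : Type} (P : Algebra.Generators A B ι) :
    DRing.HasTorAmplitudeIn B (-1) 0 (LCI.NL A B) ↔ Module.Flat B P.toExtension.Cotangent := by
  constructor
  · intro h
    have h1 : DRing.HasTorAmplitudeIn B (-1) 0 (DRing.toD (nlcx P.toExtension)) :=
      hasTorAmplitudeIn_of_iso (NLIso' P) h
    have : Projective (ModuleCat.of B P.toExtension.CotangentSpace) := inferInstance
    exact flat_of_hasTorAmplitudeIn (ModuleCat.ofHom P.toExtension.cotangentComplex) h1
  · intro h
    have h0 : Module.Flat B (ModuleCat.of B P.toExtension.Cotangent) := h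
    have h0' : Module.Flat B (ModuleCat.of B P.toExtension.CotangentSpace) :=
      inferInstanceAs (Module.Flat B P.toExtension.CotangentSpace)
    exact hasTorAmplitudeIn_of_iso (NLIso' P).symm
      (hasTorAmplitudeIn_dbl (ModuleCat.ofHom P.toExtension.cotangentComplex))

end Groth.Agent.Models.NLMain
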