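import Groth.Agent.Models.NodeStep
import Groth.Agent.S2227
import Groth.Agent.S0065

/-!
A bound for the thickness of the nodes of a nodal family over a discrete valuation ring with regular
generic part (`exists_bound`).
-/

set_option autoImplicit false
universe u

open CategoryTheory CategoryTheory.Limits AlgebraicGeometry

namespace Groth.Agent.Models.NodeBound

open Groth.Agent.Models.NodeRing Groth.Agent.Models.NodeBlow Groth.Agent.Models.NodeStep

section Unit

variable (D : Type u) [CommRing D] (a : D)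

theorem isUnit_uu (ha : IsUnit a) : IsUnit (uu D a) := by
  have h : IsUnit (uu D a * vv D a) := by
    rw [uu_mul_vv]
    exact ha.map _
  exact isUnit_of_mul_isUnit_left h

theorem bijective_toS (ha : IsUnit a) : Function.Bijective (toS D a) := by
  let _ := (toS D a).toAlgebra
  have := isLocalization_toS D a
  exact (IsLocalization.atUnit (W D a) (Localization.Away (Polynomial.X : Polynomial D)) (uu D a)
    (isUnit_uu D a ha)).bijective

/-- The open immersion `Spec D[u,1/u] → Spec D[u,v]/(uv - b)`. -/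
theorem exists_open (b : D) (ha : IsUnit a) :
    ∃ (j : Spec (CommRingCat.of (W D a)) ⟶ Spec (CommRingCat.of (W D b))) (_ : IsOpenImmersion j),
      j ≫ str D b = str D a ∧ ∀ w : Spec (CommRingCat.of (W D b)), uu D b ∉ w.asIdeal →
        ∃ z, j z = w := by
  let e : W D a ≃+* Localization.Away (Polynomial.X : Polynomial D) :=
    RingEquiv.ofBijective (toS D a) (bijective_toS D a ha)
  let φ : W D b →+* W D a := e.symm.toRingHom.comp (toS D b)
  have hφ : ∀ d, φ (algebraMap D (W D b) d) = algebraMap D (W D a) d := by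
    intro d
    apply e.injective
    change e (e.symm (toS D b (algebraMap D (W D b) d))) = toS D a (algebraMap D (W D a) d)
    rw [RingEquiv.apply_symm_apply, toS, toS, lift_algebraMap, lift_algebraMap]
  let _ := φ.toAlgebra
  have hloc : IsLocalization.Away (uu D b) (W D a) := by
    let _ := (toS D b).toAlgebra
    have h1 := isLocalization_toS D b
    let e' : Localization.Away (Polynomial.X : Polynomial D) ≃ₐ[W D b] W D a :=
      AlgEquiv.ofRingEquiv (f := e.symm) (fun r => rfl)
    exact IsLocalization.isLocalization_of_algEquiv _ e'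
  refine ⟨Spec.map (CommRingCat.ofHom φ), ?_, ?_, ?_⟩
  · exact IsOpenImmersion.of_isLocalization (R := W D b) (S := W D a) (uu D b)
  · rw [← Spec.map_comp, ← CommRingCat.ofHom_comp]
    congr 2
    ext d
    exact hφ d
  · intro w hw
    have h2 : w ∈ Set.range (PrimeSpectrum.comap (algebraMap (W D b) (W D a))) := by
      rw [PrimeSpectrum.localization_away_comap_range (W D a) (uu D b)]
      exact hw
    exact h2

end Unit

section Zero

variable {D : Type u} [CommRing D] [IsDomain D] {b : D}

/-- The prime `(u, v)` of `D[u,v]/(uv)`. -/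
theorem exists_point (hb : b = 0) : ∃ q : Spec (CommRingCat.of (W D b)), uu D b ∈ q.asIdeal ∧
    vv D b ∈ q.asIdeal ∧ (∀ d : D, algebraMap D (W D b) d ∈ q.asIdeal → d = 0) ∧
    ∀ w : Spec (CommRingCat.of (W D b)), uu D b ∈ w.asIdeal → vv D b ∈ w.asIdeal → q ⤳ w := by
  let ψ : W D b →+* D := NodeRing.lift (RingHom.id D) 0 0 (by simp [hb])
  have hP : (RingHom.ker ψ).IsPrime := RingHom.ker_isPrime ψ
  refine ⟨⟨RingHom.ker ψ, hP⟩, ?_, ?_, ?_, ?_⟩
  · change uu D b ∈ RingHom.ker ψ
    rw [RingHom.mem_ker]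
    simp [ψ]
  · change vv D b ∈ RingHom.ker ψ
    rw [RingHom.mem_ker]
    simp [ψ]
  · intro d hd
    have h : ψ (algebraMap D _ d) = 0 := (RingHom.mem_ker).1 hd
    simpa [ψ] using h
  · intro w hu hv
    refine (PrimeSpectrum.le_iff_specializes _ _).1 ?_
    intro x hx
    obtain ⟨d, hd⟩ := exists_sub_mem x
    have h0 : ψ x = 0 := (RingHom.mem_ker).1 hx
    have hle : Ideal.span {uu D b, vv D b} ≤ RingHom.ker ψ := by
      rw [Ideal.span_le]
      rintro x (rfl | rfl)
      · simp [ψ]
      · simp [ψ]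
    have h1 : ψ (x - algebraMap D _ d) = 0 := hle hd
    have h2 : d = 0 := by
      rw [map_sub, h0, zero_sub, neg_eq_zero] at h1
      simpa [ψ] using h1
    have h3 : algebraMap D (W D b) d = 0 := by rw [h2, map_zero]
    rw [h3, sub_zero] at hd
    have hle' : Ideal.span {uu D b, vv D b} ≤ w.asIdeal := by
      rw [Ideal.span_le]
      rintro x (rfl | rfl)
      · exact hu
      · exact hv
    exact hle' hd

end Zero

/-- A chart over the locus `u ≠ 0` of `uv = b`. -/
theorem exists_chart_of_uu {R : Type u} [CommRing R] {D : Type u} [CommRing D] [IsDomain D]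
    [IsDiscreteValuationRing D] [Algebra R D] [Algebra.Etale R D] (ϖ : R)
    (ht : Irreducible (algebraMap R D ϖ)) (b : D) {X U : Scheme.{u}} (p : X ⟶ Spec (CommRingCat.of R))
    (e : U ⟶ X) [Etale e] (g : U ⟶ Spec (CommRingCat.of (W D b))) [Etale g]
    (hge : g ≫ str D b ≫ Spec.map (CommRingCat.ofHom (algebraMap R D)) = e ≫ p) (y : U)
    (hy : uu D b ∉ (g y).asIdeal) :
    ∃ V : X.Opens, e y ∈ V ∧ ∀ z ∈ V, HasChart R ϖ p 0 z := by
  obtain ⟨j, hj, hjs, hjr⟩ := exists_open D (algebraMap R D ϖ ^ 0) b (by rw [pow_zero]; exact isUnit_one)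
  obtain ⟨z, hz⟩ := hjr _ hy
  obtain ⟨y', hy'1, -⟩ := Scheme.Pullback.exists_preimage_pullback (f := g) (g := j) y z hz.symm
  let e' : pullback g j ⟶ X := pullback.fst g j ≫ e
  have he' : Etale e' := inferInstance
  have hop : IsOpenMap e' := e'.isOpenMap
  refine ⟨⟨Set.range e', hop.isOpen_range⟩, ⟨y', ?_⟩, ?_⟩
  · rw [← hy'1]
    rfl
  · rintro x ⟨x', hx'⟩
    refine ⟨D, inferInstance, inferInstance, inferInstance, inferInstance, inferInstance, ht, 0, le_rfl,
      pullback g j, e', he', x', hx', pullback.snd g j, inferInstance, ?_⟩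
    rw [← hjs, ← Category.assoc, ← Category.assoc, ← pullback.condition, Category.assoc, Category.assoc,
      hge, Category.assoc]

theorem exists_local_bound (R : Type u) [CommRing R] [IsDomain R] [IsDiscreteValuationRing R] (ϖ : R)
    (hϖ : Irreducible ϖ) (X : Scheme.{u}) (p : X ⟶ Spec (CommRingCat.of R)) (hp : Curv2.IsNodalFamily p)
    (hgen : ∀ x : X, p x ≠ IsLocalRing.closedPoint R → IsRegularLocalRing (X.presheaf.stalk x))
    (x : X) (hx : p x = IsLocalRing.closedPoint R) :
    ∃ (N : ℕ) (V : X.Opens), x ∈ V ∧ ∀ z ∈ V, HasChart R ϖ p N z := by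
  have hlfp := hp.2.1
  have hRn : IsNoetherianRing (CommRingCat.of R) := inferInstanceAs (IsNoetherianRing R)
  have hXn : IsLocallyNoetherian X := LocallyOfFiniteType.isLocallyNoetherian p
  obtain ⟨D, i1, i2, i3, i4, i5, ht, h, hh, U, e, he, y, hy, g, hg, hge⟩ :=
    Groth.Agent.S2227.result R ϖ hϖ X p hp x hx
  have hhC : ∃ b : D, h = MvPolynomial.C b ∧ (b = 0 ∨ ∃ n : ℕ, b = algebraMap R D ϖ ^ n) := by
    rcases hh with rfl | ⟨n, rfl⟩
    · exact ⟨0, (map_zero _).symm, Or.inl rfl⟩
    · exact ⟨_, rfl, Or.inr ⟨n, rfl⟩⟩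
  obtain ⟨b, rfl, hb⟩ := hhC
  have hge' : g ≫ str D b ≫ Spec.map (CommRingCat.ofHom (algebraMap R D)) = e ≫ p := by
    rw [← hge]
    congr 1
    rw [← Spec.map_comp]
    rfl
  clear hge
  rcases hb with hb | ⟨n, rfl⟩
  · -- the case `h = 0`
    refine ⟨0, ?_⟩
    by_cases hu : uu D b ∉ (g y).asIdeal
    · rw [← hy]
      exact exists_chart_of_uu ϖ ht b p e g hge' y hu
    by_cases hv : vv D b ∉ (g y).asIdeal
    · let σ : Spec (CommRingCat.of (W D b)) ⟶ Spec (CommRingCat.of (W D b)) :=
        Spec.map (CommRingCat.ofHom (swap D b).toRingHom)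
      have hσ : IsIso σ := by
        have : IsIso (CommRingCat.ofHom (swap D b).toRingHom) :=
          (ConcreteCategory.isIso_iff_bijective _).2 (swap D b).bijective
        infer_instance
      rw [← hy]
      refine exists_chart_of_uu ϖ ht b p e (g ≫ σ) ?_ y ?_
      · rw [← hge', Category.assoc]
        congr 1
        rw [← Category.assoc]
        congr 1
        rw [← Spec.map_comp, ← CommRingCat.ofHom_comp]
        congr 2
        ext d
        exact swap_algebraMap D b d
      · intro hcon
        apply hv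
        have h1 : swap D b (uu D b) ∈ (g y).asIdeal := hcon
        rwa [swap_uu] at h1
    push Not at hu hv
    exfalso
    obtain ⟨q, hqu, hqv, hq0, hqs⟩ := exists_point hb
    obtain ⟨y', hy', hgy'⟩ := Flat.generalizingMap g (hqs _ hu hv)
    have h1 : p (e y') ≠ IsLocalRing.closedPoint R := by
      intro hcon
      have h2 : ϖ ∈ (p (e y')).asIdeal := by
        rw [hcon]
        change ϖ ∈ IsLocalRing.maximalIdeal R
        exact hϖ.not_isUnit
      have h3 : p (e y') = (str D b ≫ Spec.map (CommRingCat.ofHom (algebraMap R D))) (g y') :=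
        (congrArg (fun k : U ⟶ _ => k y') hge').symm
      rw [h3, hgy'] at h2
      exact ht.ne_zero (hq0 _ h2)
    have h2 := hgen _ h1
    have h3 := (Groth.Agent.S0065.result e y').2 h2
    have hWn : IsLocallyNoetherian (Spec (CommRingCat.of (W D b))) := by
      have : IsNoetherianRing (CommRingCat.of (W D b)) := inferInstanceAs (IsNoetherianRing (W D b))
      infer_instance
    have h4 := (Groth.Agent.S0065.result g y').1 h3
    have h5 : IsRegularLocalRing ((Spec (CommRingCat.of (W D b))).presheaf.stalk q) := by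
      have : g.base y' = q := hgy'
      rwa [this] at h4
    have hqp : q.asIdeal.IsPrime := q.isPrime
    exact NodeRing.not_isRegular_zero hb q.asIdeal hqu hqv ((stalk_isRegular_iff q).1 h5)
  · have hop : IsOpenMap e := e.isOpenMap
    refine ⟨n, ⟨Set.range e, hop.isOpen_range⟩, ⟨y, hy⟩, ?_⟩
    rintro z ⟨y', hy'⟩
    exact ⟨D, i1, i2, i3, i4, i5, ht, n, le_rfl, U, e, he, y', hy', g, hg, hge'⟩

/-- A bound for the thickness of the nodes. -/
theorem exists_bound (R : Type u) [CommRing R] [IsDomain R] [IsDiscreteValuationRing R] (ϖ : R)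
    (hϖ : Irreducible ϖ) (X : Scheme.{u}) (p : X ⟶ Spec (CommRingCat.of R)) [QuasiCompact p]
    (hp : Curv2.IsNodalFamily p)
    (hgen : ∀ x : X, p x ≠ IsLocalRing.closedPoint R → IsRegularLocalRing (X.presheaf.stalk x)) :
    ∃ N : ℕ, ∀ x : X, p x = IsLocalRing.closedPoint R → HasChart R ϖ p N x := by
  have hX : CompactSpace X := QuasiCompact.compactSpace_of_compactSpace p
  have hcl : IsClosed {x : X | p x = IsLocalRing.closedPoint R} :=
    (IsLocalRing.isClosed_singleton_closedPoint (R := R)).preimage p.continuous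
  have key : ∃ N : ℕ, ∀ x ∈ {x : X | p x = IsLocalRing.closedPoint R}, HasChart R ϖ p N x := by
    refine hcl.isCompact.induction_on ⟨0, fun x hx => hx.elim⟩ ?_ ?_ ?_
    · rintro s t hst ⟨N, hN⟩
      exact ⟨N, fun x hx => hN x (hst hx)⟩
    · rintro s t ⟨N, hN⟩ ⟨M, hM⟩
      refine ⟨max N M, ?_⟩
      rintro x (hx | hx)
      · exact (hN x hx).mono (le_max_left _ _)
      · exact (hM x hx).mono (le_max_right _ _)
    · intro x hx
      obtain ⟨N, V, hxV, hV⟩ := exists_local_bound R ϖ hϖ X p hp hgen x hx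
      exact ⟨V, mem_nhdsWithin_of_mem_nhds (V.isOpen.mem_nhds hxV), N, hV⟩
  exact key

end Groth.Agent.Models.NodeBound
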