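import Groth.Agent.Models.NodeStep
import Groth.Agent.Models.NodeNodal
import Groth.Agent.Models.DVRGeneric2
import Groth.Agent.S1535
import Groth.Agent.S1592
import Groth.Agent.S1593
import Groth.Agent.S1595
import Groth.Prelude.Def_ModelsSS

/-!
The blow-up of the non-regular locus of a nodal model with charts `uv = ϖ^k`.
-/

set_option autoImplicit false
universe u

open BlowUp CategoryTheory CategoryTheory.Limits AlgebraicGeometry

namespace Groth.Agent.Models.NodeLocus

open Groth.Agent.Models.NodeRing Groth.Agent.Models.NodeBlow Groth.Agent.Models.NodeStep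

variable {R : Type u} [CommRing R] [IsDomain R] [IsDiscreteValuationRing R] (ϖ : R)

theorem isOpen_notClosedPoint {X : Scheme.{u}} (p : X ⟶ Spec (CommRingCat.of R)) :
    IsOpen {x : X | p x ≠ IsLocalRing.closedPoint R} := by
  have h1 : IsClosed ({IsLocalRing.closedPoint R} : Set (PrimeSpectrum R)) := by
    exact PrimeSpectrum.isClosed_singleton_iff_isMaximal _ |>.2 (IsLocalRing.maximalIdeal.isMaximal R)
  exact (h1.preimage p.continuous).isOpen_compl

omit [IsDomain R] [IsDiscreteValuationRing R] in
/-- The regular locus of `Spec D[u,v]/(uv - t^k)` is open. -/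
theorem isOpen_regular {D : Type u} [CommRing D] [IsDomain D] [IsDiscreteValuationRing D] (t : D)
    (ht : Irreducible t) {a : D} (k : ℕ) (ha : a = t ^ k) :
    IsOpen {w : Spec (CommRingCat.of (W D a)) |
      IsRegularLocalRing ((Spec (CommRingCat.of (W D a))).presheaf.stalk w)} := by
  by_cases hk : k ≤ 1
  · convert isOpen_univ
    ext w
    simp only [Set.mem_ofPred_eq, Set.mem_univ, iff_true]
    exact stalk_isRegular_of_le_one t ht k hk ha w
  · have h1 : {w : Spec (CommRingCat.of (W D a)) |
      IsRegularLocalRing ((Spec (CommRingCat.of (W D a))).presheaf.stalk w)} =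
        (PrimeSpectrum.zeroLocus (orig t a : Set (W D a)))ᶜ := by
      ext w
      rw [Set.mem_ofPred_eq, stalk_isRegular_iff_notMem t ht k (by omega) ha]
      rfl
    rw [h1]
    exact (PrimeSpectrum.isClosed_zeroLocus _).isOpen_compl

/-- The regular locus of a model with charts is open. -/
theorem isOpen_regular_of_charts {X : Scheme.{u}} [IsLocallyNoetherian X] (p : X ⟶ Spec (CommRingCat.of R)) (N : ℕ)
    (hch : ∀ x, p x = IsLocalRing.closedPoint R → HasChart R ϖ p N x)
    (hgen : ∀ x, p x ≠ IsLocalRing.closedPoint R → IsRegularLocalRing (X.presheaf.stalk x)) :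
    IsOpen {x : X | IsRegularLocalRing (X.presheaf.stalk x)} := by
  rw [isOpen_iff_forall_mem_open]
  intro x hx
  by_cases hpx : p x = IsLocalRing.closedPoint R
  · obtain ⟨D, i1, i2, i3, i4, i5, ht, k, hk, U, e, he, y, hy, g, hg, hge⟩ := hch x hpx
    have hWn : IsLocallyNoetherian (Spec (CommRingCat.of (W D (algebraMap R D ϖ ^ k)))) := by
      have hN1 : IsNoetherianRing (W D (algebraMap R D ϖ ^ k)) := inferInstance
      have : IsNoetherianRing (CommRingCat.of (W D (algebraMap R D ϖ ^ k))) := hN1
      infer_instance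
    refine ⟨e '' (g ⁻¹' {w | IsRegularLocalRing ((Spec (CommRingCat.of
      (W D (algebraMap R D ϖ ^ k)))).presheaf.stalk w)}), ?_, ?_, ?_⟩
    · rintro _ ⟨z, hz, rfl⟩
      have h1 := Groth.Agent.S0065.result e z
      have h2 := Groth.Agent.S0065.result g z
      exact (h1.symm.trans h2).2 hz
    · exact e.isOpenMap _ ((isOpen_regular _ ht k rfl).preimage g.continuous)
    · refine ⟨y, ?_, hy⟩
      have h1 := Groth.Agent.S0065.result e y
      have h2 := Groth.Agent.S0065.result g y
      rw [Set.mem_preimage, Set.mem_ofPred_eq]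
      exact (h1.symm.trans h2).1 (by rw [hy]; exact hx)
  · exact ⟨{x | p x ≠ IsLocalRing.closedPoint R}, fun z hz => hgen z hz,
      isOpen_notClosedPoint p, hpx⟩

/-- the points off the closed fibre of a model are in the image of the generic fibre. -/
theorem mem_range_of_model {C X : Scheme.{u}} {f : C ⟶ Spec (CommRingCat.of (FractionRing R))} {c : C ⟶ X}
    {p : X ⟶ Spec (CommRingCat.of R)}
    (h : IsPullback c f p (Spec.map (CommRingCat.ofHom (algebraMap R (FractionRing R)))))
    (x : X) (hx : p x ≠ IsLocalRing.closedPoint R) : x ∈ Set.range c := by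
  have h1 := DVRGeneric.isOpenImmersion_generic R (FractionRing R)
  have h2 := DVRGeneric.isOpenImmersion_of_isPullback h
  have h3 := DVRGeneric.opensRange_eq_of_isPullback h
  have h4 : x ∈ p ⁻¹ᵁ (Spec.map (CommRingCat.ofHom (algebraMap R (FractionRing R)))).opensRange := by
    exact DVRGeneric.range_generic R (FractionRing R) (p x) hx
  rw [← h3] at h4
  exact h4

theorem regular_generic {C X : Scheme.{u}} [IsLocallyNoetherian X] {f : C ⟶ Spec (CommRingCat.of (FractionRing R))} [Smooth f]
    {c : C ⟶ X} {p : X ⟶ Spec (CommRingCat.of R)}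
    (h : IsPullback c f p (Spec.map (CommRingCat.ofHom (algebraMap R (FractionRing R)))))
    (x : X) (hx : x ∈ Set.range c) : IsRegularLocalRing (X.presheaf.stalk x) := by
  have h2 := DVRGeneric.isOpenImmersion_of_isPullback h
  obtain ⟨y, rfl⟩ := hx
  have h3 := Groth.Agent.S0065.result c y
  refine h3.1 ?_
  let _ : C.Over (Spec (CommRingCat.of (FractionRing R))) := ⟨f⟩
  have : Smooth (C ↘ Spec (CommRingCat.of (FractionRing R))) := ‹Smooth f›
  exact Groth.Agent.S1535.result (FractionRing R) C y

/-- A chart is étale locally a nodal family. -/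
theorem HasChart.exists_nodal {X : Scheme.{u}} {p : X ⟶ Spec (CommRingCat.of R)} {N : ℕ} {x : X}
    (h : HasChart R ϖ p N x) : ∃ (U : Scheme.{u}) (e : U ⟶ X) (_ : Etale e),
      x ∈ Set.range e ∧ Curv2.IsNodalFamily (e ≫ p) := by
  obtain ⟨D, i1, i2, i3, i4, i5, ht, k, hk, U, e, he, y, hy, g, hg, hge⟩ := h
  refine ⟨U, e, he, ⟨y, hy⟩, ?_⟩
  rw [← hge]
  have h1 : Curv2.IsNodalFamily (str D (algebraMap R D ϖ ^ k)) := NodeNodal.isNodalFamily_str _ ht k
  have h2 : Etale (Spec.map (CommRingCat.ofHom (algebraMap R D))) := by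
    rw [HasRingHomProperty.Spec_iff (P := @Etale)]
    exact RingHom.etale_algebraMap.2 inferInstance
  exact Groth.Agent.S1592.result _ (Groth.Agent.S1595.result _ _ h1) g

variable {ϖ}

/-- One step of the resolution. -/
theorem step {C : Scheme.{u}} {f : C ⟶ Spec (CommRingCat.of (FractionRing R))} [Smooth f]
    {X : Scheme.{u}} {p : X ⟶ Spec (CommRingCat.of R)} (hm : Models.IsModel R X p C f)
    (hp : IsProper p) (hnod : Curv2.IsNodalFamily p) (N : ℕ)
    (hch : ∀ x, p x = IsLocalRing.closedPoint R → HasChart R ϖ p N x) :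
    ∃ (X' : Scheme.{u}) (p' : X' ⟶ Spec (CommRingCat.of R)), Models.IsModel R X' p' C f ∧
      IsProper p' ∧ Curv2.IsNodalFamily p' ∧
      ∀ x, p' x = IsLocalRing.closedPoint R → HasChart R ϖ p' (max 1 (N - 2)) x := by
  obtain ⟨hfl, hft, hqc, c, hc⟩ := hm
  have hXn : IsLocallyNoetherian X := by
    have : IsLocallyNoetherian (Spec (CommRingCat.of R)) := by
      have : IsNoetherianRing (CommRingCat.of R) := inferInstanceAs (IsNoetherianRing R)
      infer_instance
    exact LocallyOfFiniteType.isLocallyNoetherian p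
  have hgen : ∀ x, p x ≠ IsLocalRing.closedPoint R → IsRegularLocalRing (X.presheaf.stalk x) :=
    fun x hx => regular_generic hc x (mem_range_of_model hc x hx)
  let Z : TopologicalSpace.Closeds X :=
    ⟨{x : X | IsRegularLocalRing (X.presheaf.stalk x)}ᶜ,
      (isOpen_regular_of_charts ϖ p N hch hgen).isClosed_compl⟩
  have hZ : ∀ x, x ∈ Z ↔ ¬ IsRegularLocalRing (X.presheaf.stalk x) := fun x => Iff.rfl
  obtain ⟨X', b, hb⟩ := Groth.Agent.Flat2C.BlowExist.exists_isBlowUp
    (Scheme.IdealSheafData.vanishingIdeal Z)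
  have hbp : IsProper b := by
    refine Groth.Agent.Flat2C.BlowProper.isProper_of_isBlowUp hb ?_
    intro A
    have := IsLocallyNoetherian.component_noetherian A
    exact IsNoetherian.noetherian _
  have hcop := DVRGeneric.isOpenImmersion_of_isPullback hc
  have hC' := Groth.Agent.S1680.result c _ b hb
  rw [EtRadical.comap_vanishingIdeal c Z] at hC'
  have hempty : Z.preimage c.continuous = ⊥ := by
    ext z
    simp only [TopologicalSpace.Closeds.coe_preimage, Set.mem_preimage, SetLike.mem_coe,
      TopologicalSpace.Closeds.coe_bot, Set.mem_empty_iff_false, iff_false]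
    intro hz
    exact (hZ _).1 hz (regular_generic hc _ ⟨z, rfl⟩)
  rw [hempty, Scheme.IdealSheafData.vanishingIdeal_bot] at hC'
  obtain ⟨θ, hθ, -⟩ := Groth.Agent.Flat2C.BlowProper.exists_iso hC' (isBlowUp_id_top C)
  have hiso : IsIso (pullback.fst c b) := by
    rw [Category.comp_id] at hθ
    rw [← hθ]
    infer_instance
  let c' : C ⟶ X' := inv (pullback.fst c b) ≫ pullback.snd c b
  have hc'b : c' ≫ b = c := by
    simp only [c', Category.assoc]
    rw [← pullback.condition, IsIso.inv_hom_id_assoc]
  have hpb1 : IsPullback c' (𝟙 C) b c := by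
    refine IsPullback.of_iso (IsPullback.of_hasPullback c b).flip (asIso (pullback.fst c b))
      (Iso.refl _) (Iso.refl _) (Iso.refl _) ?_ ?_ ?_ ?_
    · simp [c']
    · simp
    · simp
    · simp
  have hpb : IsPullback c' f (b ≫ p)
      (Spec.map (CommRingCat.ofHom (algebraMap R (FractionRing R)))) := by
    have := hpb1.paste_vert hc
    rwa [Category.id_comp] at this
  have hch' : ∀ x, (b ≫ p) x = IsLocalRing.closedPoint R →
      HasChart R ϖ (b ≫ p) (max 1 (N - 2)) x := by
    intro x hx
    exact hasChart_blowUp ϖ p N Z hZ b hb x (hch (b x) hx)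
  have hnod' : Curv2.IsNodalFamily (b ≫ p) := by
    have h1 : ∀ x : X', ∃ (U : Scheme.{u}) (e : U ⟶ X') (_ : Etale e),
        x ∈ Set.range e ∧ Curv2.IsNodalFamily (e ≫ b ≫ p) := by
      intro x
      by_cases hx : (b ≫ p) x = IsLocalRing.closedPoint R
      · exact HasChart.exists_nodal ϖ (hch' x hx)
      · have h2 := mem_range_of_model hpb x hx
        have h3 := DVRGeneric.isOpenImmersion_of_isPullback hpb
        refine ⟨C, c', inferInstance, h2, ?_⟩
        rw [← Category.assoc, hc'b]
        exact Groth.Agent.S1592.result p hnod c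
    choose U e he hx hn using h1
    exact Groth.Agent.S1593.result (b ≫ p) X' U e (fun x => ⟨x, hx x⟩) hn
  have hflat : Flat (b ≫ p) := hnod'.1
  exact ⟨X', b ≫ p, ⟨inferInstance, inferInstance, inferInstance, c', hpb⟩, inferInstance, hnod', hch'⟩

/-- A nodal model with charts `uv = ϖ^k` has a regular improvement. -/
theorem exists_regular {C : Scheme.{u}} {f : C ⟶ Spec (CommRingCat.of (FractionRing R))} [Smooth f]
    (N : ℕ) {X : Scheme.{u}} {p : X ⟶ Spec (CommRingCat.of R)} (hm : Models.IsModel R X p C f)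
    (hp : IsProper p) (hnod : Curv2.IsNodalFamily p)
    (hch : ∀ x, p x = IsLocalRing.closedPoint R → HasChart R ϖ p N x) :
    ∃ (X' : Scheme.{u}) (p' : X' ⟶ Spec (CommRingCat.of R)), Models.IsModel R X' p' C f ∧
      IsProper p' ∧ Curv2.IsNodalFamily p' ∧
      ∀ x, p' x = IsLocalRing.closedPoint R → HasChart R ϖ p' 1 x := by
  induction N using Nat.strong_induction_on generalizing X with
  | _ N ih =>
    by_cases hN : N ≤ 1
    · exact ⟨X, p, hm, hp, hnod, fun x hx => (hch x hx).mono hN⟩
    · obtain ⟨X', p', hm', hp', hnod', hch'⟩ := step hm hp hnod N hch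
      exact ih (max 1 (N - 2)) (by omega) hm' hp' hnod' hch'

theorem isRegularScheme {C : Scheme.{u}} {f : C ⟶ Spec (CommRingCat.of (FractionRing R))} [Smooth f]
    {X : Scheme.{u}} {p : X ⟶ Spec (CommRingCat.of R)} (hm : Models.IsModel R X p C f)
    (hch : ∀ x, p x = IsLocalRing.closedPoint R → HasChart R ϖ p 1 x) : Models.IsRegularScheme X := by
  obtain ⟨hfl, hft, hqc, c, hc⟩ := hm
  have hXn : IsLocallyNoetherian X := by
    have : IsLocallyNoetherian (Spec (CommRingCat.of R)) := by
      have : IsNoetherianRing (CommRingCat.of R) := inferInstanceAs (IsNoetherianRing R)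
      infer_instance
    exact LocallyOfFiniteType.isLocallyNoetherian p
  intro x
  by_cases hx : p x = IsLocalRing.closedPoint R
  · obtain ⟨D, i1, i2, i3, i4, i5, ht, k, hk, U, e, he, y, rfl, g, hg, hge⟩ := hch x hx
    have hWn : IsLocallyNoetherian (Spec (CommRingCat.of (W D (algebraMap R D ϖ ^ k)))) := by
      have hN1 : IsNoetherianRing (W D (algebraMap R D ϖ ^ k)) := inferInstance
      have : IsNoetherianRing (CommRingCat.of (W D (algebraMap R D ϖ ^ k))) := hN1
      infer_instance
    have h1 := Groth.Agent.S0065.result e y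
    have h2 := Groth.Agent.S0065.result g y
    exact (h1.symm.trans h2).2 (stalk_isRegular_of_le_one _ ht k hk rfl _)
  · exact regular_generic hc x (mem_range_of_model hc x hx)

end Groth.Agent.Models.NodeLocus
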