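import Groth.Agent.Models.NodeBlow
import Groth.Agent.Models.EtRadical
import Groth.Agent.Flat2C.BlowProper
import Groth.Agent.S0065
import Groth.Agent.S1680

/-!
One step of the resolution of a family with charts étale over `uv = t^k`.
-/

set_option autoImplicit false
universe u

open BlowUp CategoryTheory CategoryTheory.Limits AlgebraicGeometry

namespace Groth.Agent.Models.NodeStep

open Groth.Agent.Models.NodeRing Groth.Agent.Models.NodeBlow Groth.Agent.Divis.BlowChart

section Points

variable {D : Type u} [CommRing D] [IsDomain D] [IsDiscreteValuationRing D] (t : D)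
  (ht : Irreducible t) {a : D}

/-- The ideal of the origin. -/
noncomputable def orig (t a : D) : Ideal (W D a) := Ideal.span {uu D a, vv D a, algebraMap D _ t}

include ht in
theorem orig_isPrime (k : ℕ) (hk : k ≠ 0) (ha : a = t ^ k) : (orig t a).IsPrime := by
  have htr : IsLocalRing.residue D t = 0 := by
    rw [IsLocalRing.residue_eq_zero_iff, (IsDiscreteValuationRing.irreducible_iff_uniformizer t).1 ht]
    exact Ideal.mem_span_singleton_self t
  let ψ : W D a →+* IsLocalRing.ResidueField D := NodeRing.lift (IsLocalRing.residue D) 0 0 (by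
    rw [ha, map_pow, htr, zero_pow hk, zero_mul])
  have h1 : (RingHom.ker ψ).IsPrime := RingHom.ker_isPrime ψ
  have h2 : RingHom.ker ψ = orig t a := by
    apply eq_span_of_mem D t ht
    · rw [RingHom.mem_ker]; simp [ψ]
    · rw [RingHom.mem_ker]; simp [ψ]
    · rw [RingHom.mem_ker]
      simp only [ψ, lift_algebraMap]
      exact htr
  rw [← h2]
  exact h1

theorem stalk_isRegular_iff {A : Type u} [CommRing A] (w : Spec (CommRingCat.of A)) :
    IsRegularLocalRing ((Spec (CommRingCat.of A)).presheaf.stalk w) ↔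
      IsRegularLocalRing (Localization.AtPrime w.asIdeal) := by
  have e : ((Spec (CommRingCat.of A)).presheaf.stalk w) ≃+* Localization.AtPrime w.asIdeal :=
    (Spec.stalkIso (CommRingCat.of A) w).commRingCatIsoToRingEquiv
  exact ⟨fun _ => IsRegularLocalRing.of_ringEquiv e, fun _ => IsRegularLocalRing.of_ringEquiv e.symm⟩

include ht in
theorem stalk_isRegular_of_le_one (k : ℕ) (hk : k ≤ 1) (ha : a = t ^ k)
    (w : Spec (CommRingCat.of (W D a))) :
    IsRegularLocalRing ((Spec (CommRingCat.of (W D a))).presheaf.stalk w) := by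
  rw [stalk_isRegular_iff]
  have hD : IsRegularRing D := inferInstance
  interval_cases k
  · exact isRegular_of_isUnit (by rw [ha, pow_zero]; exact isUnit_one) _
  · rw [pow_one] at ha
    subst ha
    exact isRegular_one D a ht _

include ht in
theorem stalk_isRegular_iff_notMem (k : ℕ) (hk : 2 ≤ k) (ha : a = t ^ k)
    (w : Spec (CommRingCat.of (W D a))) :
    IsRegularLocalRing ((Spec (CommRingCat.of (W D a))).presheaf.stalk w) ↔
      ¬ orig t a ≤ w.asIdeal := by
  rw [stalk_isRegular_iff]
  have hD : IsRegularRing D := inferInstance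
  constructor
  · intro h hle
    refine not_isRegular_origin D t ht k hk ha w.asIdeal ?_ ?_ h
    · exact hle (Ideal.subset_span (by simp))
    · exact hle (Ideal.subset_span (by simp))
  · intro h
    by_cases hu : uu D a ∉ w.asIdeal
    · exact isRegular_of_uu_notMem D a _ hu
    by_cases hv : vv D a ∉ w.asIdeal
    · exact isRegular_of_vv_notMem D a _ hv
    push Not at hu hv
    exfalso
    apply h
    have ht' : algebraMap D (W D a) t ∈ w.asIdeal := by
      have h1 : algebraMap D (W D a) t ^ k ∈ w.asIdeal := by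
        rw [← map_pow, ← uu_mul_vv' ha]
        exact Ideal.mul_mem_right _ _ hu
      exact (w.isPrime).mem_of_pow_mem _ h1
    rw [orig, Ideal.span_le]
    rintro x (rfl | rfl | rfl)
    · exact hu
    · exact hv
    · exact ht'

theorem mem_support_idl {A : Type u} [CommRing A] (I : Ideal A) (w : Spec (CommRingCat.of A)) :
    w ∈ (idl I).support ↔ I ≤ w.asIdeal := by
  rw [← SetLike.mem_coe, Scheme.IdealSheafData.coe_support_ofIdealTop, Spec_zeroLocus]
  change ((Scheme.ΓSpecIso (CommRingCat.of A)).inv.hom ⁻¹'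
    (I.map (Scheme.ΓSpecIso (CommRingCat.of A)).inv.hom : Ideal _) ⊆ (w.asIdeal : Set A)) ↔ _
  have h1 : (I.map (Scheme.ΓSpecIso (CommRingCat.of A)).inv.hom).comap
      (Scheme.ΓSpecIso (CommRingCat.of A)).inv.hom = I := by
    exact Ideal.comap_map_of_bijective _
      (ConcreteCategory.bijective_of_isIso (Scheme.ΓSpecIso (CommRingCat.of A)).inv)
  constructor
  · intro h r hr
    exact h (show r ∈ (I.map (Scheme.ΓSpecIso (CommRingCat.of A)).inv.hom).comap
      (Scheme.ΓSpecIso (CommRingCat.of A)).inv.hom by rw [h1]; exact hr)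
  · intro h r hr
    apply h
    rw [← h1]
    exact hr

theorem idl_eq_vanishingIdeal {A : Type u} [CommRing A] (I : Ideal A) (hI : I.IsRadical) :
    idl I = Scheme.IdealSheafData.vanishingIdeal (idl I).support := by
  rw [Scheme.IdealSheafData.vanishingIdeal_support]
  apply Scheme.IdealSheafData.ext_of_isAffine
  change _ = ((idl I).ideal ⟨⊤, isAffineOpen_top _⟩).radical
  symm
  rw [Ideal.radical_eq_iff]
  have h1 : (idl I).ideal ⟨⊤, isAffineOpen_top _⟩ =
      I.map (Scheme.ΓSpecIso (CommRingCat.of A)).inv.hom := by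
    simp
  rw [h1]
  have h2 : I.map (Scheme.ΓSpecIso (CommRingCat.of A)).inv.hom =
      I.comap (Scheme.ΓSpecIso (CommRingCat.of A)).hom.hom :=
    Groth.Agent.Divis.IdealComap.map_eq_comap_of_iso (Scheme.ΓSpecIso (CommRingCat.of A)).symm I
  rw [h2]
  exact hI.comap _

end Points

section Step

/-- There is an étale neighbourhood of `x`, étale over `Spec D[u,v]/(uv - ϖ^k)` for some `k ≤ N` and
some discrete valuation ring `D` étale over `R` with uniformizer `ϖ`. -/
def HasChart (R : Type u) [CommRing R] (ϖ : R) {X : Scheme.{u}} (p : X ⟶ Spec (CommRingCat.of R))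
    (N : ℕ) (x : X) : Prop :=
  ∃ (D : Type u) (_ : CommRing D) (_ : IsDomain D) (_ : IsDiscreteValuationRing D)
    (_ : Algebra R D) (_ : Algebra.Etale R D) (_ : Irreducible (algebraMap R D ϖ)) (k : ℕ)
    (_ : k ≤ N) (U : Scheme.{u}) (e : U ⟶ X) (_ : Etale e) (y : U) (_ : e y = x)
    (g : U ⟶ Spec (CommRingCat.of (W D (algebraMap R D ϖ ^ k)))) (_ : Etale g),
    g ≫ str D (algebraMap R D ϖ ^ k) ≫ Spec.map (CommRingCat.ofHom (algebraMap R D)) = e ≫ p

theorem HasChart.mono {R : Type u} [CommRing R] {ϖ : R} {X : Scheme.{u}}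
    {p : X ⟶ Spec (CommRingCat.of R)} {N M : ℕ} (h : N ≤ M) {x : X} (hx : HasChart R ϖ p N x) :
    HasChart R ϖ p M x := by
  obtain ⟨D, i1, i2, i3, i4, i5, ht, k, hk, U, e, he, y, hy, g, hg, hge⟩ := hx
  exact ⟨D, i1, i2, i3, i4, i5, ht, k, hk.trans h, U, e, he, y, hy, g, hg, hge⟩

theorem isBlowUp_id_top (X : Scheme.{u}) : IsBlowUp (𝟙 X) (⊤ : X.IdealSheafData) := by
  refine ⟨?_, fun Y g _ => ⟨g, by simp, fun h hh => by simpa using hh⟩⟩
  rw [Scheme.IdealSheafData.comap_id]
  exact Groth.Agent.Divis.EffCartier.isEff_top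

/-- Blowing up the reduced non-regular locus improves the charts. -/
theorem hasChart_blowUp {R : Type u} [CommRing R] (ϖ : R) {X : Scheme.{u}} [IsLocallyNoetherian X]
    (p : X ⟶ Spec (CommRingCat.of R)) (N : ℕ) (Z : TopologicalSpace.Closeds X)
    (hZ : ∀ x, x ∈ Z ↔ ¬ IsRegularLocalRing (X.presheaf.stalk x)) {X' : Scheme.{u}} (b : X' ⟶ X)
    (hb : IsBlowUp b (Scheme.IdealSheafData.vanishingIdeal Z)) (x' : X')
    (h : HasChart R ϖ p N (b x')) : HasChart R ϖ (b ≫ p) (max 1 (N - 2)) x' := by
  obtain ⟨D, i1, i2, i3, i4, i5, ht, k, hk, U, e, he, y, hy, g, hg, hge⟩ := h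
  obtain ⟨y', hy'1, hy'2⟩ := Scheme.Pullback.exists_preimage_pullback y x' hy
  have hU' := Groth.Agent.S1680.result e _ b hb
  have hN1 : IsNoetherianRing (W D (algebraMap R D ϖ ^ k)) := inferInstance
  have hWn : IsLocallyNoetherian (Spec (CommRingCat.of (W D (algebraMap R D ϖ ^ k)))) := by
    have : IsNoetherianRing (CommRingCat.of (W D (algebraMap R D ϖ ^ k))) := hN1
    infer_instance
  rw [EtRadical.comap_vanishingIdeal e Z] at hU'
  have hreg : ∀ z : U, e z ∈ Z ↔ ¬ IsRegularLocalRing ((Spec (CommRingCat.of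
      (W D (algebraMap R D ϖ ^ k)))).presheaf.stalk (g z)) := by
    intro z
    rw [hZ]
    have h1 := Groth.Agent.S0065.result e z
    have h2 := Groth.Agent.S0065.result g z
    exact not_congr (h1.symm.trans h2)
  by_cases hk1 : k ≤ 1
  · have hempty : Z.preimage e.continuous = ⊥ := by
      ext z
      simp only [TopologicalSpace.Closeds.coe_preimage, Set.mem_preimage, SetLike.mem_coe,
        TopologicalSpace.Closeds.coe_bot, Set.mem_empty_iff_false, iff_false]
      intro hz
      exact (hreg z).1 hz (stalk_isRegular_of_le_one _ ht k hk1 rfl _)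
    rw [hempty, Scheme.IdealSheafData.vanishingIdeal_bot] at hU'
    obtain ⟨θ, hθ, -⟩ := Groth.Agent.Flat2C.BlowProper.exists_iso hU' (isBlowUp_id_top U)
    have hiso : IsIso (pullback.fst e b) := by
      rw [Category.comp_id] at hθ
      rw [← hθ]
      infer_instance
    refine ⟨D, i1, i2, i3, i4, i5, ht, k, hk1.trans (le_max_left _ _), pullback e b,
      pullback.snd e b, inferInstance, y', hy'2, pullback.fst e b ≫ g, inferInstance, ?_⟩
    rw [Category.assoc, hge, ← Category.assoc, ← Category.assoc, pullback.condition]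
  · push Not at hk1
    have hk2 : 2 ≤ k := hk1
    obtain ⟨W', b', hb'⟩ := Groth.Agent.Flat2C.BlowExist.exists_isBlowUp
      (idl (orig (algebraMap R D ϖ) (algebraMap R D ϖ ^ k)))
    have hW' := Groth.Agent.S1680.result g _ b' hb'
    have hrad : (orig (algebraMap R D ϖ) (algebraMap R D ϖ ^ k)).IsRadical :=
      (orig_isPrime _ ht k (by omega) rfl).isRadical
    rw [idl_eq_vanishingIdeal _ hrad, EtRadical.comap_vanishingIdeal g] at hW'
    have hsupp : Z.preimage e.continuous =
        ((idl (orig (algebraMap R D ϖ) (algebraMap R D ϖ ^ k))).support).preimage g.continuous := by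
      ext z
      simp only [TopologicalSpace.Closeds.coe_preimage, Set.mem_preimage, SetLike.mem_coe]
      rw [mem_support_idl, hreg, stalk_isRegular_iff_notMem _ ht k hk2 rfl, not_not]
    rw [hsupp] at hU'
    obtain ⟨θ, hθ, -⟩ := Groth.Agent.Flat2C.BlowProper.exists_iso hU' hW'
    let q : pullback e b ⟶ W' := θ.hom ≫ pullback.snd g b'
    have hq : q ≫ b' = pullback.fst e b ≫ g := by
      rw [← hθ, Category.assoc, Category.assoc, pullback.condition]
    obtain ⟨V, j, hj, ε, hyV, hε⟩ := NodeBlow.exists_chart (algebraMap R D ϖ) ht k hk2 rfl b' hb' (q y')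
    refine ⟨D, i1, i2, i3, i4, i5, ht, j, hj.trans ?_, (q ⁻¹ᵁ V).toScheme,
      (q ⁻¹ᵁ V).ι ≫ pullback.snd e b, inferInstance, ⟨y', hyV⟩, ?_, (q ∣_ V) ≫ ε.hom,
      inferInstance, ?_⟩
    · omega
    · rw [← hy'2]
      rfl
    · rw [Category.assoc, reassoc_of% hε, morphismRestrict_ι_assoc, reassoc_of% hq, hge,
        Category.assoc, pullback.condition_assoc]

end Step

end Groth.Agent.Models.NodeStep
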