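import Groth.Prelude.Def_Models

set_option autoImplicit false

open Finset

/-! Basic facts about numerical types (Stacks 0C6Y): row sums, parity, sign of the diagonal,
the doubled genus formula, contributions of the single indices. -/

namespace Groth.Agent.Models.NumBasic

variable {n : ℕ} (T : _root_.Models.NumericalType n)

theorem row_sum (i : Fin n) : ∑ j, T.a i j * T.m j = 0 := by
  have h := congrFun T.mulVec_m i
  simpa [Matrix.mulVec, dotProduct] using h

theorem a_symm (i j : Fin n) : T.a i j = T.a j i := T.symm.apply j i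

theorem col_sum (j : Fin n) : ∑ i, T.m i * T.a i j = 0 := by
  have h := row_sum T j
  rw [← h]
  refine Finset.sum_congr rfl fun i _ => ?_
  rw [a_symm T i j, mul_comm]

theorem diag_mul_eq (i : Fin n) :
    T.a i i * T.m i = - ∑ j ∈ univ.erase i, T.a i j * T.m j := by
  have h := row_sum T i
  rw [← Finset.add_sum_erase univ _ (Finset.mem_univ i)] at h
  linarith

theorem offDiag_sum_nonneg (i : Fin n) :
    0 ≤ ∑ j ∈ univ.erase i, T.a i j * T.m j := by
  refine Finset.sum_nonneg fun j hj => ?_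
  exact mul_nonneg (T.offDiag_nonneg i j (Finset.ne_of_mem_erase hj).symm) (T.m_pos j).le

theorem diag_nonpos (i : Fin n) : T.a i i ≤ 0 := by
  have h1 := diag_mul_eq T i
  have h2 := offDiag_sum_nonneg T i
  by_contra h
  push Not at h
  have := mul_pos h (T.m_pos i)
  linarith

theorem exists_offDiag_pos (hn : 1 < n) (i : Fin n) : ∃ j, j ≠ i ∧ 0 < T.a i j := by
  obtain ⟨k, hk, j, hj, hkj⟩ := T.connected {i} (Finset.singleton_nonempty i) (by
    intro h
    have := congrArg Finset.card h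
    simp at this
    omega)
  rw [Finset.mem_singleton] at hk hj
  subst hk
  refine ⟨j, hj, ?_⟩
  exact lt_of_le_of_ne (T.offDiag_nonneg k j (Ne.symm hj)) (Ne.symm hkj)

theorem diag_neg (hn : 1 < n) (i : Fin n) : T.a i i < 0 := by
  obtain ⟨j, hj, hij⟩ := exists_offDiag_pos T hn i
  have h1 := diag_mul_eq T i
  have h2 : 0 < ∑ j ∈ univ.erase i, T.a i j * T.m j := by
    refine Finset.sum_pos' (fun k hk => ?_) ⟨j, by simp [hj], mul_pos hij (T.m_pos j)⟩
    exact mul_nonneg (T.offDiag_nonneg i k (Finset.ne_of_mem_erase hk).symm) (T.m_pos k).le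
  have h3 : T.a i i * T.m i < 0 := by linarith
  by_contra h
  push Not at h
  have := mul_nonneg h (T.m_pos i).le
  linarith

/-- The bilinear form of a vector with itself decomposes modulo `2`. -/
theorem two_dvd_sum_sq : (2 : ℤ) ∣ ∑ i, T.a i i * T.m i ^ 2 := by
  classical
  have key : ∀ s : Finset (Fin n), (2 : ℤ) ∣
      (∑ i ∈ s, ∑ j ∈ s, T.a i j * T.m i * T.m j) - ∑ i ∈ s, T.a i i * T.m i ^ 2 := by
    intro s
    induction s using Finset.induction_on with
    | empty => simp
    | insert k s hk ih =>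
      rw [Finset.sum_insert hk, Finset.sum_insert hk, Finset.sum_insert hk]
      have h1 : ∑ i ∈ s, ∑ j ∈ insert k s, T.a i j * T.m i * T.m j =
          (∑ i ∈ s, ∑ j ∈ s, T.a i j * T.m i * T.m j) + ∑ i ∈ s, T.a k i * T.m k * T.m i := by
        rw [← Finset.sum_add_distrib]
        refine Finset.sum_congr rfl fun i _ => ?_
        rw [Finset.sum_insert hk, a_symm T i k]
        ring
      rw [h1]
      have h2 : T.a k k * T.m k * T.m k + ∑ x ∈ s, T.a k x * T.m k * T.m x +
          (∑ i ∈ s, ∑ j ∈ s, T.a i j * T.m i * T.m j + ∑ i ∈ s, T.a k i * T.m k * T.m i) -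
          (T.a k k * T.m k ^ 2 + ∑ x ∈ s, T.a x x * T.m x ^ 2) =
          2 * (∑ i ∈ s, T.a k i * T.m k * T.m i) +
          ((∑ i ∈ s, ∑ j ∈ s, T.a i j * T.m i * T.m j) - ∑ i ∈ s, T.a i i * T.m i ^ 2) := by
        ring
      rw [h2]
      exact dvd_add (Dvd.intro _ rfl) ih
  have h := key univ
  have h0 : ∑ i, ∑ j, T.a i j * T.m i * T.m j = 0 := by
    refine Finset.sum_eq_zero fun i _ => ?_
    have := row_sum T i
    calc ∑ j, T.a i j * T.m i * T.m j = T.m i * ∑ j, T.a i j * T.m j := by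
          rw [Finset.mul_sum]
          refine Finset.sum_congr rfl fun j _ => ?_
          ring
      _ = 0 := by rw [this, mul_zero]
  rw [h0, zero_sub, dvd_neg] at h
  exact h

theorem two_dvd_sum_m_mul_diag : (2 : ℤ) ∣ ∑ i, T.m i * T.a i i := by
  have h := two_dvd_sum_sq T
  have h2 : (2 : ℤ) ∣ ∑ i, T.a i i * T.m i ^ 2 - ∑ i, T.m i * T.a i i := by
    rw [← Finset.sum_sub_distrib]
    refine Finset.dvd_sum fun i _ => ?_
    have : T.a i i * T.m i ^ 2 - T.m i * T.a i i = T.a i i * (T.m i * (T.m i - 1)) := by ring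
    rw [this]
    exact Dvd.dvd.mul_left (Int.even_mul_pred_self (T.m i)).two_dvd _
  exact (dvd_sub_right h).mp h2

/-- `2 (g - 1) = Σ m_i (2 w_i (g_i - 1) - a_ii)`. -/
theorem two_mul_genus_sub_one :
    2 * (T.genus - 1) = ∑ i, T.m i * (2 * T.w i * (T.g i - 1) - T.a i i) := by
  have h := two_dvd_sum_m_mul_diag T
  have h1 : 2 * ((∑ i, T.m i * T.a i i) / 2) = ∑ i, T.m i * T.a i i := Int.mul_ediv_cancel' h
  have h2 : ∑ i, T.m i * (2 * T.w i * (T.g i - 1) - T.a i i) =
      2 * (∑ i, T.m i * T.w i * (T.g i - 1)) - ∑ i, T.m i * T.a i i := by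
    rw [Finset.mul_sum, ← Finset.sum_sub_distrib]
    refine Finset.sum_congr rfl fun i _ => ?_
    ring
  rw [h2]
  unfold _root_.Models.NumericalType.genus
  linarith

/-- The contribution of the index `i` to `2 (g - 1)`. -/
def contrib (i : Fin n) : ℤ := T.m i * (2 * T.w i * (T.g i - 1) - T.a i i)

theorem two_mul_genus_sub_one' : 2 * (T.genus - 1) = ∑ i, contrib T i := two_mul_genus_sub_one T

theorem diag_le_neg_two_mul (hn : 1 < n) (hmin : T.IsMinimal) (i : Fin n) (hg : T.g i = 0) :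
    T.a i i ≤ -2 * T.w i := by
  have h1 := diag_neg T hn i
  have h2 : T.a i i ≠ -T.w i := fun h => hmin i ⟨hg, h⟩
  obtain ⟨k, hk⟩ := T.w_dvd i i
  have hw := T.w_pos i
  rw [hk] at h1 h2 ⊢
  have hk1 : k < 0 := by
    by_contra h
    push Not at h
    have := mul_nonneg hw.le h
    linarith
  have hk2 : k ≠ -1 := by
    rintro rfl
    exact h2 (by ring)
  have hk3 : k ≤ -2 := by omega
  nlinarith

theorem contrib_nonneg (hn : 1 < n) (hmin : T.IsMinimal) (i : Fin n) : 0 ≤ contrib T i := by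
  unfold contrib
  refine mul_nonneg (T.m_pos i).le ?_
  have hw := T.w_pos i
  rcases (T.g_nonneg i).eq_or_lt with h | h
  · have := diag_le_neg_two_mul T hn hmin i h.symm
    rw [← h]
    linarith
  · have h1 := diag_neg T hn i
    have h2 : 0 ≤ T.w i * (T.g i - 1) := mul_nonneg hw.le (by linarith)
    nlinarith

theorem one_le_genus (hn : 1 < n) (hmin : T.IsMinimal) : 1 ≤ T.genus := by
  have h := two_mul_genus_sub_one' T
  have h2 : 0 ≤ ∑ i, contrib T i := Finset.sum_nonneg fun i _ => contrib_nonneg T hn hmin i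
  linarith

theorem contrib_le (hn : 1 < n) (hmin : T.IsMinimal) (i : Fin n) :
    contrib T i ≤ 2 * (T.genus - 1) := by
  rw [two_mul_genus_sub_one']
  exact Finset.single_le_sum (f := fun i => contrib T i)
    (fun j _ => contrib_nonneg T hn hmin j) (Finset.mem_univ i)

theorem diag_le_neg_three_mul (hn : 1 < n) (hmin : T.IsMinimal) (i : Fin n) (hg : T.g i = 0)
    (h2 : ¬ T.IsMinusTwo i) : T.a i i ≤ -3 * T.w i := by
  have h1 := diag_le_neg_two_mul T hn hmin i hg
  have h3 : T.a i i ≠ -2 * T.w i := fun h => h2 ⟨hg, h⟩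
  obtain ⟨k, hk⟩ := T.w_dvd i i
  have hw := T.w_pos i
  rw [hk] at h1 h3 ⊢
  have hk1 : k ≤ -2 := by
    by_contra h
    push Not at h
    have : k + 2 ≥ 1 := by omega
    nlinarith
  have hk2 : k ≠ -2 := by
    rintro rfl
    exact h3 (by ring)
  have hk3 : k ≤ -3 := by omega
  nlinarith

/-- For an index which is not a `(-2)`-index (minimal type, `n > 1`), `m_i |a_ii| ≤ 3 contrib`. -/
theorem mul_abs_le_three_contrib (hn : 1 < n) (hmin : T.IsMinimal) (i : Fin n)
    (h2 : ¬ T.IsMinusTwo i) : T.m i * |T.a i i| ≤ 3 * contrib T i := by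
  have hneg := diag_neg T hn i
  rw [abs_of_neg hneg]
  unfold contrib
  have hm := T.m_pos i
  have hw := T.w_pos i
  have key : - T.a i i ≤ 3 * (2 * T.w i * (T.g i - 1) - T.a i i) := by
    rcases (T.g_nonneg i).eq_or_lt with h | h
    · have := diag_le_neg_three_mul T hn hmin i h.symm h2
      rw [← h]
      linarith
    · have h2 : 0 ≤ T.w i * (T.g i - 1) := mul_nonneg hw.le (by linarith)
      nlinarith
  calc T.m i * -T.a i i ≤ T.m i * (3 * (2 * T.w i * (T.g i - 1) - T.a i i)) :=
        mul_le_mul_of_nonneg_left key hm.le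
    _ = 3 * (T.m i * (2 * T.w i * (T.g i - 1) - T.a i i)) := by ring

theorem contrib_pos_of_not_isMinusTwo (hn : 1 < n) (hmin : T.IsMinimal) (i : Fin n)
    (h2 : ¬ T.IsMinusTwo i) : 1 ≤ contrib T i := by
  have h := mul_abs_le_three_contrib T hn hmin i h2
  have h3 : 0 < T.m i * |T.a i i| := mul_pos (T.m_pos i) (abs_pos.mpr (diag_neg T hn i).ne)
  omega

theorem contrib_eq_zero_of_isMinusTwo (i : Fin n) (h2 : T.IsMinusTwo i) : contrib T i = 0 := by
  unfold contrib
  rw [h2.1, h2.2]
  ring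

/-- Stacks 0C9U. -/
theorem mul_le_of_pos_offDiag (i j : Fin n) (hij : 0 < T.a i j) :
    T.m i * T.a i j ≤ T.m j * |T.a j j| ∧ T.m i * T.w i ≤ T.m j * |T.a j j| := by
  have hne : i ≠ j := by
    rintro rfl
    have := diag_nonpos T i
    linarith
  have h1 : T.m i * T.a i j ≤ T.m j * |T.a j j| := by
    rw [abs_of_nonpos (diag_nonpos T j)]
    have h2 := diag_mul_eq T j
    have h3 : T.a j i * T.m i ≤ ∑ k ∈ univ.erase j, T.a j k * T.m k := by
      refine Finset.single_le_sum (f := fun k => T.a j k * T.m k) (fun k hk => ?_) (by simp [hne])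
      exact mul_nonneg (T.offDiag_nonneg j k (Finset.ne_of_mem_erase hk).symm) (T.m_pos k).le
    rw [a_symm T i j]
    linarith
  refine ⟨h1, le_trans ?_ h1⟩
  exact mul_le_mul_of_nonneg_left (Int.le_of_dvd hij (T.w_dvd i j)) (T.m_pos i).le

end Groth.Agent.Models.NumBasic
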