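import Mathlib.RingTheory.Regular.ProjectiveDimension
import Mathlib.RingTheory.Regular.Free

/-!
# Finite projective dimension and quotients by a regular element

* `quotSMulTop_hasProjectiveDimensionLT`: if `x` is a nonzerodivisor on `R` and on `M`, then the projective
  dimension of `M/xM` over `R/x` is at most that of `M` over `R`.
-/

set_option autoImplicit false

universe u

open CategoryTheory

namespace Groth.Agent.Models.PdQuot

variable {R : Type u} [CommRing R]

/-- The functoriality of `M ↦ M / xM`, as a map of `R/x`-modules. -/
noncomputable def qmap (x : R) {M N : Type u} [AddCommGroup M] [Module R M] [AddCommGroup N] [Module R N]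
    (f : M →ₗ[R] N) : QuotSMulTop x M →ₗ[R ⧸ Ideal.span {x}] QuotSMulTop x N :=
  (QuotSMulTop.map x f).extendScalarsOfSurjective Ideal.Quotient.mk_surjective

@[simp] lemma qmap_mk (x : R) {M N : Type u} [AddCommGroup M] [Module R M] [AddCommGroup N] [Module R N]
    (f : M →ₗ[R] N) (m : M) :
    qmap x f (Submodule.Quotient.mk m) = Submodule.Quotient.mk (f m) := rfl

section

variable (x : R) {K P M : Type u} [AddCommGroup K] [Module R K] [AddCommGroup P] [Module R P]
  [AddCommGroup M] [Module R M] (f : K →ₗ[R] P) (g : P →ₗ[R] M)

lemma qmap_exact (hex : Function.Exact f g) (hsurj : Function.Surjective g) :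
    Function.Exact (qmap x f) (qmap x g) :=
  QuotSMulTop.map_exact x hex hsurj

lemma qmap_injective (hex : Function.Exact f g) (hinj : Function.Injective f) (hM : IsSMulRegular M x) :
    Function.Injective (qmap x f) := by
  rw [injective_iff_map_eq_zero]
  intro k hk
  obtain ⟨k, rfl⟩ := Submodule.Quotient.mk_surjective _ k
  rw [qmap_mk, Submodule.Quotient.mk_eq_zero, Submodule.mem_smul_pointwise_iff_exists] at hk
  obtain ⟨p, -, hp⟩ := hk
  have h1 : x • g p = 0 := by
    rw [← map_smul, hp]
    exact hex.apply_apply_eq_zero k
  have h2 : g p = 0 := hM.right_eq_zero_of_smul h1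
  obtain ⟨k', hk'⟩ := (hex p).mp h2
  have h3 : k = x • k' := hinj (by rw [map_smul, hk', hp])
  rw [Submodule.Quotient.mk_eq_zero, h3]
  exact Submodule.smul_mem_pointwise_smul _ _ _ trivial

lemma qmap_surjective (hsurj : Function.Surjective g) : Function.Surjective (qmap x g) :=
  QuotSMulTop.map_surjective x hsurj

end

lemma projective_quotSMulTop (x : R) (M : Type u) [AddCommGroup M] [Module R M] [Module.Projective R M] :
    Module.Projective (R ⧸ Ideal.span {x}) (QuotSMulTop x M) :=
  Module.Projective.of_equiv ((QuotSMulTop.equivQuotTensor x M).extendScalarsOfSurjective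
    Ideal.Quotient.mk_surjective).symm

lemma isSMulRegular_of_flat (x : R) (hx : IsSMulRegular R x) (M : Type u) [AddCommGroup M] [Module R M]
    [Module.Flat R M] : IsSMulRegular M x := by
  have h := Module.Flat.rTensor_preserves_injective_linearMap (M := M) (LinearMap.lsmul R R x) hx
  intro a b hab
  have h2 : (TensorProduct.lid R M).symm a = (TensorProduct.lid R M).symm b := by
    apply h
    simp only [TensorProduct.lid_symm_apply, LinearMap.rTensor_tmul, LinearMap.lsmul_apply, smul_eq_mul,
      mul_one]
    have e1 : ∀ m : M, x ⊗ₜ[R] m = (1 : R) ⊗ₜ[R] (x • m) := fun m => by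
      rw [TensorProduct.tmul_smul, TensorProduct.smul_tmul', smul_eq_mul, mul_one]
    rw [e1, e1]
    exact congrArg _ hab
  exact (TensorProduct.lid R M).symm.injective h2

/-- If `x` is regular on `R` and on `M`, then `pd_{R/x} (M/xM) ≤ pd_R M`. -/
theorem quotSMulTop_hasProjectiveDimensionLT (x : R) (hx : IsSMulRegular R x) (n : ℕ) :
    ∀ (M : ModuleCat.{u} R) (_ : IsSMulRegular M x) [HasProjectiveDimensionLT M n],
      HasProjectiveDimensionLT (ModuleCat.of (R ⧸ Ideal.span {x}) (QuotSMulTop x M)) n := by
  induction n with
  | zero =>
    intro M _ _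
    have h := isZero_of_hasProjectiveDimensionLT_zero M
    rw [ModuleCat.isZero_iff_subsingleton] at h
    rw [hasProjectiveDimensionLT_zero_iff_isZero, ModuleCat.isZero_iff_subsingleton]
    change Subsingleton (QuotSMulTop x M)
    infer_instance
  | succ n ih =>
    intro M hxM hM
    rcases n with _ | n
    · have hp : Projective M := by
        rwa [projective_iff_hasProjectiveDimensionLT_one]
      rw [← IsProjective.iff_projective] at hp
      change HasProjectiveDimensionLT _ 1
      rw [← projective_iff_hasProjectiveDimensionLT_one, ← IsProjective.iff_projective]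
      exact projective_quotSMulTop x M
    · let S := M.projectiveShortComplex
      have hS : S.ShortExact := M.shortExact_projectiveShortComplex
      have h1 : HasProjectiveDimensionLT S.X₁ (n + 1) :=
        (hS.hasProjectiveDimensionLT_X₃_iff n inferInstance).mp hM
      have hinj : Function.Injective S.f.hom := (ModuleCat.mono_iff_injective _).mp hS.mono_f
      have hsurj : Function.Surjective S.g.hom := (ModuleCat.epi_iff_surjective _).mp hS.epi_g
      have hex : Function.Exact S.f.hom S.g.hom :=
        (ShortComplex.ShortExact.moduleCat_exact_iff_function_exact S).mp hS.exact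
      have hfree : Module.Free R S.X₂ := inferInstance
      have hreg2 : IsSMulRegular S.X₂ x := isSMulRegular_of_flat x hx S.X₂
      have hreg1 : IsSMulRegular S.X₁ x := hreg2.of_injective S.f.hom hinj
      have h2 := ih S.X₁ hreg1
      have hex' := qmap_exact x S.f.hom S.g.hom hex hsurj
      have hinj' := qmap_injective x S.f.hom S.g.hom hex hinj hxM
      have hsurj' := qmap_surjective x S.g.hom hsurj
      have hT := ModuleCat.shortComplex_shortExact
        (ModuleCat.shortComplexOfCompEqZero (qmap x S.f.hom) (qmap x S.g.hom) hex'.linearMap_comp_eq_zero)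
        hex' hinj' hsurj'
      refine (hT.hasProjectiveDimensionLT_X₃_iff n ?_).mpr h2
      rw [← IsProjective.iff_projective]
      exact projective_quotSMulTop x S.X₂

end Groth.Agent.Models.PdQuot
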