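import Mathlib.RingTheory.IntegralClosure.IsIntegralClosure.Basic
import Mathlib.RingTheory.IntegralClosure.IntegrallyClosed
import Mathlib.RingTheory.Localization.Away.Basic
import Mathlib.RingTheory.Noetherian.Basic
import Mathlib.Tactic.Ring
import Mathlib.Tactic.LinearCombination

/-!
# Integral closures and `π`-adic approximation

`A → A'` is a ring map which is an isomorphism modulo all powers of `π` (`π` a nonzerodivisor on both
sides).  The integral closure of `A` in `A[1/π]` is finite (resp. equal to `A`) as soon as
(resp. iff) the corresponding statement holds for `A'`.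
-/

set_option autoImplicit false

open Polynomial

namespace Groth.Agent.Models.RMAlg

variable {A A' B B' : Type*} [CommRing A] [CommRing A'] [CommRing B] [CommRing B']
  [Algebra A A'] [Algebra A B] [Algebra A' B'] [Algebra B B'] [Algebra A B']
  [IsScalarTower A A' B'] [IsScalarTower A B B']

/-- `A → A'` is an isomorphism modulo all powers of `π`, and `π` is a nonzerodivisor. -/
structure Approx (A A' : Type*) [CommRing A] [CommRing A'] [Algebra A A'] (π : A) : Prop where
  surj : ∀ (k : ℕ) (y : A'), ∃ (a : A) (z : A'), y = algebraMap A A' a + algebraMap A A' π ^ k * z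
  inj : ∀ (k : ℕ) (a : A) (z : A'), algebraMap A A' a = algebraMap A A' π ^ k * z → ∃ b, a = π ^ k * b
  reg : ∀ a : A, π * a = 0 → a = 0
  reg' : ∀ a : A', algebraMap A A' π * a = 0 → a = 0

theorem reg_pow {A : Type*} [CommRing A] {π : A} (h : ∀ a : A, π * a = 0 → a = 0) (n : ℕ) (a : A)
    (ha : π ^ n * a = 0) : a = 0 := by
  induction n with
  | zero => simpa using ha
  | succ n ih =>
    apply ih
    apply h
    rw [← ha]; ring

section

variable {π : A} (H : Approx A A' π) [IsLocalization.Away π B]
  [IsLocalization.Away (algebraMap A A' π) B']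

include H

omit [Algebra B B'] [Algebra A B'] [IsScalarTower A A' B'] [IsScalarTower A B B'] [Algebra A' B']
  [IsLocalization.Away (algebraMap A A' π) B'] in
theorem injective_algebraMap : Function.Injective (algebraMap A B) := by
  rw [injective_iff_map_eq_zero]
  intro a ha
  obtain ⟨⟨_, n, rfl⟩, hn⟩ := (IsLocalization.map_eq_zero_iff (Submonoid.powers π) B a).1 ha
  exact reg_pow H.reg n a hn

omit [Algebra A B] [Algebra B B'] [Algebra A B'] [IsScalarTower A A' B'] [IsScalarTower A B B']
  [IsLocalization.Away π B] in
theorem injective_algebraMap' : Function.Injective (algebraMap A' B') := by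
  rw [injective_iff_map_eq_zero]
  intro a ha
  obtain ⟨⟨_, n, rfl⟩, hn⟩ :=
    (IsLocalization.map_eq_zero_iff (Submonoid.powers (algebraMap A A' π)) B' a).1 ha
  exact reg_pow H.reg' n a hn

/-- The key approximation: if the image in `B'` of `b = a / π^n` is integral over `A'` then `b` is
integral over `A`. -/
theorem isIntegral_of_isIntegral (b : B) (hb : IsIntegral A' (algebraMap B B' b)) : IsIntegral A b := by
  obtain ⟨n, a, hab⟩ := IsLocalization.Away.surj π b
  obtain ⟨p, hp, hpb⟩ := hb
  set d := p.natDegree with hd
  have hπB : IsUnit (algebraMap A B π) := IsLocalization.Away.algebraMap_isUnit π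
  -- approximate the coefficients
  choose c z hcz using fun i => H.surj (n * d) (p.coeff i)
  -- the equation in `B'`
  have hab' : algebraMap A B' π ^ n * algebraMap B B' b = algebraMap A B' a := by
    have := congrArg (algebraMap B B') hab
    rw [map_mul, map_pow, ← IsScalarTower.algebraMap_apply A B B',
      ← IsScalarTower.algebraMap_apply A B B'] at this
    rw [← this]; ring
  have h1 : algebraMap B B' b ^ d + ∑ i ∈ Finset.range d, algebraMap A' B' (p.coeff i) * algebraMap B B' b ^ i = 0 := by
    have h2 := hpb
    rw [hp.as_sum] at h2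
    simpa [eval₂_finset_sum, ← hd] using h2
  -- multiply by `π ^ (n d)`
  have h2 : algebraMap A A' (a ^ d + ∑ i ∈ Finset.range d, c i * π ^ (n * (d - i)) * a ^ i) =
      algebraMap A A' π ^ (n * d) *
        (-∑ i ∈ Finset.range d, z i * algebraMap A A' π ^ (n * (d - i)) * algebraMap A A' a ^ i) := by
    apply injective_algebraMap' (B' := B') H
    have e1 : ∀ i ∈ Finset.range d, algebraMap A B' π ^ (n * d) *
        (algebraMap A' B' (p.coeff i) * algebraMap B B' b ^ i) =
        algebraMap A' B' (p.coeff i) * algebraMap A B' π ^ (n * (d - i)) * algebraMap A B' a ^ i := by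
      intro i hi
      have hid : i ≤ d := (Finset.mem_range.1 hi).le
      have : n * d = n * (d - i) + n * i := by rw [← mul_add, Nat.sub_add_cancel hid]
      rw [this, pow_add, ← hab', mul_pow, ← pow_mul]
      ring
    have e2 : algebraMap A B' π ^ (n * d) * algebraMap B B' b ^ d = algebraMap A B' a ^ d := by
      rw [← hab', mul_pow, ← pow_mul]
    have h3 := congrArg (fun t => algebraMap A B' π ^ (n * d) * t) h1
    simp only [mul_add, mul_zero, Finset.mul_sum] at h3
    rw [e2, Finset.sum_congr rfl e1] at h3
    have h4 : ∀ x : A, algebraMap A' B' (algebraMap A A' x) = algebraMap A B' x := fun x =>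
      (IsScalarTower.algebraMap_apply A A' B' x).symm
    simp only [map_add, map_sum, map_mul, map_pow, map_neg, h4]
    have e3 : ∀ i ∈ Finset.range d, algebraMap A' B' (p.coeff i) * algebraMap A B' π ^ (n * (d - i)) *
        algebraMap A B' a ^ i = algebraMap A B' (c i) * algebraMap A B' π ^ (n * (d - i)) * algebraMap A B' a ^ i
        + algebraMap A B' π ^ (n * d) * (algebraMap A' B' (z i) * algebraMap A B' π ^ (n * (d - i)) *
          algebraMap A B' a ^ i) := by
      intro i _
      conv_lhs => rw [hcz i, map_add, map_mul, map_pow, h4, h4]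
      ring
    rw [Finset.sum_congr rfl e3, Finset.sum_add_distrib, ← Finset.mul_sum] at h3
    linear_combination h3
  obtain ⟨b', hb'⟩ := H.inj _ _ _ h2
  rcases Nat.eq_zero_or_pos d with hd0 | hd0
  · -- `d = 0`: `b` is the image of an element of `A`
    have h5 : algebraMap A A' a = algebraMap A A' π ^ n * (algebraMap A A' a * 0) := by
      apply injective_algebraMap' (B' := B') H
      have h6 : (1 : B') = 0 := by simpa [hd0] using h1
      exact (subsingleton_of_zero_eq_one h6.symm).elim _ _
    obtain ⟨b0, hb0⟩ := H.inj _ _ _ h5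
    have : b = algebraMap A B b0 := by
      apply (hπB.pow n).mul_left_injective
      simp only
      rw [hab, hb0, map_mul, map_pow, mul_comm]
    rw [this]
    exact isIntegral_algebraMap
  · refine ⟨X ^ d + (∑ i ∈ Finset.range d, C (c i) * X ^ i - C b'), monic_X_pow_add ?_, ?_⟩
    · refine mem_degreeLT.1 (sub_mem (sum_mem fun i hi => ?_) ?_)
      · exact mem_degreeLT.2 (lt_of_le_of_lt (degree_C_mul_X_pow_le _ _)
          (by exact_mod_cast Finset.mem_range.1 hi))
      · exact mem_degreeLT.2 (lt_of_le_of_lt degree_C_le (by exact_mod_cast hd0))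
    · apply (hπB.pow (n * d)).mul_right_injective
      simp only [eval₂_add, eval₂_sub, eval₂_mul, eval₂_pow, eval₂_X, eval₂_C, eval₂_finset_sum, mul_zero]
      have h7 := congrArg (algebraMap A B) hb'
      simp only [map_add, map_sum, map_mul, map_pow] at h7
      have hab2 : algebraMap A B a = algebraMap A B π ^ n * b := by rw [← hab]; ring
      rw [hab2] at h7
      have e1 : ∀ i ∈ Finset.range d, algebraMap A B (c i) * algebraMap A B π ^ (n * (d - i)) *
          (algebraMap A B π ^ n * b) ^ i = algebraMap A B π ^ (n * d) * (algebraMap A B (c i) * b ^ i) := by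
        intro i hi
        have hid : i ≤ d := (Finset.mem_range.1 hi).le
        have : n * d = n * (d - i) + n * i := by rw [← mul_add, Nat.sub_add_cancel hid]
        rw [this, pow_add, mul_pow, ← pow_mul]
        ring
      rw [Finset.sum_congr rfl e1, ← Finset.mul_sum, mul_pow, ← pow_mul] at h7
      linear_combination h7

omit [IsScalarTower A B B'] [Algebra A B] [IsLocalization.Away π B] [Algebra B B'] in
/-- elements of `B'` are, modulo `A'`, fractions of elements of `A` -/
theorem exists_eq_add (w : B') : ∃ (n : ℕ) (a : A) (z : A'),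
    algebraMap A B' π ^ n * (w - algebraMap A' B' z) = algebraMap A B' a := by
  obtain ⟨n, y, hy⟩ := IsLocalization.Away.surj (algebraMap A A' π) w
  obtain ⟨a, z, rfl⟩ := H.surj n y
  refine ⟨n, a, z, ?_⟩
  rw [map_add, map_mul, map_pow, ← IsScalarTower.algebraMap_apply A A' B',
    ← IsScalarTower.algebraMap_apply A A' B'] at hy
  linear_combination hy

/-- every element of `B'` is the sum of an element of `B` and an element of `A'` -/
theorem exists_add (w : B') : ∃ (b : B) (z : A'), w = algebraMap B B' b + algebraMap A' B' z := by
  obtain ⟨n, a, z, h⟩ := exists_eq_add (B' := B') H w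
  have hπB : IsUnit (algebraMap A B π) := IsLocalization.Away.algebraMap_isUnit π
  have hπB' : IsUnit (algebraMap A B' π) := by
    rw [IsScalarTower.algebraMap_apply A B B']
    exact hπB.map _
  obtain ⟨u, hu⟩ := hπB.pow n
  refine ⟨↑u⁻¹ * algebraMap A B a, z, ?_⟩
  apply (hπB'.pow n).mul_right_injective
  simp only
  have h1 : algebraMap A B π ^ n * (↑u⁻¹ * algebraMap A B a) = algebraMap A B a := by
    rw [← hu, ← mul_assoc, Units.mul_inv, one_mul]
  have h2 := congrArg (algebraMap B B') h1
  rw [map_mul, map_pow, ← IsScalarTower.algebraMap_apply A B B', ← IsScalarTower.algebraMap_apply A B B'] at h2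
  linear_combination h - h2

/-- If `A` is integrally closed in `A[1/π]` then `A'` is integrally closed in `A'[1/π]`. -/
theorem integrallyClosed' (hA : ∀ b : B, IsIntegral A b → b ∈ Set.range (algebraMap A B)) (w : B')
    (hw : IsIntegral A' w) : w ∈ Set.range (algebraMap A' B') := by
  obtain ⟨b, z, rfl⟩ := exists_add (B := B) H w
  have h1 : IsIntegral A' (algebraMap B B' b) := by
    have := hw.sub (isIntegral_algebraMap (R := A') (A := B') (x := z))
    rwa [add_sub_cancel_right] at this
  obtain ⟨a, rfl⟩ := hA b (isIntegral_of_isIntegral (B' := B') H b h1)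
  refine ⟨algebraMap A A' a + z, ?_⟩
  rw [map_add, ← IsScalarTower.algebraMap_apply A A' B', ← IsScalarTower.algebraMap_apply A B B']

/-- elements of `B` whose image in `B'` lies in `A'` lie in `A` -/
theorem mem_range_of_mem_range (b : B) (z : A') (h : algebraMap B B' b = algebraMap A' B' z) :
    b ∈ Set.range (algebraMap A B) := by
  have hπB : IsUnit (algebraMap A B π) := IsLocalization.Away.algebraMap_isUnit π
  obtain ⟨n, a, hab⟩ := IsLocalization.Away.surj π b
  have h1 : algebraMap A A' a = algebraMap A A' π ^ n * z := by
    apply injective_algebraMap' (B' := B') H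
    have := congrArg (algebraMap B B') hab
    rw [map_mul, map_pow, ← IsScalarTower.algebraMap_apply A B B',
      ← IsScalarTower.algebraMap_apply A B B', h] at this
    rw [map_mul, map_pow, ← IsScalarTower.algebraMap_apply A A' B',
      ← IsScalarTower.algebraMap_apply A A' B', ← this]
    ring
  obtain ⟨b0, rfl⟩ := H.inj _ _ _ h1
  refine ⟨b0, ?_⟩
  apply (hπB.pow n).mul_left_injective
  simp only
  rw [hab, map_mul, map_pow, mul_comm]

/-- If the integral closure of `A'` in `A'[1/π]` is finite over `A'`, the integral closure of `A` in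
`A[1/π]` is finite over `A`. -/
theorem finite_integralClosure (hfin : Module.Finite A' (integralClosure A' B')) :
    Module.Finite A (integralClosure A B) := by
  classical
  obtain ⟨S, hS⟩ := hfin.fg_top
  -- decompose the generators
  have hdec : ∀ s : integralClosure A' B', ∃ (m : integralClosure A B) (z : A'),
      (s : B') = algebraMap B B' m + algebraMap A' B' z := by
    intro s
    obtain ⟨b, z, hbz⟩ := exists_add (B := B) H (s : B')
    have h1 : IsIntegral A' (algebraMap B B' b) := by
      have := (s.2 : IsIntegral A' (s : B')).sub (isIntegral_algebraMap (R := A') (A := B') (x := z))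
      rwa [hbz, add_sub_cancel_right] at this
    exact ⟨⟨b, isIntegral_of_isIntegral (B' := B') H b h1⟩, z, hbz⟩
  choose m z hmz using hdec
  -- a common denominator
  have hden : ∀ s, ∃ (n : ℕ) (a : A), algebraMap A B π ^ n * (m s : B) = algebraMap A B a := by
    intro s
    obtain ⟨n, a, h⟩ := IsLocalization.Away.surj π (m s : B)
    exact ⟨n, a, by rw [← h]; ring⟩
  choose n a hna using hden
  set N := S.sup n with hN
  have hden2 : ∀ s ∈ S, ∃ a' : A, algebraMap A B π ^ N * (m s : B) = algebraMap A B a' := by
    intro s hs
    have hle : n s ≤ N := Finset.le_sup hs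
    refine ⟨π ^ (N - n s) * a s, ?_⟩
    rw [map_mul, map_pow, ← hna s, ← mul_assoc, ← pow_add, Nat.sub_add_cancel hle]
  refine ⟨⟨insert 1 (S.image m), ?_⟩⟩
  rw [eq_top_iff]
  intro x _
  -- express the image of `x`
  have hx : IsIntegral A' (algebraMap B B' (x : B)) := by
    have h1 : IsIntegral A (x : B) := x.2
    have h2 : IsIntegral A (algebraMap B B' (x : B)) := h1.algebraMap
    exact h2.tower_top
  have hxm : (⟨algebraMap B B' (x : B), hx⟩ : integralClosure A' B') ∈ Submodule.span A' (S : Set _) := by
    rw [hS]; trivial
  rw [Submodule.mem_span_finset] at hxm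
  obtain ⟨f, -, hf⟩ := hxm
  have hf' : ∑ s ∈ S, algebraMap A' B' (f s) * (s : B') = algebraMap B B' (x : B) := by
    have := congrArg (Subtype.val : integralClosure A' B' → B') hf
    simp only [AddSubmonoidClass.coe_finset_sum, SetLike.val_smul] at this
    rw [← this]
    exact Finset.sum_congr rfl fun s _ => by rw [Algebra.smul_def]
  choose c y hcy using fun s => H.surj N (f s)
  choose! a' ha' using hden2
  -- the difference lies in `A`
  have hkey : algebraMap B B' ((x : B) - ∑ s ∈ S, algebraMap A B (c s) * (m s : B)) =
      algebraMap A' B' (∑ s ∈ S, (y s * algebraMap A A' (a' s) + f s * z s)) := by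
    have h4 : ∀ x : A, algebraMap A' B' (algebraMap A A' x) = algebraMap A B' x := fun x =>
      (IsScalarTower.algebraMap_apply A A' B' x).symm
    have h5 : ∀ x : A, algebraMap B B' (algebraMap A B x) = algebraMap A B' x := fun x =>
      (IsScalarTower.algebraMap_apply A B B' x).symm
    rw [map_sub, ← hf', map_sum, map_sum, ← Finset.sum_sub_distrib]
    refine Finset.sum_congr rfl fun s hs => ?_
    have h6 := congrArg (algebraMap B B') (ha' s hs)
    rw [map_mul, map_pow, h5, h5] at h6
    rw [map_add, map_mul, map_mul, map_mul, h4, h5, hmz s]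
    have h7 := congrArg (algebraMap A' B') (hcy s)
    rw [map_add, map_mul, map_pow, h4, h4] at h7
    rw [← h6]
    linear_combination (algebraMap B B' (m s : B)) * h7
  obtain ⟨a0, ha0⟩ := mem_range_of_mem_range (B' := B') H _ _ hkey
  have hx2 : x = algebraMap A (integralClosure A B) a0 + ∑ s ∈ S, c s • m s := by
    apply Subtype.ext
    rw [AddMemClass.coe_add, AddSubmonoidClass.coe_finset_sum]
    have h8 : ∀ s, ((c s • m s : integralClosure A B) : B) = algebraMap A B (c s) * (m s : B) := fun s => by
      rw [SetLike.val_smul, Algebra.smul_def]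
    simp only [h8]
    have : ((algebraMap A (integralClosure A B) a0 : integralClosure A B) : B) = algebraMap A B a0 := rfl
    rw [this, ha0]
    ring
  rw [hx2]
  refine add_mem ?_ (sum_mem fun s hs => Submodule.smul_mem _ _ (Submodule.subset_span ?_))
  · rw [Algebra.algebraMap_eq_smul_one]
    exact Submodule.smul_mem _ _ (Submodule.subset_span (by simp))
  · simp only [Finset.coe_insert, Finset.coe_image]
    exact Or.inr ⟨s, hs, rfl⟩

end

end Groth.Agent.Models.RMAlg
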