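import Groth.Agent.Models.RMAlg
import Mathlib.RingTheory.AdicCompletion.LocalRing
import Mathlib.RingTheory.AdicCompletion.AsTensorProduct
import Mathlib.RingTheory.AdicCompletion.Completeness
import Mathlib.RingTheory.DiscreteValuationRing.Basic
import Mathlib.RingTheory.Flat.Basic
import Mathlib.RingTheory.Flat.Stability
import Mathlib.RingTheory.Flat.TorsionFree
import Mathlib.LinearAlgebra.TensorProduct.Quotient

/-!
# The approximation property for the completion of a discrete valuation ring, and its base change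
-/

set_option autoImplicit false

open TensorProduct IsLocalRing

namespace Groth.Agent.Models.RMAlg

theorem approx_self {R : Type*} [CommRing R] [IsDomain R] [IsDiscreteValuationRing R] (ϖ : R)
    (h : Irreducible ϖ) : Approx R (AdicCompletion (maximalIdeal R) R) ϖ := by
  have hI : ∀ k, maximalIdeal R ^ k = Ideal.span {ϖ ^ k} := fun k => by
    rw [h.maximalIdeal_eq, Ideal.span_singleton_pow]
  refine ⟨fun k y => ?_, fun k a z hz => ?_, fun a ha => ?_, fun a ha => ?_⟩
  · obtain ⟨r, hr⟩ := Submodule.mkQ_surjective _ (AdicCompletion.eval (maximalIdeal R) R k y)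
    have h1 : y - algebraMap R (AdicCompletion (maximalIdeal R) R) r ∈
        (maximalIdeal R ^ k • ⊤ : Submodule R (AdicCompletion (maximalIdeal R) R)) := by
      rw [AdicCompletion.pow_smul_top_eq_ker_eval (maximalIdeal R).fg_of_isNoetherianRing, LinearMap.mem_ker,
        map_sub, sub_eq_zero, ← hr]
      rfl
    rw [Ideal.smul_top_eq_map, Submodule.restrictScalars_mem, hI, Ideal.map_span, Set.image_singleton,
      Ideal.mem_span_singleton] at h1
    obtain ⟨z, hz⟩ := h1
    refine ⟨r, z, ?_⟩
    rw [map_pow] at hz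
    rw [← hz]; ring
  · have h1 := congrArg (AdicCompletion.evalₐ (maximalIdeal R) k) hz
    have h2 : algebraMap R (R ⧸ maximalIdeal R ^ k) ϖ ^ k = 0 := by
      rw [← map_pow, Ideal.Quotient.algebraMap_eq, Ideal.Quotient.eq_zero_iff_mem, hI]
      exact Ideal.mem_span_singleton_self _
    rw [map_mul, map_pow, AlgHom.commutes, AlgHom.commutes, h2, zero_mul, Ideal.Quotient.algebraMap_eq,
      Ideal.Quotient.eq_zero_iff_mem, hI, Ideal.mem_span_singleton] at h1
    exact h1
  · exact (mul_eq_zero.1 ha).resolve_left h.ne_zero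
  · have h1 := Module.Flat.isSMulRegular_of_nonZeroDivisors (M := AdicCompletion (maximalIdeal R) R)
      (mem_nonZeroDivisors_of_ne_zero h.ne_zero)
    apply h1
    simp only [smul_zero]
    rw [Algebra.smul_def]
    exact ha

theorem Approx.tensor {R S : Type*} [CommRing R] [CommRing S] [Algebra R S] {ϖ : R} (H : Approx R S ϖ)
    [Module.Flat R S] (hϖ : ϖ ∈ nonZeroDivisors R) (A : Type*) [CommRing A] [Algebra R A] [Module.Flat R A] :
    Approx A (A ⊗[R] S) (algebraMap R A ϖ) := by
  have hsm : ∀ (k : ℕ) (z : A ⊗[R] S), algebraMap A (A ⊗[R] S) (algebraMap R A ϖ) ^ k * z = ϖ ^ k • z := by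
    intro k z
    rw [← IsScalarTower.algebraMap_apply R A (A ⊗[R] S), ← map_pow, ← Algebra.smul_def]
  refine ⟨fun k y => ?_, fun k a z hz => ?_, fun a ha => ?_, fun a ha => ?_⟩
  · simp only [hsm]
    induction y with
    | zero => exact ⟨0, 0, by simp⟩
    | add x y hx hy =>
      obtain ⟨a, z, rfl⟩ := hx
      obtain ⟨a', z', rfl⟩ := hy
      exact ⟨a + a', z + z', by rw [map_add, smul_add]; abel⟩
    | tmul a s =>
      obtain ⟨r, z, rfl⟩ := H.surj k s
      refine ⟨r • a, a ⊗ₜ z, ?_⟩
      rw [← map_pow, ← Algebra.smul_def, TensorProduct.tmul_add, TensorProduct.tmul_smul,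
        Algebra.algebraMap_eq_smul_one, TensorProduct.tmul_smul, TensorProduct.smul_tmul',
        Algebra.TensorProduct.algebraMap_apply, Algebra.algebraMap_self, RingHom.id_apply]
  · rw [hsm] at hz
    let I : Ideal R := Ideal.span {ϖ ^ k}
    let J : Submodule R S := (Ideal.span {algebraMap R S ϖ ^ k}).restrictScalars R
    have hIJ : I ≤ Submodule.comap (Algebra.linearMap R S) J := by
      intro r hr
      obtain ⟨c, rfl⟩ := Ideal.mem_span_singleton.1 hr
      change algebraMap R S (ϖ ^ k * c) ∈ Ideal.span {algebraMap R S ϖ ^ k}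
      rw [map_mul, map_pow]
      exact Ideal.mul_mem_right _ _ (Ideal.mem_span_singleton_self _)
    let j : (R ⧸ I) →ₗ[R] (S ⧸ J) := Submodule.mapQ I J (Algebra.linearMap R S) hIJ
    have hj : Function.Injective j := by
      rw [← LinearMap.ker_eq_bot, LinearMap.ker_eq_bot']
      intro m hm
      obtain ⟨r, rfl⟩ := Submodule.mkQ_surjective _ m
      have h1 : algebraMap R S r ∈ J := by
        rw [Submodule.mkQ_apply, Submodule.mapQ_apply, Submodule.Quotient.mk_eq_zero] at hm
        exact hm
      obtain ⟨c, hc⟩ := Ideal.mem_span_singleton.1 h1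
      obtain ⟨b, hb⟩ := H.inj k r c hc
      rw [Submodule.mkQ_apply, Submodule.Quotient.mk_eq_zero]
      exact Ideal.mem_span_singleton.2 ⟨b, hb⟩
    have hjA := Module.Flat.lTensor_preserves_injective_linearMap (M := A) j hj
    have hz' : (a ⊗ₜ (1 : S) : A ⊗[R] S) = ϖ ^ k • z := by
      rw [← hz, Algebra.TensorProduct.algebraMap_apply]; rfl
    have h2 : (LinearMap.lTensor A J.mkQ) (a ⊗ₜ (1 : S)) = 0 := by
      rw [hz', map_smul]
      have hw : ∀ w : A ⊗[R] (S ⧸ J), ϖ ^ k • w = 0 := by
        intro w
        induction w with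
        | zero => simp
        | add x y hx hy => rw [smul_add, hx, hy, add_zero]
        | tmul b s =>
          obtain ⟨s, rfl⟩ := Submodule.mkQ_surjective _ s
          rw [← TensorProduct.tmul_smul, ← map_smul]
          have : J.mkQ (ϖ ^ k • s) = 0 := by
            rw [Submodule.mkQ_apply, Submodule.Quotient.mk_eq_zero]
            change ϖ ^ k • s ∈ Ideal.span {algebraMap R S ϖ ^ k}
            rw [Algebra.smul_def, map_pow]
            exact Ideal.mul_mem_right _ _ (Ideal.mem_span_singleton_self _)
          rw [this, TensorProduct.tmul_zero]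
      exact hw _
    have h3 : (a ⊗ₜ[R] (Submodule.Quotient.mk 1 : R ⧸ I) : A ⊗[R] (R ⧸ I)) = 0 := by
      apply hjA
      rw [map_zero, LinearMap.lTensor_tmul, ← h2, LinearMap.lTensor_tmul]
      congr 1
      change Submodule.Quotient.mk (algebraMap R S 1) = _
      rw [map_one]; rfl
    have h4 := congrArg (TensorProduct.tensorQuotEquivQuotSMul A I) h3
    have h5 := TensorProduct.tensorQuotEquivQuotSMul_tmul_mk (M := A) I a 1
    rw [map_zero] at h4
    rw [one_smul] at h5
    have h6 : (Submodule.Quotient.mk a : A ⧸ (I • (⊤ : Submodule R A))) = 0 := by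
      rw [← h5]; exact h4
    rw [Submodule.Quotient.mk_eq_zero, Submodule.ideal_span_singleton_smul,
      Submodule.mem_smul_pointwise_iff_exists] at h6
    obtain ⟨b, -, hb⟩ := h6
    exact ⟨b, by rw [← hb, Algebra.smul_def, map_pow]⟩
  · have := Module.Flat.isSMulRegular_of_nonZeroDivisors (M := A) hϖ
    apply this
    simp only [smul_zero]
    rw [Algebra.smul_def]
    exact ha
  · have := Module.Flat.isSMulRegular_of_nonZeroDivisors (M := A ⊗[R] S) hϖ
    apply this
    simp only [smul_zero]
    have h1 := hsm 1 a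
    rw [pow_one, pow_one] at h1
    rw [← h1]
    exact ha

/-- For `R` a discrete valuation ring and `A` a flat `R`-algebra, `A → A ⊗ R^` is an isomorphism modulo all
powers of the uniformizer. -/
theorem approx {R : Type*} [CommRing R] [IsDomain R] [IsDiscreteValuationRing R] (ϖ : R) (h : Irreducible ϖ)
    (A : Type*) [CommRing A] [Algebra R A] [Module.Flat R A] :
    Approx A (A ⊗[R] AdicCompletion (maximalIdeal R) R) (algebraMap R A ϖ) :=
  (approx_self ϖ h).tensor (mem_nonZeroDivisors_of_ne_zero h.ne_zero) A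

end Groth.Agent.Models.RMAlg
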