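import Groth.Agent.S0565
import Groth.Agent.Divis.BlowUpFormal
import Groth.Agent.Ega4dB.BlowFT
import Groth.Agent.Flat2C.BlowProper
import Groth.Agent.CurvesC.BlowUpCharts
import Groth.Agent.Picfga.IdealDescent
import Groth.Agent.Dix.PointIdeal
import Groth.Agent.Fdesc.FlatStalk

/-!
# Resolving a point by one blow-up

`Resolvable A`: the local ring `A` has a primary ideal (or the unit ideal) whose blow-up is regular.  This descends along
flat local maps `A → B` with `𝔪_A B = 𝔪_B` and trivial residue field extension (e.g. the completion).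
-/

set_option autoImplicit false
universe u

open CategoryTheory CategoryTheory.Limits AlgebraicGeometry IsLocalRing

namespace Groth.Agent.Models.RMBlow

/-- `A` has an ideal containing a power of the maximal ideal whose blow-up is regular. -/
def Resolvable (A : Type u) [CommRing A] [IsLocalRing A] : Prop :=
  ∃ I : Ideal A, (∃ n, maximalIdeal A ^ n ≤ I) ∧ ∃ (X : Scheme.{u}) (b : X ⟶ Spec (CommRingCat.of A)),
    BlowUp.IsBlowUp b (Curv2.idealSheaf A I) ∧ ∀ x : X, IsRegularLocalRing (X.presheaf.stalk x)

theorem comap_SpecMap {A B : Type u} [CommRing A] [CommRing B] (φ : A →+* B) (I : Ideal A) :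
    (Curv2.idealSheaf A I).comap (Spec.map (CommRingCat.ofHom φ)) = Curv2.idealSheaf B (I.map φ) := by
  rw [Curv2.idealSheaf, Groth.Agent.CurvesC.BlowUpCharts.comap_ofIdealTop, Curv2.idealSheaf, Ideal.map_map,
    Ideal.map_map]
  congr 2
  have := Scheme.ΓSpecIso_inv_naturality (CommRingCat.ofHom φ)
  exact (congrArg CommRingCat.Hom.hom this).symm

theorem isRegularLocalRing_stalk_of_flat {X Y : Scheme.{u}} (f : Y ⟶ X) [Flat f] [IsLocallyNoetherian X]
    (y : Y) (h : IsRegularLocalRing (Y.presheaf.stalk y)) : IsRegularLocalRing (X.presheaf.stalk (f y)) := by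
  algebraize [(f.stalkMap y).hom]
  have : IsNoetherianRing (X.presheaf.stalk (f y)) := inferInstance
  have : IsLocalHom (algebraMap (X.presheaf.stalk (f y)) (Y.presheaf.stalk y)) :=
    inferInstanceAs (IsLocalHom (f.stalkMap y).hom)
  have : Module.Flat (X.presheaf.stalk (f y)) (Y.presheaf.stalk y) := Flat.stalkMap f y
  exact Groth.Agent.S0565.result (X.presheaf.stalk (f y)) (Y.presheaf.stalk y)

/-- Approximation modulo all powers of the maximal ideal from approximation modulo the maximal ideal. -/
theorem exists_sub_mem_pow {A B : Type*} [CommRing A] [IsLocalRing A] [CommRing B] [IsLocalRing B]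
    (φ : A →+* B) (hm : (maximalIdeal A).map φ = maximalIdeal B)
    (hs : ∀ b : B, ∃ a : A, b - φ a ∈ maximalIdeal B) (n : ℕ) (b : B) :
    ∃ a : A, b - φ a ∈ maximalIdeal B ^ n := by
  induction n generalizing b with
  | zero => exact ⟨0, by simp⟩
  | succ n ih =>
    obtain ⟨a, ha⟩ := hs b
    have key : ∀ c ∈ maximalIdeal B, ∃ a : A, c - φ a ∈ maximalIdeal B ^ (n + 1) := by
      intro c hc
      rw [← hm, Ideal.map] at hc
      refine Submodule.span_induction (p := fun c _ => ∃ a : A, c - φ a ∈ maximalIdeal B ^ (n + 1))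
        ?_ ?_ ?_ ?_ hc
      · rintro _ ⟨m, hm', rfl⟩
        exact ⟨m, by simp⟩
      · exact ⟨0, by simp⟩
      · rintro x y _ _ ⟨a, ha⟩ ⟨a', ha'⟩
        refine ⟨a + a', ?_⟩
        have := add_mem ha ha'
        rwa [show x - φ a + (y - φ a') = x + y - φ (a + a') by rw [map_add]; ring] at this
      · rintro r x hx ⟨a, ha⟩
        obtain ⟨r0, hr0⟩ := ih r
        refine ⟨r0 * a, ?_⟩
        have hx' : x ∈ maximalIdeal B := by
          rw [← hm]; exact hx
        have e : r • x - φ (r0 * a) = (r - φ r0) * x + φ r0 * (x - φ a) := by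
          rw [smul_eq_mul, map_mul]; ring
        rw [e]
        refine add_mem ?_ (Ideal.mul_mem_left _ _ ha)
        rw [pow_succ]
        exact Ideal.mul_mem_mul hr0 hx'
    obtain ⟨a', ha'⟩ := key _ ha
    refine ⟨a + a', ?_⟩
    rwa [sub_sub, ← map_add] at ha'

/-- `Resolvable` descends along flat local maps which are isomorphisms modulo powers of the maximal
ideals. -/
theorem Resolvable.descend {A B : Type u} [CommRing A] [IsLocalRing A] [IsNoetherianRing A]
    [CommRing B] [IsLocalRing B] [Algebra A B] [IsLocalHom (algebraMap A B)]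
    [Module.Flat A B] (hm : (maximalIdeal A).map (algebraMap A B) = maximalIdeal B)
    (hs : ∀ b : B, ∃ a : A, b - algebraMap A B a ∈ maximalIdeal B) (h : Resolvable B) : Resolvable A := by
  obtain ⟨J, ⟨n, hn⟩, Y, c, hc, hreg⟩ := h
  have hJ : (J.comap (algebraMap A B)).map (algebraMap A B) = J := by
    apply le_antisymm Ideal.map_comap_le
    intro z hz
    obtain ⟨a, ha⟩ := exists_sub_mem_pow (algebraMap A B) hm hs n z
    have h1 : a ∈ J.comap (algebraMap A B) := by
      have := J.sub_mem hz (hn ha)
      rwa [sub_sub_cancel] at this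
    have h2 : maximalIdeal B ^ n ≤ (J.comap (algebraMap A B)).map (algebraMap A B) := by
      rw [← hm, ← Ideal.map_pow]
      apply Ideal.map_mono
      rw [← Ideal.map_le_iff_le_comap, Ideal.map_pow, hm]
      exact hn
    have := add_mem (h2 ha) (Ideal.mem_map_of_mem (algebraMap A B) h1)
    rwa [sub_add_cancel] at this
  have hn' : maximalIdeal A ^ n ≤ J.comap (algebraMap A B) := by
    rw [← Ideal.map_le_iff_le_comap, Ideal.map_pow, hm]
    exact hn
  refine ⟨J.comap (algebraMap A B), ⟨n, hn'⟩, ?_⟩
  obtain ⟨X, b, hb⟩ := Groth.Agent.Flat2C.BlowExist.exists_isBlowUp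
    (Curv2.idealSheaf A (J.comap (algebraMap A B)))
  refine ⟨X, b, hb, fun x => ?_⟩
  have hff : Module.FaithfullyFlat A B := Module.FaithfullyFlat.of_flat_of_isLocalHom
  let g := Spec.map (CommRingCat.ofHom (algebraMap A B))
  have hg : Flat g := by
    rw [Flat.SpecMap_iff]
    exact (RingHom.flat_algebraMap_iff).2 inferInstance
  have hgs : Surjective g := ⟨PrimeSpectrum.comap_surjective_of_faithfullyFlat⟩
  have H : IsPullback (pullback.fst b g) (pullback.snd b g) b g := IsPullback.of_hasPullback b g
  have hb2 := Groth.Agent.Divis.BlowUpFormal.isBlowUp_of_isPullback hb H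
  rw [comap_SpecMap, hJ] at hb2
  obtain ⟨e, -⟩ := Groth.Agent.Divis.BlowUpFormal.exists_iso_of_isBlowUp hb2 hc
  have : IsLocallyNoetherian X :=
    Groth.Agent.Ega4dB.BlowFT.isLocallyNoetherian_of_isBlowUp hb
  have hs' : Surjective (pullback.fst b g) := inferInstance
  obtain ⟨y, rfl⟩ := hs'.surj x
  have hfl : Flat (pullback.fst b g) := inferInstance
  apply isRegularLocalRing_stalk_of_flat
  have h3 := hreg (e.hom y)
  exact IsRegularLocalRing.of_ringEquiv (asIso (e.hom.stalkMap y)).commRingCatIsoToRingEquiv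

theorem mem_support_idealSheaf {A : Type u} [CommRing A] (I : Ideal A) (w : Spec (CommRingCat.of A)) :
    w ∈ (Curv2.idealSheaf A I).support ↔ I ≤ w.asIdeal := by
  rw [← SetLike.mem_coe, Curv2.idealSheaf, Scheme.IdealSheafData.coe_support_ofIdealTop, Spec_zeroLocus]
  change ((Scheme.ΓSpecIso (CommRingCat.of A)).inv.hom ⁻¹'
    (I.map (Scheme.ΓSpecIso (CommRingCat.of A)).inv.hom : Ideal _) ⊆ (w.asIdeal : Set A)) ↔ _
  have h1 : (I.map (Scheme.ΓSpecIso (CommRingCat.of A)).inv.hom).comap
      (Scheme.ΓSpecIso (CommRingCat.of A)).inv.hom = I := by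
    exact Ideal.comap_map_of_bijective _
      (ConcreteCategory.bijective_of_isIso (Scheme.ΓSpecIso (CommRingCat.of A)).inv)
  constructor
  · intro h r hr
    exact h (show r ∈ (I.map (Scheme.ΓSpecIso (CommRingCat.of A)).inv.hom).comap
      (Scheme.ΓSpecIso (CommRingCat.of A)).inv.hom by rw [h1]; exact hr)
  · intro h r hr
    apply h
    rw [← h1]
    exact hr

/-- On a locally noetherian scheme every ideal sheaf is of finite type. -/
theorem isFiniteTypeIdeal {X : Scheme.{u}} [IsLocallyNoetherian X] (𝓘 : X.IdealSheafData) :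
    BlowUp.IsFiniteTypeIdeal 𝓘 := fun U => by
  have : IsNoetherianRing Γ(X, U.1) := IsLocallyNoetherian.component_noetherian U
  exact IsNoetherian.noetherian _

/-- A closed point with resolvable local ring of a locally noetherian scheme can be resolved by a blow-up with centre
supported at this point. -/
theorem exists_blowUp {X : Scheme.{u}} [IsLocallyNoetherian X] (x : X) (hx : IsClosed ({x} : Set X))
    (h : Resolvable (X.presheaf.stalk x)) :
    ∃ (X' : Scheme.{u}) (b : X' ⟶ X) (𝓘 : X.IdealSheafData), BlowUp.IsBlowUp b 𝓘 ∧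
      BlowUp.IsFiniteTypeIdeal 𝓘 ∧ ((𝓘.support : Set X) ⊆ {x}) ∧
      ∀ x' : X', b x' = x → IsRegularLocalRing (X'.presheaf.stalk x') := by
  obtain ⟨I, ⟨n, hn⟩, Y, c, hc, hreg⟩ := h
  set f := X.fromSpecStalk x with hf
  have : IsNoetherianRing (X.presheaf.stalk x) := inferInstance
  have : IsLocallyNoetherian (Spec (X.presheaf.stalk x)) := inferInstance
  have : QuasiCompact f := inferInstance
  have hfl : Flat f := Groth.Agent.Fdesc.FlatStalk.flat_fromSpecStalk X x
  have : Mono f := inferInstance
  set J := Curv2.idealSheaf (X.presheaf.stalk x) I with hJ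
  have hcomap : (J.map f).comap f = J := by
    have := Groth.Agent.Picfga.IdealDescent.comap_map_of_isPullback
      (IsKernelPair.id_of_mono f) J
    rw [this, Scheme.IdealSheafData.comap_id, Scheme.IdealSheafData.map_id]
  have hsupp : ((J.map f).support : Set X) ⊆ {x} := by
    rw [Scheme.IdealSheafData.support_map]
    change closure (f '' J.support) ⊆ {x}
    refine closure_minimal ?_ hx
    rintro _ ⟨w, hw, rfl⟩
    have h1 : I ≤ w.asIdeal := (mem_support_idealSheaf I w).1 hw
    have h2 : maximalIdeal (X.presheaf.stalk x) ≤ w.asIdeal := fun r hr =>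
      w.isPrime.mem_of_pow_mem n (h1 (hn (Ideal.pow_mem_pow hr n)))
    have h3 : w = closedPoint (X.presheaf.stalk x) := by
      apply PrimeSpectrum.ext
      exact ((maximalIdeal.isMaximal _).eq_of_le w.isPrime.ne_top h2).symm
    rw [h3]
    exact Scheme.fromSpecStalk_closedPoint
  obtain ⟨X', b, hb⟩ := Groth.Agent.Flat2C.BlowExist.exists_isBlowUp (J.map f)
  refine ⟨X', b, J.map f, hb, isFiniteTypeIdeal _, hsupp, fun x' hx' => ?_⟩
  have H : IsPullback (pullback.fst b f) (pullback.snd b f) b f := IsPullback.of_hasPullback b f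
  have hb2 := Groth.Agent.Divis.BlowUpFormal.isBlowUp_of_isPullback hb H
  rw [hcomap] at hb2
  obtain ⟨e, -⟩ := Groth.Agent.Divis.BlowUpFormal.exists_iso_of_isBlowUp hb2 hc
  have : IsLocallyNoetherian X' :=
    Groth.Agent.Ega4dB.BlowFT.isLocallyNoetherian_of_isBlowUp hb
  obtain ⟨y, hy, -⟩ := Scheme.Pullback.exists_preimage_pullback (f := b) (g := f) x'
    (closedPoint (X.presheaf.stalk x)) (by rw [hx', hf, Scheme.fromSpecStalk_closedPoint])
  subst hy
  apply isRegularLocalRing_stalk_of_flat
  have h3 := hreg (e.hom y)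
  exact IsRegularLocalRing.of_ringEquiv (asIso (e.hom.stalkMap y)).commRingCatIsoToRingEquiv

end Groth.Agent.Models.RMBlow
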