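import Groth.Agent.S2620
import Mathlib.AlgebraicGeometry.Morphisms.FiniteType
import Mathlib.AlgebraicGeometry.Stalk
import Groth.Agent.CalgA.RegBasic
import Mathlib.RingTheory.DiscreteValuationRing.Basic

/-!
The regular locus of a scheme locally of finite type over a discrete valuation ring is open.
-/

set_option autoImplicit false
universe u

open CategoryTheory AlgebraicGeometry

namespace Groth.Agent.Models.RMOpen

theorem stalk_iff {A : Type u} [CommRing A] (w : Spec (CommRingCat.of A)) :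
    IsRegularLocalRing ((Spec (CommRingCat.of A)).presheaf.stalk w) ↔
      IsRegularLocalRing (Localization.AtPrime w.asIdeal) := by
  have e : ((Spec (CommRingCat.of A)).presheaf.stalk w) ≃+* Localization.AtPrime w.asIdeal :=
    (Spec.stalkIso (CommRingCat.of A) w).commRingCatIsoToRingEquiv
  exact ⟨fun _ => IsRegularLocalRing.of_ringEquiv e, fun _ => IsRegularLocalRing.of_ringEquiv e.symm⟩

theorem stalk_openImmersion_iff {X Y : Scheme.{u}} (j : Y ⟶ X) [IsOpenImmersion j] (y : Y) :
    IsRegularLocalRing (X.presheaf.stalk (j y)) ↔ IsRegularLocalRing (Y.presheaf.stalk y) := by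
  have e : (X.presheaf.stalk (j y)) ≃+* Y.presheaf.stalk y :=
    (asIso (j.stalkMap y)).commRingCatIsoToRingEquiv
  exact ⟨fun _ => IsRegularLocalRing.of_ringEquiv e, fun _ => IsRegularLocalRing.of_ringEquiv e.symm⟩

theorem isJ2_dvr (R : Type u) [CommRing R] [IsDomain R] [IsDiscreteValuationRing R] : EGA4.IsJ2 R := by
  refine Groth.Agent.S2620.result R ?_ ?_
  · refine (Set.finite_singleton (IsLocalRing.maximalIdeal R)).subset ?_
    intro I hI
    exact IsLocalRing.eq_maximalIdeal hI
  · exact (Ring.krullDimLE_iff (n := 1)).1 inferInstance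

theorem isOpen_reg_of_isJ2 {R : Type u} [CommRing R] (hR : EGA4.IsJ2 R)
    {X : Scheme.{u}} (p : X ⟶ Spec (CommRingCat.of R)) [LocallyOfFiniteType p] :
    IsOpen {x : X | IsRegularLocalRing (X.presheaf.stalk x)} := by
  rw [isOpen_iff_forall_mem_open]
  intro x hx
  obtain ⟨_, ⟨U, hU, rfl⟩, hxU, -⟩ :=
    X.isBasis_affineOpens.exists_subset_of_mem_open (Set.mem_univ x) isOpen_univ
  let ψ : R →+* Γ(X, U) :=
    (p.appLE ⊤ U le_top).hom.comp (Scheme.ΓSpecIso (CommRingCat.of R)).inv.hom
  have h1 : (p.appLE ⊤ U le_top).hom.FiniteType :=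
    LocallyOfFiniteType.finiteType_appLE (f := p) (isAffineOpen_top _) hU le_top
  have hψ : ψ.FiniteType := by
    refine RingHom.FiniteType.comp h1 ?_
    exact RingHom.FiniteType.of_surjective _
      (ConcreteCategory.bijective_of_isIso (Scheme.ΓSpecIso (CommRingCat.of R)).inv).2
  let _ : Algebra R Γ(X, U) := ψ.toAlgebra
  have ho : IsOpen (EGA4.regLocus Γ(X, U)) := hR Γ(X, U) hψ
  have hiff : ∀ q : Spec (CommRingCat.of Γ(X, U)), IsRegularLocalRing (X.presheaf.stalk (hU.fromSpec q)) ↔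
      q ∈ EGA4.regLocus Γ(X, U) := fun q =>
    (stalk_openImmersion_iff hU.fromSpec q).trans (stalk_iff (A := Γ(X, U)) q)
  refine ⟨hU.fromSpec '' (EGA4.regLocus Γ(X, U)), ?_, hU.fromSpec.isOpenEmbedding.isOpenMap _ ho, ?_⟩
  · rintro _ ⟨q, hq, rfl⟩
    exact (hiff q).2 hq
  · have h2 : x ∈ Set.range hU.fromSpec := by
      rw [hU.range_fromSpec]
      exact hxU
    obtain ⟨q, rfl⟩ := h2
    exact ⟨q, (hiff q).1 hx, rfl⟩

theorem isOpen_reg {R : Type u} [CommRing R] [IsDomain R] [IsDiscreteValuationRing R]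
    {X : Scheme.{u}} (p : X ⟶ Spec (CommRingCat.of R)) [LocallyOfFiniteType p] :
    IsOpen {x : X | IsRegularLocalRing (X.presheaf.stalk x)} :=
  isOpen_reg_of_isJ2 (isJ2_dvr R) p

end Groth.Agent.Models.RMOpen
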