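import Groth.Agent.Models.RMFlat
import Groth.Agent.S0384

/-!
# Proper flat integral models (from Nagata compactification)
-/

set_option autoImplicit false
universe u
open CategoryTheory CategoryTheory.Limits AlgebraicGeometry

namespace Groth.Agent.Models.RMFlat2

/-- A proper integral scheme over the fraction field of a DVR has a proper flat integral model. -/
theorem exists_proper_flat_model (R : Type u) [CommRing R] [IsDomain R] [IsDiscreteValuationRing R]
    {C : Scheme.{u}} (f : C ⟶ Spec (CommRingCat.of (FractionRing R))) [IsProper f] [IsIntegral C] :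
    ∃ (X : Scheme.{u}) (p : X ⟶ Spec (CommRingCat.of R)), Models.IsModel R X p C f ∧ IsProper p ∧ IsIntegral X := by
  have hopen : IsOpenImmersion (Spec.map (CommRingCat.ofHom (algebraMap R (FractionRing R)))) :=
    DVRGeneric.isOpenImmersion_generic R (FractionRing R)
  have : QuasiCompact (Spec.map (CommRingCat.ofHom (algebraMap R (FractionRing R)))) := inferInstance
  obtain ⟨Xc, j, g, hj, hjq, hg, hjg⟩ := Groth.Agent.S0384.result
    (f ≫ Spec.map (CommRingCat.ofHom (algebraMap R (FractionRing R))))
  obtain ⟨X, p, i, -, -, h1, h2, h3⟩ := RMFlat.exists_model_of_compactification f j g hjg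
  exact ⟨X, p, h1, h2, h3⟩

end Groth.Agent.Models.RMFlat2
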