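import Groth.Agent.Models.RMAlg
import Groth.Agent.Ega4C.NormIntIn
import Groth.Agent.Flat2G.SmoothNormal
import Groth.Agent.S0549
import Mathlib.RingTheory.Localization.BaseChange
import Mathlib.RingTheory.Smooth.Basic

/-!
# Normality of the completed base change

`A` a normal domain over a DVR `R` with smooth generic fibre: `A ⊗ R^` is a normal ring.
-/

set_option autoImplicit false
set_option linter.style.haveILetI false
universe u

open TensorProduct

namespace Groth.Agent.Models.RMNorm

open Groth.Agent.Models.RMAlg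

section

variable {R Rh A : Type u} [CommRing R] [CommRing Rh] [Algebra R Rh] [CommRing A] [Algebra R A]

/-- `A[1/ϖ] ⊗ R^` as an algebra over `A ⊗ R^`. -/
@[reducible] noncomputable def algAway (Rh A : Type u) [CommRing Rh] [Algebra R Rh] [CommRing A] [Algebra R A]
    (a : A) : Algebra (A ⊗[R] Rh) (Localization.Away a ⊗[R] Rh) :=
  (Algebra.TensorProduct.map (IsScalarTower.toAlgHom R A (Localization.Away a)) (AlgHom.id R Rh)).toRingHom.toAlgebra

theorem isNormalRing_tensor [IsDomain Rh] [IsIntegrallyClosed Rh] [IsNoetherianRing Rh]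
    [IsDomain A] [IsIntegrallyClosed A] (ϖ : R)
    (H : Approx A (A ⊗[R] Rh) (algebraMap R A ϖ)) (hϖ : algebraMap R A ϖ ≠ 0)
    [Algebra.Smooth R (Localization.Away (algebraMap R A ϖ))] : EGA4.IsNormalRing (A ⊗[R] Rh) := by
  let a : A := algebraMap R A ϖ
  let Aa := Localization.Away a
  letI : Algebra (A ⊗[R] Rh) (Aa ⊗[R] Rh) := algAway Rh A a
  have halg : ∀ z, algebraMap (A ⊗[R] Rh) (Aa ⊗[R] Rh) z =
    Algebra.TensorProduct.map (IsScalarTower.toAlgHom R A Aa) (AlgHom.id R Rh) z := fun z => rfl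
  haveI : IsScalarTower A (A ⊗[R] Rh) (Aa ⊗[R] Rh) := IsScalarTower.of_algebraMap_eq (by
    intro x
    rw [halg, Algebra.TensorProduct.algebraMap_apply]
    change _ = Algebra.TensorProduct.map (IsScalarTower.toAlgHom R A Aa) (AlgHom.id R Rh) (x ⊗ₜ 1)
    rw [Algebra.TensorProduct.map_tmul, map_one]
    rfl)
  haveI hloc : IsLocalization (Algebra.algebraMapSubmonoid (A ⊗[R] Rh) (Submonoid.powers a)) (Aa ⊗[R] Rh) :=
    IsLocalization.tensorProduct_tensorProduct R Rh (Submonoid.powers a) Aa (by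
      ext x
      change algebraMap (A ⊗[R] Rh) (Aa ⊗[R] Rh) (1 ⊗ₜ x) = 1 ⊗ₜ x
      rw [halg, Algebra.TensorProduct.map_tmul, map_one, AlgHom.coe_id, id])
  rw [Algebra.algebraMapSubmonoid_powers] at hloc
  haveI : IsLocalization.Away (algebraMap A (A ⊗[R] Rh) a) (Aa ⊗[R] Rh) := hloc
  -- the localization is normal
  have e : Rh ⊗[R] Aa ≃+* Aa ⊗[R] Rh := (Algebra.TensorProduct.comm R Rh Aa).toRingEquiv
  haveI : Algebra.Smooth R Aa := ‹_›
  have hT' : EGA4.IsNormalRing (Rh ⊗[R] Aa) :=
    Flat2G.SmoothNormal.isNormalRing_of_smooth (R := Rh) (Flat2G.SmoothNormal.isNormalRing_of_isIntegrallyClosed Rh)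
  have hT : EGA4.IsNormalRing (Aa ⊗[R] Rh) := Ega4C.NormUnion.isNormalRing_of_ringEquiv e.symm hT'
  haveI : IsNoetherianRing (Rh ⊗[R] Aa) := Algebra.FiniteType.isNoetherianRing Rh (Rh ⊗[R] Aa)
  haveI : IsNoetherianRing (Aa ⊗[R] Rh) := isNoetherianRing_of_ringEquiv _ e
  -- integral closedness
  haveI : IsScalarTower A Aa (Aa ⊗[R] Rh) := inferInstance
  haveI : IsIntegrallyClosedIn (A ⊗[R] Rh) (Aa ⊗[R] Rh) := by
    refine ⟨injective_algebraMap' H, ?_⟩
    intro y
    constructor
    · intro hy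
      refine integrallyClosed' (B := Aa) H ?_ y hy
      intro b hb
      have hle : Submonoid.powers a ≤ nonZeroDivisors A := powers_le_nonZeroDivisors_of_noZeroDivisors hϖ
      letI : Algebra Aa (FractionRing A) := (IsLocalization.lift (M := Submonoid.powers a) (g := algebraMap A (FractionRing A))
        (fun m => IsLocalization.map_units (FractionRing A) ⟨m.1, hle m.2⟩)).toAlgebra
      haveI : IsScalarTower A Aa (FractionRing A) := IsScalarTower.of_algebraMap_eq (fun x =>
        (IsLocalization.lift_eq _ x).symm)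
      have hbK : IsIntegral A (algebraMap Aa (FractionRing A) b) := hb.algebraMap
      obtain ⟨x, hx⟩ := IsIntegrallyClosed.isIntegral_iff.mp hbK
      haveI : IsFractionRing Aa (FractionRing A) :=
        IsFractionRing.isFractionRing_of_isDomain_of_isLocalization (Submonoid.powers a) Aa (FractionRing A)
      refine ⟨x, ?_⟩
      apply IsFractionRing.injective Aa (FractionRing A)
      rw [← IsScalarTower.algebraMap_apply, hx]
    · rintro ⟨x, rfl⟩
      exact isIntegral_algebraMap
  exact Ega4C.NormIntIn.isNormalRing_of_isIntegrallyClosedIn_noetherian (A ⊗[R] Rh) (Aa ⊗[R] Rh) hT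

end

end Groth.Agent.Models.RMNorm
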