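import Groth.Prelude.Def_Models
import Mathlib.Tactic

/-!
Reindexing a numerical type by a permutation of the index set: genus, topological genus,
Picard group and minimality are unchanged.  Also: if a type on `n + 1` indices is not minimal, one
may reindex it so that the last index is a `(-1)`-index.
-/

set_option autoImplicit false

namespace Groth.Agent.Models.Reindex

open Finset

variable {n : ℕ}

/-- The numerical type reindexed along a permutation. -/
def reindex (T : _root_.Models.NumericalType n) (σ : Equiv.Perm (Fin n)) :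
    _root_.Models.NumericalType n where
  m i := T.m (σ i)
  a := T.a.submatrix σ σ
  w i := T.w (σ i)
  g i := T.g (σ i)
  pos := T.pos
  m_pos i := T.m_pos _
  w_pos i := T.w_pos _
  g_nonneg i := T.g_nonneg _
  symm := T.symm.submatrix σ
  offDiag_nonneg i j hij := T.offDiag_nonneg _ _ (fun h => hij (σ.injective h))
  connected I hI hI' := by
    obtain ⟨i, hi, j, hj, hij⟩ := T.connected (I.map σ.toEmbedding) (hI.map) (by
      intro h
      apply hI'
      have h2 := congrArg (fun s => s.map σ.symm.toEmbedding) h
      simpa [Finset.map_map] using h2)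
    obtain ⟨i', hi', rfl⟩ := Finset.mem_map.1 hi
    refine ⟨i', hi', σ.symm j, ?_, ?_⟩
    · intro h
      exact hj (Finset.mem_map.2 ⟨_, h, by simp⟩)
    · simpa using hij
  mulVec_m := by
    ext i
    have := congrFun T.mulVec_m (σ i)
    simp only [Matrix.mulVec, dotProduct, Matrix.submatrix_apply, Pi.zero_apply] at this ⊢
    rw [← this]
    exact Equiv.sum_comp σ (fun j => T.a (σ i) j * T.m j)
  w_dvd i j := T.w_dvd _ _

@[simp] theorem reindex_m (T : _root_.Models.NumericalType n) (σ : Equiv.Perm (Fin n)) (i : Fin n) :
    (reindex T σ).m i = T.m (σ i) := rfl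

@[simp] theorem reindex_a (T : _root_.Models.NumericalType n) (σ : Equiv.Perm (Fin n))
    (i j : Fin n) : (reindex T σ).a i j = T.a (σ i) (σ j) := rfl

@[simp] theorem reindex_w (T : _root_.Models.NumericalType n) (σ : Equiv.Perm (Fin n)) (i : Fin n) :
    (reindex T σ).w i = T.w (σ i) := rfl

@[simp] theorem reindex_g (T : _root_.Models.NumericalType n) (σ : Equiv.Perm (Fin n)) (i : Fin n) :
    (reindex T σ).g i = T.g (σ i) := rfl

theorem reindex_genus (T : _root_.Models.NumericalType n) (σ : Equiv.Perm (Fin n)) :
    (reindex T σ).genus = T.genus := by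
  unfold _root_.Models.NumericalType.genus
  simp only [reindex_m, reindex_a, reindex_w, reindex_g]
  rw [Equiv.sum_comp σ (fun i => T.m i * T.w i * (T.g i - 1)),
    Equiv.sum_comp σ (fun i => T.m i * T.a i i)]

theorem reindex_isMinusOne (T : _root_.Models.NumericalType n) (σ : Equiv.Perm (Fin n))
    (i : Fin n) : (reindex T σ).IsMinusOne i ↔ T.IsMinusOne (σ i) := Iff.rfl

theorem reindex_isMinusTwo (T : _root_.Models.NumericalType n) (σ : Equiv.Perm (Fin n))
    (i : Fin n) : (reindex T σ).IsMinusTwo i ↔ T.IsMinusTwo (σ i) := Iff.rfl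

theorem reindex_isMinimal (T : _root_.Models.NumericalType n) (σ : Equiv.Perm (Fin n)) :
    (reindex T σ).IsMinimal ↔ T.IsMinimal := by
  constructor
  · intro h i hi
    exact h (σ.symm i) (by simpa [reindex_isMinusOne] using hi)
  · intro h i hi
    exact h (σ i) hi

theorem picMatrix_reindex (T : _root_.Models.NumericalType n) (σ : Equiv.Perm (Fin n)) :
    (reindex T σ).picMatrix = T.picMatrix.submatrix σ σ := rfl

/-- The Picard groups of a numerical type and of a reindexing of it are isomorphic. -/
noncomputable def picEquiv (T : _root_.Models.NumericalType n) (σ : Equiv.Perm (Fin n)) :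
    (reindex T σ).Pic ≃ₗ[ℤ] T.Pic :=
  Submodule.Quotient.equiv _ _ (LinearEquiv.funCongrLeft ℤ ℤ σ.symm) (by
    rw [picMatrix_reindex]
    ext x
    simp only [Submodule.mem_map, LinearMap.mem_range, Matrix.mulVecLin_apply]
    constructor
    · rintro ⟨y, ⟨z, rfl⟩, rfl⟩
      refine ⟨z ∘ σ.symm, ?_⟩
      ext i
      simp only [Matrix.mulVec, dotProduct, Function.comp, LinearEquiv.coe_coe,
        LinearEquiv.funCongrLeft_apply, LinearMap.funLeft_apply, Matrix.submatrix_apply,
        Equiv.apply_symm_apply]
      rw [← Equiv.sum_comp σ]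
      simp
    · rintro ⟨z, rfl⟩
      refine ⟨_, ⟨z ∘ σ, rfl⟩, ?_⟩
      ext i
      simp only [Matrix.mulVec, dotProduct, Function.comp, LinearEquiv.coe_coe,
        LinearEquiv.funCongrLeft_apply, LinearMap.funLeft_apply, Matrix.submatrix_apply,
        Equiv.apply_symm_apply]
      exact Equiv.sum_comp σ (fun j => T.picMatrix i j * z j))

/-- If a numerical type on `n + 1` indices is not minimal, it can be reindexed so that the last
index is a `(-1)`-index. -/
theorem exists_reindex_last (T : _root_.Models.NumericalType (n + 1)) (h : ¬ T.IsMinimal) :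
    ∃ σ : Equiv.Perm (Fin (n + 1)), (reindex T σ).IsMinusOne (Fin.last n) := by
  simp only [_root_.Models.NumericalType.IsMinimal, not_forall, not_not] at h
  obtain ⟨i, hi⟩ := h
  exact ⟨Equiv.swap i (Fin.last n), by simpa [reindex_isMinusOne] using hi⟩

end Groth.Agent.Models.Reindex
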