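import Mathlib.Tactic
import Mathlib.RingTheory.AdjoinRoot
import Mathlib.Dynamics.Newton
import Mathlib.LinearAlgebra.Lagrange
import Mathlib.RingTheory.Ideal.GoingUp
import Mathlib.RingTheory.LocalRing.ResidueField.Basic
import Mathlib.RingTheory.LocalRing.ResidueField.Ideal
import Mathlib.RingTheory.Finiteness.Basic

/-!
Local extensions with prescribed residue field extension and extraction of `h`-th roots.
-/

set_option autoImplicit false

namespace Groth.Agent.Models.RootExt

open Polynomial

universe u

/-- If `P` splits over the field `K`, `P(0) ≠ 0`, all the roots of `P` have an `h`-th root in `K` and `h ≠ 0`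
in `K`, then `X` has an `h`-th root modulo `P`. -/
theorem exists_dvd_pow_sub_X {K : Type*} [Field K] (h : ℕ) (hh : (h : K) ≠ 0) (P : K[X])
    (hP : P ≠ 0) (hP0 : P.eval 0 ≠ 0) (hsplit : P.Splits)
    (hroot : ∀ θ, P.IsRoot θ → ∃ η, η ^ h = θ) : ∃ W : K[X], P ∣ W ^ h - X := by
  classical
  have hh0 : h ≠ 0 := by rintro rfl; simp at hh
  choose! η hη using hroot
  set S : Finset K := P.roots.toFinset with hS
  set W₀ : K[X] := Lagrange.interpolate S id η with hW₀
  have hev : ∀ θ, P.IsRoot θ → W₀.eval θ = η θ := by
    intro θ hθ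
    have hmem : θ ∈ S := by
      rw [hS, Multiset.mem_toFinset, mem_roots hP]; exact hθ
    exact Lagrange.eval_interpolate_at_node (v := id) η (Set.injOn_id _) hmem
  have hdvd1 : ∀ θ, P.IsRoot θ → (X - C θ) ∣ W₀ ^ h - X := by
    intro θ hθ
    rw [dvd_iff_isRoot, IsRoot, eval_sub, eval_pow, eval_X, hev θ hθ, hη θ hθ, sub_self]
  have hdvd2 : P ∣ (W₀ ^ h - X) ^ (Multiset.card P.roots) := by
    have h1 : (P.roots.map (fun a => X - C a)).prod ∣ (W₀ ^ h - X) ^ (Multiset.card P.roots) := by
      have h2 : ∀ s : Multiset K, (∀ a ∈ s, P.IsRoot a) →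
          (s.map (fun a => X - C a)).prod ∣ (W₀ ^ h - X) ^ (Multiset.card s) := by
        intro s
        induction s using Multiset.induction_on with
        | empty => intro _; simp
        | cons a s ih =>
          intro hs
          rw [Multiset.map_cons, Multiset.prod_cons, Multiset.card_cons, pow_succ']
          exact mul_dvd_mul (hdvd1 a (hs a (Multiset.mem_cons_self a s)))
            (ih (fun b hb => hs b (Multiset.mem_cons_of_mem hb)))
      exact h2 _ (fun a ha => (mem_roots hP).1 ha)
    rw [Splits.eq_prod_roots hsplit]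
    have hu : IsUnit (C P.leadingCoeff) := by
      rw [isUnit_C]; exact (leadingCoeff_ne_zero.2 hP).isUnit
    rw [hu.mul_left_dvd]
    convert h1 using 3
    exact (Splits.eq_prod_roots hsplit) ▸ rfl
  -- work in the quotient ring
  set E := AdjoinRoot P with hE
  set x : E := AdjoinRoot.root P with hx
  have hxu : IsUnit x := by
    -- `P = P(0) + X Q`
    have h1 : P = C (P.eval 0) + X * P.divX := by
      conv_lhs => rw [← divX_mul_X_add P]
      rw [coeff_zero_eq_eval_zero]; ring
    have h2 : (AdjoinRoot.mk P) P = 0 := AdjoinRoot.mk_self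
    have h3 : x * AdjoinRoot.mk P P.divX = - AdjoinRoot.mk P (C (P.eval 0)) := by
      rw [h1, map_add, map_mul] at h2
      conv_lhs => rw [hx, ← AdjoinRoot.mk_X]
      rw [← h1] at h2
      exact eq_neg_of_add_eq_zero_right h2
    have h4 : IsUnit (x * AdjoinRoot.mk P P.divX) := by
      rw [h3]
      refine IsUnit.neg (IsUnit.map _ ?_)
      rw [isUnit_C]; exact hP0.isUnit
    exact isUnit_of_mul_isUnit_left h4
  set F : E[X] := X ^ h - C x with hF
  set w₀ : E := AdjoinRoot.mk P W₀ with hw₀
  have hnil : IsNilpotent (w₀ ^ h - x) := by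
    refine ⟨Multiset.card P.roots, ?_⟩
    have : (w₀ ^ h - x) ^ (Multiset.card P.roots) =
        AdjoinRoot.mk P ((W₀ ^ h - X) ^ (Multiset.card P.roots)) := by
      simp [hw₀, hx]
    rw [this, AdjoinRoot.mk_eq_zero]
    exact hdvd2
  have hw₀u : IsUnit w₀ := by
    have h1 : IsUnit (w₀ ^ h) := by
      have := IsNilpotent.isUnit_add_left_of_commute hnil hxu (Commute.all _ _)
      simpa using this
    exact (isUnit_pow_iff hh0).1 h1
  have hN := existsUnique_nilpotent_sub_and_aeval_eq_zero (P := F) (x := w₀)
    (by simpa [hF] using hnil) (by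
      have : aeval w₀ (derivative F) = (h : E) * w₀ ^ (h - 1) := by
        simp [hF, derivative_X_pow]
      rw [this]
      refine IsUnit.mul ?_ (hw₀u.pow _)
      have h5 : ((h : K) : K) ≠ 0 := hh
      have h6 : (h : E) = algebraMap K E (h : K) := by simp
      rw [h6]
      exact (h5.isUnit).map _)
  obtain ⟨w, ⟨-, hw⟩, -⟩ := hN
  obtain ⟨W, hW⟩ := AdjoinRoot.mk_surjective w
  refine ⟨W, ?_⟩
  rw [← AdjoinRoot.mk_eq_zero, map_sub, map_pow, hW, AdjoinRoot.mk_X]
  simpa [hF] using hw

/-- If `R` is local and `F` is a monic polynomial which is irreducible over the residue field, then `R[X]/(F)` is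
local with maximal ideal generated by that of `R`. -/
theorem local_adjoinRoot {R : Type u} [CommRing R] [IsLocalRing R] (F : R[X]) (hF : F.Monic)
    (hirr : Irreducible (F.map (IsLocalRing.residue R))) :
    ∃ (_ : IsLocalRing (AdjoinRoot F)), IsLocalRing.maximalIdeal (AdjoinRoot F) =
      (IsLocalRing.maximalIdeal R).map (algebraMap R (AdjoinRoot F)) := by
  have hfin : Module.Finite R (AdjoinRoot F) := hF.finite_adjoinRoot
  have hmax : ((IsLocalRing.maximalIdeal R).map (algebraMap R (AdjoinRoot F))).IsMaximal := by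
    have e := AdjoinRoot.quotAdjoinRootEquivQuotPolynomialQuot (IsLocalRing.maximalIdeal R) F
    let _ : Field (R ⧸ IsLocalRing.maximalIdeal R) := Ideal.Quotient.field _
    have hirr' : Irreducible (F.map (Ideal.Quotient.mk (IsLocalRing.maximalIdeal R))) := hirr
    have h1 : (Ideal.span {F.map (Ideal.Quotient.mk (IsLocalRing.maximalIdeal R))}).IsMaximal :=
      PrincipalIdealRing.isMaximal_of_irreducible hirr'
    let _ := Ideal.Quotient.field (Ideal.span {F.map (Ideal.Quotient.mk (IsLocalRing.maximalIdeal R))})
    exact Ideal.Quotient.maximal_of_isField _ (e.toMulEquiv.isField (Field.toIsField _))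
  have hloc : IsLocalRing (AdjoinRoot F) := by
    refine IsLocalRing.of_unique_max_ideal ⟨_, hmax, ?_⟩
    intro J hJ
    have h1 : (J.comap (algebraMap R (AdjoinRoot F))).IsMaximal :=
      Ideal.isMaximal_comap_of_isIntegral_of_isMaximal (R := R) J
    have h2 := IsLocalRing.eq_maximalIdeal h1
    have h3 : (IsLocalRing.maximalIdeal R).map (algebraMap R (AdjoinRoot F)) ≤ J := by
      rw [← h2]; exact Ideal.map_comap_le
    exact (hmax.eq_of_le hJ.ne_top h3).symm
  exact ⟨hloc, (IsLocalRing.eq_maximalIdeal hmax).symm⟩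

/-- Given a local ring `R` and a polynomial `Q` there is a finite free local extension `R'`, with maximal ideal
generated by that of `R`, such that `Q` splits over the residue field of `R'`. -/
theorem exists_local_ext_splits (n : ℕ) : ∀ (R : Type u) [CommRing R] [IsLocalRing R]
    (Q : R[X]), (Q.map (IsLocalRing.residue R)).natDegree ≤ n →
    ∃ (R' : Type u) (_ : CommRing R') (_ : IsLocalRing R') (_ : Algebra R R')
      (_ : Module.Finite R R') (_ : Module.Free R R'),
      IsLocalRing.maximalIdeal R' = (IsLocalRing.maximalIdeal R).map (algebraMap R R') ∧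
      (Q.map ((IsLocalRing.residue R').comp (algebraMap R R'))).Splits := by
  induction n with
  | zero =>
    intro R _ _ Q hQ
    refine ⟨R, inferInstance, inferInstance, inferInstance, inferInstance, inferInstance, ?_, ?_⟩
    · simp
    · simpa using Splits.of_natDegree_eq_zero (Nat.le_zero.1 hQ)
  | succ n ih =>
    intro R _ _ Q hQ
    set q := Q.map (IsLocalRing.residue R) with hq
    by_cases hdeg : q.natDegree = 0
    · refine ⟨R, inferInstance, inferInstance, inferInstance, inferInstance, inferInstance, ?_, ?_⟩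
      · simp
      · simpa using Splits.of_natDegree_eq_zero hdeg
    -- an irreducible monic factor
    have hirr0 := irreducible_factor q
    set G := factor q * C (factor q).leadingCoeff⁻¹ with hG
    have hirrG : Irreducible G := irreducible_mul_leadingCoeff_inv.2 hirr0
    have hGm : G.Monic := monic_mul_leadingCoeff_inv hirr0.ne_zero
    have hGq : G ∣ q := by
      have hu : IsUnit (C (factor q).leadingCoeff⁻¹) := by
        rw [isUnit_C]
        exact (inv_ne_zero (leadingCoeff_ne_zero.2 hirr0.ne_zero)).isUnit
      rw [hG, hu.mul_right_dvd]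
      exact factor_dvd_of_natDegree_ne_zero hdeg
    obtain ⟨F, hF1, -, hF3⟩ := lifts_and_natDegree_eq_and_monic (f := IsLocalRing.residue R)
      (p := G) (by
        rw [lifts_iff_coeff_lifts]
        intro k
        exact IsLocalRing.residue_surjective _) hGm
    obtain ⟨hloc, hmax⟩ := local_adjoinRoot F hF3 (by rw [hF1]; exact hirrG)
    set R1 := AdjoinRoot F with hR1
    have hfin1 : Module.Finite R R1 := hF3.finite_adjoinRoot
    have hfree1 : Module.Free R R1 := hF3.free_adjoinRoot
    set k1 := IsLocalRing.ResidueField R1 with hk1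
    set φ : R →+* k1 := (IsLocalRing.residue R1).comp (algebraMap R R1) with hφ
    set x : k1 := IsLocalRing.residue R1 (AdjoinRoot.root F) with hx
    have hlh : IsLocalHom (algebraMap R R1) := by
      have : (IsLocalRing.maximalIdeal R).map (algebraMap R R1) ≤ IsLocalRing.maximalIdeal R1 :=
        hmax.ge
      exact ((IsLocalRing.local_hom_TFAE (algebraMap R R1)).out 0 2).2 this
    have hφ' : φ = (IsLocalRing.ResidueField.map (algebraMap R R1)).comp (IsLocalRing.residue R) := by
      ext r; simp [hφ]
    have hxroot : (Q.map φ).IsRoot x := by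
      have h1 : (F.map φ).IsRoot x := by
        rw [IsRoot, eval_map]
        have : eval₂ φ x F = IsLocalRing.residue R1 (eval₂ (algebraMap R R1) (AdjoinRoot.root F) F) := by
          rw [hom_eval₂]
        rw [this]
        have h2 : eval₂ (algebraMap R R1) (AdjoinRoot.root F) F = 0 := AdjoinRoot.eval₂_root F
        rw [h2, map_zero]
      obtain ⟨q', hq'⟩ := hGq
      have h3 : Q.map φ = F.map φ * q'.map (IsLocalRing.ResidueField.map (algebraMap R R1)) := by
        rw [hφ', ← Polynomial.map_map, ← Polynomial.map_map, hF1, ← Polynomial.map_mul, ← hq']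
      rw [h3]
      exact root_mul_right_of_isRoot _ h1
    obtain ⟨q1, hq1⟩ := dvd_iff_isRoot.2 hxroot
    have hq1lift : q1 ∈ lifts (IsLocalRing.residue R1) := by
      rw [lifts_iff_coeff_lifts]
      intro k
      exact IsLocalRing.residue_surjective _
    obtain ⟨Q1, hQ1⟩ := (mem_lifts _).1 hq1lift
    have hqne : q ≠ 0 := by
      intro h0; rw [h0] at hdeg; simp at hdeg
    have hQφne : Q.map φ ≠ 0 := by
      rw [hφ', ← Polynomial.map_map]
      exact (Polynomial.map_ne_zero_iff (RingHom.injective _)).2 hqne
    have hq1ne : q1 ≠ 0 := by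
      rintro rfl; rw [mul_zero] at hq1; exact hQφne hq1
    have hdeg1 : q1.natDegree ≤ n := by
      have h4 : (Q.map φ).natDegree = q.natDegree := by
        rw [hφ', ← Polynomial.map_map]
        exact natDegree_map_eq_of_injective (RingHom.injective _) _
      rw [hq1, natDegree_mul (X_sub_C_ne_zero x) hq1ne, natDegree_X_sub_C] at h4
      omega
    obtain ⟨R', _, _, _, hfin', hfree', hmax', hsp'⟩ := ih R1 Q1 (by rw [hQ1]; exact hdeg1)
    letI : Algebra R R' := ((algebraMap R1 R').comp (algebraMap R R1)).toAlgebra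
    haveI : IsScalarTower R R1 R' := IsScalarTower.of_algebraMap_eq (fun _ => rfl)
    have hlh' : IsLocalHom (algebraMap R1 R') :=
      ((IsLocalRing.local_hom_TFAE (algebraMap R1 R')).out 0 2).2 hmax'.ge
    refine ⟨R', inferInstance, inferInstance, inferInstance, Module.Finite.trans R1 R',
      Module.Free.trans (R := R) (S := R1) (M := R'), ?_, ?_⟩
    · rw [hmax', hmax, Ideal.map_map]; rfl
    · have h5 : (IsLocalRing.residue R').comp (algebraMap R R') =
          (IsLocalRing.ResidueField.map (algebraMap R1 R')).comp φ := by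
        ext r
        simp [hφ, IsScalarTower.algebraMap_apply R R1 R']
      rw [h5, ← Polynomial.map_map, hq1, Polynomial.map_mul]
      refine Splits.mul ((Splits.X_sub_C x).map _) ?_
      rw [← hQ1, Polynomial.map_map]
      have h6 : (IsLocalRing.ResidueField.map (algebraMap R1 R')).comp (IsLocalRing.residue R1) =
          (IsLocalRing.residue R').comp (algebraMap R1 R') :=
        RingHom.ext fun r => IsLocalRing.ResidueField.map_residue (algebraMap R1 R') r
      rw [h6]
      exact hsp'

/-- Given a local ring `R`, `h` invertible in `R`, and a polynomial `P` with `P(0)` a unit which is nonzero over the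
residue field, there is a finite free local extension `R'` with maximal ideal generated by that of `R`
over which `X` has an `h`-th root modulo `P` and the maximal ideal. -/
theorem exists_local_ext_root (R : Type u) [CommRing R] [IsLocalRing R] (h : ℕ)
    (hh : IsUnit (h : R)) (P : R[X]) (hP0 : IsUnit (P.eval 0)) :
    ∃ (R' : Type u) (_ : CommRing R') (_ : IsLocalRing R') (_ : Algebra R R')
      (_ : Module.Finite R R') (_ : Module.Free R R'),
      IsLocalRing.maximalIdeal R' = (IsLocalRing.maximalIdeal R).map (algebraMap R R') ∧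
      ∃ W S : R'[X], W ^ h - X - P.map (algebraMap R R') * S ∈
        (IsLocalRing.maximalIdeal R').map (C : R' →+* R'[X]) := by
  obtain ⟨R', _, _, _, hfin', hfree', hmax', hsp'⟩ := exists_local_ext_splits _ R
    (P * P.comp (X ^ h)) le_rfl
  refine ⟨R', inferInstance, inferInstance, inferInstance, hfin', hfree', hmax', ?_⟩
  set k' := IsLocalRing.ResidueField R' with hk'
  set φ : R →+* k' := (IsLocalRing.residue R').comp (algebraMap R R') with hφ
  have hhk : (h : k') ≠ 0 := by
    have := hh.map φ
    rw [map_natCast] at this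
    exact this.ne_zero
  have hh0 : h ≠ 0 := by rintro rfl; simp at hhk
  have hP0' : (P.map φ).eval 0 ≠ 0 := by
    have := hP0.map φ
    have h1 : (P.map φ).eval 0 = φ (P.eval 0) := by
      rw [← coeff_zero_eq_eval_zero, ← coeff_zero_eq_eval_zero, coeff_map]
    rw [h1]; exact this.ne_zero
  have hPne : P.map φ ≠ 0 := by
    intro h0; rw [h0] at hP0'; simp at hP0'
  have hcomp : (P.comp (X ^ h)).map φ = (P.map φ).comp (X ^ h) := by
    rw [Polynomial.map_comp, Polynomial.map_pow, map_X]
  have hcompne : (P.map φ).comp (X ^ h) ≠ 0 := by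
    intro h0
    have h1 := congrArg (eval 0) h0
    rw [eval_comp, eval_pow, eval_X, zero_pow hh0, eval_zero] at h1
    exact hP0' h1
  rw [Polynomial.map_mul, hcomp] at hsp'
  have hsp1 : (P.map φ).Splits :=
    Splits.of_dvd hsp' (mul_ne_zero hPne hcompne) (dvd_mul_right _ _)
  have hsp2 : ((P.map φ).comp (X ^ h)).Splits :=
    Splits.of_dvd hsp' (mul_ne_zero hPne hcompne) (dvd_mul_left _ _)
  obtain ⟨W₀, hW₀⟩ := exists_dvd_pow_sub_X h hhk (P.map φ) hPne hP0' hsp1 (by
    intro θ hθ
    have h1 : (X ^ h - C θ) ∣ (P.map φ).comp (X ^ h) := by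
      obtain ⟨s, hs⟩ := dvd_iff_isRoot.2 hθ
      refine ⟨s.comp (X ^ h), ?_⟩
      rw [hs, mul_comp, sub_comp, X_comp, C_comp]
    have h2 : (X ^ h - C θ).Splits := Splits.of_dvd hsp2 hcompne h1
    obtain ⟨η, hη⟩ := Splits.exists_eval_eq_zero h2 (by
      rw [degree_X_pow_sub_C (Nat.pos_of_ne_zero hh0)]
      exact_mod_cast hh0)
    exact ⟨η, by simpa [sub_eq_zero] using hη⟩)
  obtain ⟨S₀, hS₀⟩ := hW₀
  obtain ⟨W, hW⟩ := Polynomial.map_surjective _ (IsLocalRing.residue_surjective (R := R')) W₀
  obtain ⟨S, hS⟩ := Polynomial.map_surjective _ (IsLocalRing.residue_surjective (R := R')) S₀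
  refine ⟨W, S, ?_⟩
  rw [← IsLocalRing.ker_residue (R := R'), ← Polynomial.ker_mapRingHom, RingHom.mem_ker]
  simp only [map_sub, map_mul, map_pow, coe_mapRingHom, map_X, Polynomial.map_map]
  rw [hW, hS, hS₀]
  rw [hφ, sub_self]

end Groth.Agent.Models.RootExt
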