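/-
Local structure of the stalks of a fibre product `X ×_{Spec R} Spec C`.
-/
import Mathlib.AlgebraicGeometry.Pullbacks
import Mathlib.AlgebraicGeometry.StructureSheaf
import Mathlib.AlgebraicGeometry.AffineScheme
import Mathlib.AlgebraicGeometry.Morphisms.OpenImmersion
import Mathlib.RingTheory.TensorProduct.Basic

set_option autoImplicit false
universe u

open CategoryTheory AlgebraicGeometry Limits TensorProduct

namespace Groth.Agent.Models.StalkTensor

/-- the stalk of `Spec A` at a point is the localization at the corresponding prime. -/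
theorem nonempty_stalk_Spec_equiv (A : Type u) [CommRing A] (a : Spec (CommRingCat.of A)) :
    Nonempty ((Spec (CommRingCat.of A)).presheaf.stalk a ≃+* Localization.AtPrime a.asIdeal) := by
  let k : Algebra A ((Spec (CommRingCat.of A)).presheaf.stalk a) :=
    StructureSheaf.stalkAlgebra A a
  have : IsLocalization.AtPrime ((Spec (CommRingCat.of A)).presheaf.stalk a) a.asIdeal :=
    StructureSheaf.IsLocalization.to_stalk A a
  exact ⟨(IsLocalization.algEquiv a.asIdeal.primeCompl _ _).toRingEquiv⟩

/-- an open immersion identifies stalks. -/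
theorem nonempty_stalk_equiv_of_isOpenImmersion {X Y : Scheme.{u}} (j : X ⟶ Y) [IsOpenImmersion j]
    (x : X) : Nonempty (Y.presheaf.stalk (j x) ≃+* X.presheaf.stalk x) :=
  ⟨(asIso (j.stalkMap x)).commRingCatIsoToRingEquiv⟩

/-- Let `p : X ⟶ Spec R`, `C` an `R`-algebra and `x` a point of `X ×_{Spec R} Spec C`. There are an affine
open immersion `j : Spec A ⟶ X` over `R` and a prime `q` of `A ⊗[R] C` such that the stalk at `x` is
`(A ⊗[R] C)_q` and the stalk of `X` at the image of `x` is `A` localized at the contraction of `q`. -/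
theorem exists_affine_tensor {R C : Type u} [CommRing R] [CommRing C] [Algebra R C] {X : Scheme.{u}}
    (p : X ⟶ Spec (CommRingCat.of R))
    (x : ↥(pullback p (Spec.map (CommRingCat.ofHom (algebraMap R C))))) :
    ∃ (A : Type u) (_ : CommRing A) (_ : Algebra R A) (j : Spec (CommRingCat.of A) ⟶ X)
      (_ : IsOpenImmersion j) (_ : j ≫ p = Spec.map (CommRingCat.ofHom (algebraMap R A)))
      (q : Ideal (A ⊗[R] C)) (_ : q.IsPrime),
      Nonempty ((pullback p (Spec.map (CommRingCat.ofHom (algebraMap R C)))).presheaf.stalk x ≃+*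
        Localization.AtPrime q) ∧
      Nonempty (X.presheaf.stalk (pullback.fst p (Spec.map (CommRingCat.ofHom (algebraMap R C))) x) ≃+*
        Localization.AtPrime (q.comap (algebraMap A (A ⊗[R] C)))) := by
  obtain ⟨i, x', hx'⟩ := (Scheme.Pullback.openCoverOfLeft X.affineCover p
    (Spec.map (CommRingCat.ofHom (algebraMap R C)))).exists_eq x
  let A : CommRingCat := Γ(X.affineCover.X i, ⊤)
  let e : Spec A ≅ X.affineCover.X i := (X.affineCover.X i).isoSpec.symm
  let j : Spec A ⟶ X := e.hom ≫ X.affineCover.f i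
  let φ : CommRingCat.of R ⟶ A := Spec.preimage (j ≫ p)
  letI : Algebra R A := φ.hom.toAlgebra
  have hφ : Spec.map (CommRingCat.ofHom (algebraMap R A)) = j ≫ p := by
    have : CommRingCat.ofHom (algebraMap R A) = φ := rfl
    rw [this]
    exact Spec.map_preimage _
  let g := Spec.map (CommRingCat.ofHom (algebraMap R C))
  -- the open immersion of the affine pullback
  let m : pullback (Spec.map (CommRingCat.ofHom (algebraMap R A))) g ⟶ pullback p g :=
    pullback.map _ _ _ _ j (𝟙 _) (𝟙 _) (by rw [hφ]; simp) (by simp)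
  have hm : IsOpenImmersion m := by infer_instance
  let m1 : pullback (X.affineCover.f i ≫ p) g ⟶
      pullback (Spec.map (CommRingCat.ofHom (algebraMap R A))) g :=
    pullback.map _ _ _ _ e.inv (𝟙 _) (𝟙 _) (by rw [hφ]; simp [j]) (by simp)
  have hm1 : m1 ≫ m = (Scheme.Pullback.openCoverOfLeft X.affineCover p g).f i := by
    apply pullback.hom_ext
    · simp only [m1, m, j, pullback.map, Category.assoc, pullback.lift_fst, pullback.lift_fst_assoc,
        Scheme.Pullback.openCoverOfLeft_f, Iso.inv_hom_id_assoc]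
    · simp only [m1, m, j, pullback.map, Category.assoc, pullback.lift_snd, pullback.lift_snd_assoc,
        Scheme.Pullback.openCoverOfLeft_f, Category.comp_id]
  let m' : Spec (CommRingCat.of (A ⊗[R] C)) ⟶ pullback p g := (pullbackSpecIso R A C).inv ≫ m
  let y : Spec (CommRingCat.of (A ⊗[R] C)) := (pullbackSpecIso R A C).hom (m1 x')
  have hy : m' y = x := by
    have h1 : m' y = ((m1 ≫ (pullbackSpecIso R A C).hom) ≫ m') x' := rfl
    rw [h1]
    have h2 : (m1 ≫ (pullbackSpecIso R A C).hom) ≫ m' =
        (Scheme.Pullback.openCoverOfLeft X.affineCover p g).f i := by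
      simp only [m', Category.assoc, Iso.hom_inv_id_assoc]
      exact hm1
    rw [h2]; exact hx'
  have hfst : m' ≫ pullback.fst p g =
      Spec.map (CommRingCat.ofHom (algebraMap A (A ⊗[R] C))) ≫ j := by
    simp only [m', m, Category.assoc, pullback.map]
    rw [pullback.lift_fst, ← Category.assoc]
    erw [pullbackSpecIso_inv_fst']
  refine ⟨A, inferInstance, inferInstance, j, inferInstance, hφ.symm, y.asIdeal, inferInstance, ?_, ?_⟩
  · obtain ⟨e1⟩ := nonempty_stalk_equiv_of_isOpenImmersion m' y
    obtain ⟨e2⟩ := nonempty_stalk_Spec_equiv (A ⊗[R] C) y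
    rw [hy] at e1
    exact ⟨e1.trans e2⟩
  · let a : Spec A := Spec.map (CommRingCat.ofHom (algebraMap A (A ⊗[R] C))) y
    have ha : j a = pullback.fst p g x := by
      rw [← hy]
      change (Spec.map (CommRingCat.ofHom (algebraMap A (A ⊗[R] C))) ≫ j) y = (m' ≫ pullback.fst p g) y
      rw [hfst]
    obtain ⟨e1⟩ := nonempty_stalk_equiv_of_isOpenImmersion j a
    obtain ⟨e2⟩ := nonempty_stalk_Spec_equiv A a
    rw [ha] at e1
    exact ⟨e1.trans e2⟩

end Groth.Agent.Models.StalkTensor
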