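import Groth.Agent.Flat2H.TorDim
import Mathlib.Algebra.Polynomial.Module.TensorProduct
import Mathlib.Algebra.MvPolynomial.Equiv
import Mathlib.RingTheory.Polynomial.Basic
import Mathlib.CategoryTheory.Abelian.Projective.Dimension
import Mathlib.RingTheory.Flat.EquationalCriterion

/-!
# Tor dimension over polynomial rings

* `hasTorDimLE_polynomial`: an `R[X]`-module of tor dimension `≤ d` over `R` has tor dimension
  `≤ d + 1` over `R[X]`.
* `hasTorDimLE_mvPolynomial`: the same for polynomial rings in `n` variables (`≤ d + n`).
* `hasProjectiveDimensionLT_of_hasTorDimLE`: over a Noetherian ring a finite module of tor dimension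
  `≤ m` has projective dimension `≤ m`.
* `exists_hasProjectiveDimensionLT_ker`: for `A` Noetherian and `P = A[x₁, …, xₙ] → B` surjective with
  `B` of finite tor dimension over `A`, the kernel has finite projective dimension over `P`.
-/

set_option autoImplicit false
universe u

open CategoryTheory TensorProduct Polynomial

namespace Groth.Agent.Models.TorPoly

section Poly

variable (R : Type u) [CommRing R] (M : Type u) [AddCommGroup M] [Module R M] [Module R[X] M]
  [IsScalarTower R R[X] M]

/-- The evaluation map `M[X] → M` of an `R[X]`-module. -/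
noncomputable def ev : PolynomialModule R M →ₗ[R[X]] M :=
  ((LinearMap.id : M →ₗ[R] M).liftBaseChange R[X]) ∘ₗ
    (PolynomialModule.polynomialTensorProductLEquivPolynomialModule R M).symm.toLinearMap

theorem ev_symm (p : R[X]) (m : M) :
    ev R M (PolynomialModule.polynomialTensorProductLEquivPolynomialModule R M (p ⊗ₜ[R] m)) = p • m := by
  simp [ev]

theorem equiv_one_tmul (m : M) :
    PolynomialModule.polynomialTensorProductLEquivPolynomialModule R M ((1 : R[X]) ⊗ₜ[R] m) =
      PolynomialModule.single R 0 m := by
  simp [PolynomialModule.polynomialTensorProductLEquivPolynomialModule]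
  rfl

theorem ev_single_zero (m : M) : ev R M (PolynomialModule.single R 0 m) = m := by
  rw [← equiv_one_tmul, ev_symm, one_smul]

theorem X_smul_single (i : ℕ) (m : M) :
    (X : R[X]) • PolynomialModule.single R i m = PolynomialModule.single R (i + 1) m := by
  rw [← Polynomial.monomial_one_one_eq_X, PolynomialModule.monomial_smul_single, one_smul, add_comm]

/-- multiplication by `X` on `M`, as an `R`-linear map. -/
noncomputable def mulX : M →ₗ[R] M where
  toFun m := (X : R[X]) • m
  map_add' a b := smul_add _ _ _
  map_smul' r m := by
    rw [RingHom.id_apply, ← algebraMap_smul R[X] r m, ← algebraMap_smul R[X] r ((X : R[X]) • m),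
      smul_comm]

/-- the map `M[X] → M[X]`, `m X^i ↦ m X^(i+1) - (X • m) X^i`. -/
noncomputable def dif : PolynomialModule R M →ₗ[R[X]] PolynomialModule R M where
  toFun p := (X : R[X]) • p - PolynomialModule.map R (mulX R M) p
  map_add' a b := by
    rw [smul_add, map_add]
    abel
  map_smul' r p := by
    have := PolynomialModule.map_smul R (mulX R M) r p
    simp only [Algebra.algebraMap_self, Polynomial.map_id] at this
    rw [this, smul_sub, smul_comm]
    rfl

theorem dif_single (i : ℕ) (m : M) : dif R M (PolynomialModule.single R i m) =
    PolynomialModule.single R (i + 1) m - PolynomialModule.single R i ((X : R[X]) • m) := by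
  change (X : R[X]) • _ - PolynomialModule.map R (mulX R M) _ = _
  rw [X_smul_single, PolynomialModule.map_single]
  rfl

theorem sub_mem_range (p : PolynomialModule R M) :
    p - PolynomialModule.single R 0 (ev R M p) ∈ LinearMap.range (dif R M) := by
  induction p using PolynomialModule.induction_linear with
  | zero => simp
  | add a b ha hb =>
    have := Submodule.add_mem _ ha hb
    rw [map_add, PolynomialModule.single_add]
    convert this using 1
    abel
  | single i m =>
    induction i generalizing m with
    | zero => rw [ev_single_zero, sub_self]; exact Submodule.zero_mem _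
    | succ i ih =>
      have h1 := ih ((X : R[X]) • m)
      have h2 : dif R M (PolynomialModule.single R i m) ∈ LinearMap.range (dif R M) := ⟨_, rfl⟩
      rw [dif_single] at h2
      have h3 : ev R M (PolynomialModule.single R (i + 1) m) =
          ev R M (PolynomialModule.single R i ((X : R[X]) • m)) := by
        clear ih h1 h2
        induction i generalizing m with
        | zero =>
          rw [ev_single_zero, ← X_smul_single, map_smul, ev_single_zero]
        | succ i ih =>
          rw [← X_smul_single R M (i + 1), map_smul, ih, ← map_smul, X_smul_single]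
      rw [h3]
      convert Submodule.add_mem _ h2 h1 using 1
      abel

theorem ev_dif (p : PolynomialModule R M) : ev R M (dif R M p) = 0 := by
  have : ev R M ∘ₗ dif R M = 0 := by
    apply LinearMap.ext
    intro p
    induction p using PolynomialModule.induction_linear with
    | zero => simp
    | add a b ha hb => rw [map_add, ha, hb]; simp
    | single i m =>
      rw [LinearMap.comp_apply, dif_single, map_sub, LinearMap.zero_apply, sub_eq_zero]
      induction i generalizing m with
      | zero =>
        rw [ev_single_zero, ← X_smul_single, map_smul, ev_single_zero]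
      | succ i ih =>
        rw [← X_smul_single R M (i + 1), map_smul, ih, ← map_smul, X_smul_single]
  exact LinearMap.congr_fun this p

theorem exact_dif_ev : Function.Exact (dif R M) (ev R M) := by
  intro p
  constructor
  · intro hp
    have := sub_mem_range R M p
    rw [hp] at this
    simpa using this
  · rintro ⟨q, rfl⟩
    exact ev_dif R M q

theorem ev_surjective : Function.Surjective (ev R M) := fun m => ⟨_, ev_single_zero R M m⟩

theorem dif_injective : Function.Injective (dif R M) := by
  rw [injective_iff_map_eq_zero]
  intro p hp
  by_contra hne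
  have hsupp : p.coeff.support.Nonempty := by
    rw [Finsupp.support_nonempty_iff]
    intro h
    exact hne (PolynomialModule.coeff_injective h)
  set N := p.coeff.support.max' hsupp with hN
  have h1 : p.coeff N ≠ 0 := Finsupp.mem_support_iff.mp (Finset.max'_mem _ _)
  have h2 : p.coeff (N + 1) = 0 := by
    by_contra h
    have := Finset.le_max' _ _ (Finsupp.mem_support_iff.mpr h)
    omega
  have h3 : (dif R M p).coeff (N + 1) = p.coeff N - (X : R[X]) • p.coeff (N + 1) := by
    clear_value N
    clear h1 h2 hN hsupp hne hp
    induction p using PolynomialModule.induction_linear with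
    | zero => simp
    | add a b ha hb =>
      have hab : dif R M (a + b) = dif R M a + dif R M b := map_add _ _ _
      rw [hab, PolynomialModule.coeff_add, PolynomialModule.coeff_add, Finsupp.add_apply, ha, hb,
        Finsupp.add_apply, Finsupp.add_apply, smul_add]
      abel
    | single i m =>
      rw [dif_single]
      change (PolynomialModule.single R (i + 1) m).coeff (N + 1) -
        (PolynomialModule.single R i ((X : R[X]) • m)).coeff (N + 1) = _
      simp only [PolynomialModule.coeff_single, Finsupp.single_apply, Nat.add_right_cancel_iff]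
      congr 1
      split_ifs <;> simp
  rw [hp, h2, smul_zero, sub_zero] at h3
  exact h1 h3.symm

variable {R M}

/-- An `R[X]`-module of tor dimension `≤ d` over `R` has tor dimension `≤ d + 1` over `R[X]`. -/
theorem hasTorDimLE_polynomial {d : ℕ} (h : DRing.HasTorDimLE R d M) :
    DRing.HasTorDimLE R[X] (d + 1) M := by
  have h1 : DRing.HasTorDimLE R[X] d (PolynomialModule R M) :=
    Flat2H.TorDim.HasTorDimLE.of_linearEquiv
      (PolynomialModule.polynomialTensorProductLEquivPolynomialModule R M)
      (Flat2H.TorDim.HasTorDimLE.baseChange R[X] h)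
  exact Flat2H.TorDim.HasTorDimLE.right (dif R M) (ev R M) (dif_injective R M) (ev_surjective R M)
    (exact_dif_ev R M) h1 (Flat2H.TorDim.HasTorDimLE.mono h1 (Nat.le_succ d))

end Poly

/-- Transport of tor dimension along a ring isomorphism `e : S ≃+* R` when `M` is an `R`-module and
`S` acts through `e`. -/
theorem hasTorDimLE_of_ringEquiv {R S : Type u} [CommRing R] [CommRing S] (e : S ≃+* R)
    {M : Type u} [AddCommGroup M] [Module R M] [Module S M] (he : ∀ (s : S) (m : M), e s • m = s • m)
    {d : ℕ} (h : DRing.HasTorDimLE R d M) : DRing.HasTorDimLE S d M := by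
  letI : Algebra S R := e.toRingHom.toAlgebra
  haveI : IsScalarTower S R M := ⟨fun s r m => by
    change (e s * r) • m = _
    rw [mul_smul, he]⟩
  haveI : Module.Flat S R := by
    have e' : S ≃ₗ[S] R :=
      { e with
        map_smul' := fun a b => by
          simp only [RingEquiv.toEquiv_eq_coe, Equiv.toFun_as_coe, EquivLike.coe_coe, smul_eq_mul,
            map_mul, RingHom.id_apply]
          rfl }
    exact Module.Flat.of_linearEquiv e'.symm
  have := Flat2H.TorDim.HasTorDimLE.trans S R (n := 0) (m := d) (M := M)
    (Flat2H.TorDim.HasTorDimLE.of_flat 0) h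
  rwa [zero_add] at this

theorem hasTorDimLE_mvPolynomial_fin (n : ℕ) : ∀ {R : Type u} [CommRing R] {M : Type u}
    [AddCommGroup M] [Module R M] [Module (MvPolynomial (Fin n) R) M]
    [IsScalarTower R (MvPolynomial (Fin n) R) M] {d : ℕ},
    DRing.HasTorDimLE R d M → DRing.HasTorDimLE (MvPolynomial (Fin n) R) (d + n) M := by
  induction n with
  | zero =>
    intro R _ M _ _ _ _ d h
    refine hasTorDimLE_of_ringEquiv (MvPolynomial.isEmptyRingEquiv R (Fin 0)) ?_ h
    intro s m
    obtain ⟨r, rfl⟩ := (MvPolynomial.isEmptyRingEquiv R (Fin 0)).symm.surjective s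
    rw [RingEquiv.apply_symm_apply]
    have : (MvPolynomial.isEmptyRingEquiv R (Fin 0)).symm r = MvPolynomial.C r := rfl
    rw [this, ← MvPolynomial.algebraMap_eq, algebraMap_smul]
  | succ n ih =>
    intro R _ M _ _ _ _ d h
    let e := (MvPolynomial.finSuccEquiv R n).toRingEquiv
    letI : Module (MvPolynomial (Fin n) R)[X] M := Module.compHom M e.symm.toRingHom
    letI : Module (MvPolynomial (Fin n) R) M := Module.compHom M
      (e.symm.toRingHom.comp (Polynomial.C))
    haveI : IsScalarTower (MvPolynomial (Fin n) R) (MvPolynomial (Fin n) R)[X] M := ⟨fun a b m => by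
      change e.symm (a • b) • m = e.symm (C a) • e.symm b • m
      rw [← mul_smul, ← map_mul, Polynomial.smul_eq_C_mul]⟩
    haveI : IsScalarTower R (MvPolynomial (Fin n) R) M := ⟨fun a b m => by
      change e.symm (C (a • b)) • m = a • e.symm (C b) • m
      have h1 : e.symm (C (a • b)) = MvPolynomial.C a * e.symm (C b) := by
        rw [MvPolynomial.smul_eq_C_mul, map_mul, map_mul]
        congr 1
        rw [RingEquiv.symm_apply_eq]
        change _ = MvPolynomial.finSuccEquiv R n (MvPolynomial.C a)
        rw [MvPolynomial.finSuccEquiv_apply, MvPolynomial.eval₂Hom_C]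
        rfl
      rw [h1, mul_smul, ← MvPolynomial.algebraMap_eq, algebraMap_smul]⟩
    have h1 := ih h
    have h2 := hasTorDimLE_polynomial h1
    refine hasTorDimLE_of_ringEquiv e ?_ h2
    intro s m
    change e.symm (e s) • m = s • m
    rw [RingEquiv.symm_apply_apply]

/-- Over a Noetherian ring a finite module of tor dimension `≤ m` has projective dimension `≤ m`. -/
theorem hasProjectiveDimensionLT_of_hasTorDimLE {P : Type u} [CommRing P] [IsNoetherianRing P]
    (m : ℕ) : ∀ {N : Type u} [AddCommGroup N] [Module P N] [Module.Finite P N],
    DRing.HasTorDimLE P m N → HasProjectiveDimensionLT (ModuleCat.of P N) (m + 1) := by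
  induction m with
  | zero =>
    intro N _ _ _ h
    rw [Flat2H.TorDim.hasTorDimLE_zero_iff] at h
    haveI : Module.FinitePresentation P N := Module.finitePresentation_of_finite P N
    haveI : Module.Projective P N := Module.Flat.projective_of_finitePresentation
    haveI : Projective (ModuleCat.of P N) := (IsProjective.iff_projective _).1 inferInstance
    infer_instance
  | succ m ih =>
    intro N _ _ _ h
    obtain ⟨k, f, hf⟩ := Module.Finite.exists_fin' P N
    have hker : DRing.HasTorDimLE P m (LinearMap.ker f) := by
      -- move `Fin k → P` to the right universe (it is already in `Type u`)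
      exact (Flat2H.TorDim.hasTorDimLE_succ_iff_ker f hf m).1 h
    have h1 := ih hker
    have hS := Flat2H.TorDim.shortExact_mk (LinearMap.ker f).subtype f
      (Submodule.subtype_injective _) hf (LinearMap.exact_subtype_ker_map f)
    refine hS.hasProjectiveDimensionLT_X₃ (m + 1) h1 ?_
    haveI : Projective (ModuleCat.of P (Fin k → P)) := (IsProjective.iff_projective _).1 inferInstance
    change HasProjectiveDimensionLT (ModuleCat.of P (Fin k → P)) _
    exact hasProjectiveDimensionLT_of_ge (ModuleCat.of P (Fin k → P)) 1 _ (by omega)

/-- `A` Noetherian, `B` an `A`-algebra of finite tor dimension and `P = A[x₁, …, xₙ] → B` surjective: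
`B` has finite tor dimension over `P`. -/
theorem hasFiniteTorDim_mvPolynomial {A B : Type u} [CommRing A] [CommRing B] [Algebra A B]
    {n : ℕ} (f : MvPolynomial (Fin n) A →ₐ[A] B) (hB : DRing.HasFiniteTorDim A B) :
    letI := f.toRingHom.toAlgebra
    DRing.HasFiniteTorDim (MvPolynomial (Fin n) A) B := by
  letI := f.toRingHom.toAlgebra
  haveI : IsScalarTower A (MvPolynomial (Fin n) A) B := IsScalarTower.of_algebraMap_eq fun a => by
    change _ = f (algebraMap A _ a)
    rw [AlgHom.commutes]
  obtain ⟨d, hd⟩ := hB
  exact ⟨d + n, hasTorDimLE_mvPolynomial_fin n hd⟩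

/-- For `A` Noetherian and `P = A[x₁, …, xₙ] → B` surjective with `B` of finite tor dimension over
`A`, the kernel has finite projective dimension over `P`. -/
theorem exists_hasProjectiveDimensionLT_ker {A B : Type u} [CommRing A] [IsNoetherianRing A]
    [CommRing B] [Algebra A B] {n : ℕ} (f : MvPolynomial (Fin n) A →ₐ[A] B)
    (hf : Function.Surjective f) (hB : DRing.HasFiniteTorDim A B) :
    ∃ m : ℕ, HasProjectiveDimensionLT
      (ModuleCat.of (MvPolynomial (Fin n) A) (RingHom.ker f.toRingHom)) m := by
  letI := f.toRingHom.toAlgebra
  obtain ⟨d, hd⟩ := hasFiniteTorDim_mvPolynomial f hB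
  have hd' := Flat2H.TorDim.HasTorDimLE.mono hd (Nat.le_succ d)
  let g : MvPolynomial (Fin n) A →ₗ[MvPolynomial (Fin n) A] B := Algebra.linearMap _ B
  have h1 : DRing.HasTorDimLE (MvPolynomial (Fin n) A) d (LinearMap.ker g) :=
    (Flat2H.TorDim.hasTorDimLE_succ_iff_ker g hf d).1 hd'
  have h2 : DRing.HasTorDimLE (MvPolynomial (Fin n) A) d (RingHom.ker f.toRingHom) :=
    Flat2H.TorDim.HasTorDimLE.of_linearEquiv (LinearEquiv.ofEq _ _ (by ext; rfl)) h1
  exact ⟨d + 1, hasProjectiveDimensionLT_of_hasTorDimLE d h2⟩

end Groth.Agent.Models.TorPoly
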