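import Groth.Agent.Models.RootExt
import Mathlib.RingTheory.TensorProduct.Free
import Mathlib.RingTheory.Ideal.Quotient.Nilpotent

/-!
The algebraic core of "an invertible module of order prime to the residue characteristic which is trivial on the
special fibre is trivial", in terms of cocycles.
-/

set_option autoImplicit false

namespace Groth.Agent.Models.TrivCore

open Polynomial TensorProduct Module

universe u v

section Coord

variable {R : Type u} [CommRing R] {R' : Type u} [CommRing R'] [Algebra R R']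
variable {ι : Type*} (β : Basis ι R R')

/-- The coordinate functions on `A ⊗ R'` given by a basis of `R'`. -/
noncomputable def coord (A : Type v) [CommRing A] [Algebra R A] (k : ι) : A ⊗[R] R' →ₗ[A] A :=
  (Algebra.TensorProduct.basis A β).coord k

variable {A : Type v} [CommRing A] [Algebra R A] {A' : Type v} [CommRing A'] [Algebra R A']

theorem coord_tmul (k : ι) (a : A) (m : R') :
    coord β A k (a ⊗ₜ m) = a * algebraMap R A (β.repr m k) := by
  simp [coord]

theorem coord_map (f : A →ₐ[R] A') (k : ι) (x : A ⊗[R] R') :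
    coord β A' k (Algebra.TensorProduct.map f (AlgHom.id R R') x) = f (coord β A k x) := by
  induction x with
  | zero => simp
  | tmul a m => simp [coord_tmul]
  | add x y hx hy => rw [map_add, map_add, hx, hy, map_add, map_add]

theorem sum_coord [Fintype ι] (x : A ⊗[R] R') : ∑ k, coord β A k x ⊗ₜ[R] β k = x := by
  have := (Algebra.TensorProduct.basis A β).sum_repr x
  conv_rhs => rw [← this]
  refine Finset.sum_congr rfl fun k _ => ?_
  rw [Algebra.TensorProduct.basis_apply, TensorProduct.smul_tmul', smul_eq_mul, mul_one]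
  rfl

theorem ext_coord [Fintype ι] {x y : A ⊗[R] R'} (h : ∀ k, coord β A k x = coord β A k y) : x = y := by
  rw [← sum_coord β x, ← sum_coord β y]
  exact Finset.sum_congr rfl fun k _ => by rw [h k]

theorem coord_mem [Fintype ι] (p : A) {x : A ⊗[R] R'}
    (hx : x ∈ Ideal.span {(p ⊗ₜ 1 : A ⊗[R] R')}) (k : ι) : coord β A k x ∈ Ideal.span {p} := by
  obtain ⟨y, rfl⟩ := Ideal.mem_span_singleton'.1 hx
  have : y * (p ⊗ₜ 1 : A ⊗[R] R') = p • y := by
    rw [Algebra.smul_def, mul_comm]; rfl
  rw [this, map_smul, smul_eq_mul]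
  exact Ideal.mul_mem_right _ _ (Ideal.mem_span_singleton_self p)

theorem mem_of_coord_mem [Fintype ι] (p : A) {x : A ⊗[R] R'}
    (hx : ∀ k, coord β A k x ∈ Ideal.span {p}) : x ∈ Ideal.span {(p ⊗ₜ 1 : A ⊗[R] R')} := by
  rw [← sum_coord β x]
  refine Ideal.sum_mem _ fun k _ => ?_
  obtain ⟨y, hy⟩ := Ideal.mem_span_singleton'.1 (hx k)
  rw [← hy]
  have : (y * p) ⊗ₜ[R] β k = (y ⊗ₜ[R] β k) * (p ⊗ₜ[R] (1 : R')) := by
    rw [Algebra.TensorProduct.tmul_mul_tmul, mul_one]
  rw [this]
  exact Ideal.mul_mem_left _ _ (Ideal.mem_span_singleton_self _)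

end Coord

/-- Newton's lemma for the polynomial `a T ^ h - 1` modulo `p ^ N`. -/
theorem newton_lift {B : Type v} [CommRing B] (p : B) (N h : ℕ) (hh : IsUnit (h : B)) (a τ : B)
    (ha : a * τ ^ h - 1 ∈ Ideal.span {p}) :
    ∃ t : B, t - τ ∈ Ideal.span {p} ∧ a * t ^ h - 1 ∈ Ideal.span {p ^ N} := by
  rcases Nat.eq_zero_or_pos N with hN | hN
  · subst hN
    exact ⟨τ, by simp, by simp⟩
  · by_cases hh0 : h = 0
    · subst hh0
      rw [Nat.cast_zero, isUnit_zero_iff] at hh
      have hs : Subsingleton B := ⟨fun x y => by rw [← one_mul x, ← one_mul y, ← hh, zero_mul, zero_mul]⟩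
      exact ⟨τ, by simp, by rw [Subsingleton.elim (a * τ ^ 0 - 1) 0]; exact Ideal.zero_mem _⟩
    set Q := B ⧸ Ideal.span {p ^ N} with hQ
    set mk : B →+* Q := Ideal.Quotient.mk _ with hmk
    have hpnil : ∀ x ∈ Ideal.span {p}, IsNilpotent (mk x) := by
      intro x hx
      refine ⟨N, ?_⟩
      rw [← map_pow, hmk, Ideal.Quotient.eq_zero_iff_mem, ← Ideal.span_singleton_pow]
      exact Ideal.pow_mem_pow hx N
    set F : Q[X] := C (mk a) * X ^ h - 1 with hF
    have hF0 : aeval (mk τ) F = mk (a * τ ^ h - 1) := by simp [hF]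
    have hF' : aeval (mk τ) (derivative F) = mk a * ((h : Q) * mk τ ^ (h - 1)) := by
      simp [hF, derivative_X_pow]
    have hu : IsUnit (mk (a * τ ^ h)) := by
      have h1 := IsNilpotent.isUnit_add_left_of_commute (hpnil _ ha) isUnit_one (Commute.all _ _)
      simpa using h1
    have hN1 := existsUnique_nilpotent_sub_and_aeval_eq_zero (P := F) (x := mk τ)
      (by rw [hF0]; exact hpnil _ ha) (by
        rw [hF']
        rw [map_mul, map_pow] at hu
        have h1 : IsUnit (mk a) := isUnit_of_mul_isUnit_left hu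
        have h2 : IsUnit (mk τ) := (isUnit_pow_iff hh0).1 (isUnit_of_mul_isUnit_right hu)
        refine h1.mul (IsUnit.mul ?_ (h2.pow _))
        have := hh.map mk
        rwa [map_natCast] at this)
    obtain ⟨t', ⟨hnil, hroot⟩, -⟩ := hN1
    -- the root is congruent to `τ` modulo `p`: use uniqueness in `B / p`
    obtain ⟨t, rfl⟩ := Ideal.Quotient.mk_surjective t'
    have hroot' : a * t ^ h - 1 ∈ Ideal.span {p ^ N} := by
      rw [← Ideal.Quotient.eq_zero_iff_mem]
      simpa [hF] using hroot
    -- nilpotent difference: `(τ - t) ^ M ∈ (p ^ N) ⊆ (p)`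
    refine ⟨t, ?_, hroot'⟩
    -- work in `B / p`
    set Q1 := B ⧸ Ideal.span {p} with hQ1
    set mk1 : B →+* Q1 := Ideal.Quotient.mk _ with hmk1
    have hle : Ideal.span {p ^ N} ≤ Ideal.span {p} := by
      rw [Ideal.span_singleton_le_span_singleton]; exact dvd_pow_self p (by omega)
    have hnil1 : IsNilpotent (mk1 τ - mk1 t) := by
      obtain ⟨M, hM⟩ := hnil
      refine ⟨M, ?_⟩
      rw [← map_sub, ← map_pow, hmk, Ideal.Quotient.eq_zero_iff_mem] at hM
      rw [← map_sub, ← map_pow, hmk1, Ideal.Quotient.eq_zero_iff_mem]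
      exact hle hM
    set F1 : Q1[X] := C (mk1 a) * X ^ h - 1 with hF1
    have hz : mk1 (a * τ ^ h - 1) = 0 := by
      rw [hmk1, Ideal.Quotient.eq_zero_iff_mem]; exact ha
    have hz' : mk1 (a * t ^ h - 1) = 0 := by
      rw [hmk1, Ideal.Quotient.eq_zero_iff_mem]; exact hle hroot'
    have hu1 : mk1 (a * τ ^ h) = 1 := by
      rw [map_sub, map_one, sub_eq_zero] at hz; exact hz
    have hN2 := existsUnique_nilpotent_sub_and_aeval_eq_zero (P := F1) (x := mk1 τ)
      (by
        have : aeval (mk1 τ) F1 = mk1 (a * τ ^ h - 1) := by simp [hF1]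
        rw [this, hz]; exact IsNilpotent.zero) (by
        have : aeval (mk1 τ) (derivative F1) = mk1 a * ((h : Q1) * mk1 τ ^ (h - 1)) := by
          simp [hF1, derivative_X_pow]
        rw [this]
        have hu2 : IsUnit (mk1 a * mk1 τ ^ h) := by
          rw [← map_pow, ← map_mul, hu1]; exact isUnit_one
        have h1 : IsUnit (mk1 a) := isUnit_of_mul_isUnit_left hu2
        have h2 : IsUnit (mk1 τ) := (isUnit_pow_iff hh0).1 (isUnit_of_mul_isUnit_right hu2)
        refine h1.mul (IsUnit.mul ?_ (h2.pow _))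
        have := hh.map mk1
        rwa [map_natCast] at this)
    have e1 := hN2.unique (y₁ := mk1 τ) ⟨by rw [sub_self]; exact IsNilpotent.zero, by
        have : aeval (mk1 τ) F1 = mk1 (a * τ ^ h - 1) := by simp [hF1]
        rw [this, hz]⟩
      (y₂ := mk1 t) ⟨hnil1, by
        have : aeval (mk1 t) F1 = mk1 (a * t ^ h - 1) := by simp [hF1]
        rw [this, hz']⟩
    rw [← Ideal.Quotient.eq_zero_iff_mem, map_sub, ← hmk1, e1, sub_self]

/-- Uniqueness of the root of `a T ^ h - 1` modulo `p ^ N` with given reduction modulo `p`. -/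
theorem newton_unique {B : Type v} [CommRing B] (p : B) (N h : ℕ) (hh : IsUnit (h : B)) (a t s : B)
    (hts : t - s ∈ Ideal.span {p})
    (ht : a * t ^ h - 1 ∈ Ideal.span {p ^ N}) (hs : a * s ^ h - 1 ∈ Ideal.span {p ^ N}) :
    t - s ∈ Ideal.span {p ^ N} := by
  by_cases hh0 : h = 0
  · subst hh0
    rw [Nat.cast_zero, isUnit_zero_iff] at hh
    have hs : Subsingleton B := ⟨fun x y => by rw [← one_mul x, ← one_mul y, ← hh, zero_mul, zero_mul]⟩
    rw [Subsingleton.elim (t - s) 0]; exact Ideal.zero_mem _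
  set Q := B ⧸ Ideal.span {p ^ N} with hQ
  set mk : B →+* Q := Ideal.Quotient.mk _ with hmk
  have hpnil : ∀ x ∈ Ideal.span {p}, IsNilpotent (mk x) := by
    intro x hx
    refine ⟨N, ?_⟩
    rw [← map_pow, hmk, Ideal.Quotient.eq_zero_iff_mem, ← Ideal.span_singleton_pow]
    exact Ideal.pow_mem_pow hx N
  have ht' : mk a * mk t ^ h = 1 := by
    rw [← map_pow, ← map_mul, ← sub_eq_zero, ← map_one mk, ← map_sub]
    exact Ideal.Quotient.eq_zero_iff_mem.2 ht
  have hs' : mk a * mk s ^ h = 1 := by
    rw [← map_pow, ← map_mul, ← sub_eq_zero, ← map_one mk, ← map_sub]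
    exact Ideal.Quotient.eq_zero_iff_mem.2 hs
  set F : Q[X] := C (mk a) * X ^ h - 1 with hF
  have hu2 : IsUnit (mk a * mk t ^ h) := by rw [ht']; exact isUnit_one
  have h1 : IsUnit (mk a) := isUnit_of_mul_isUnit_left hu2
  have h2 : IsUnit (mk t) := (isUnit_pow_iff hh0).1 (isUnit_of_mul_isUnit_right hu2)
  have hN2 := existsUnique_nilpotent_sub_and_aeval_eq_zero (P := F) (x := mk t)
    (by
      have : aeval (mk t) F = 0 := by simp [hF, ht']
      rw [this]; exact IsNilpotent.zero) (by
      have : aeval (mk t) (derivative F) = mk a * ((h : Q) * mk t ^ (h - 1)) := by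
        simp [hF, derivative_X_pow]
      rw [this]
      refine h1.mul (IsUnit.mul ?_ (h2.pow _))
      have := hh.map mk
      rwa [map_natCast] at this)
  have e1 := hN2.unique (y₁ := mk t) ⟨by rw [sub_self]; exact IsNilpotent.zero, by simp [hF, ht']⟩
    (y₂ := mk s) ⟨by rw [← map_sub]; exact hpnil _ hts, by simp [hF, hs']⟩
  rw [← Ideal.Quotient.eq_zero_iff_mem, map_sub, ← hmk, e1, sub_self]

/-- If `P` is monic and `P(u_i) ∈ (p)` where all `u_i` are units modulo `p`, then one can find such a `P` whose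
constant coefficient is a unit. -/
theorem exists_unit_const {R : Type u} [CommRing R] [IsLocalRing R] (π : R)
    (hπ : IsLocalRing.maximalIdeal R = Ideal.span {π}) {I : Type*} (A : I → Type v)
    [∀ i, CommRing (A i)] [∀ i, Algebra R (A i)] (u : ∀ i, A i)
    (hu : ∀ i, IsUnit (Ideal.Quotient.mk (Ideal.span {algebraMap R (A i) π}) (u i)))
    (P : R[X]) (hP : P.Monic) (hPu : ∀ i, aeval (u i) P ∈ Ideal.span {algebraMap R (A i) π}) :
    ∃ P' : R[X], IsUnit (P'.eval 0) ∧ ∀ i, aeval (u i) P' ∈ Ideal.span {algebraMap R (A i) π} := by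
  -- induct on the degree
  have key : ∀ (n : ℕ) (P : R[X]), P.natDegree ≤ n → (∃ k, IsUnit (P.coeff k)) →
      (∀ i, aeval (u i) P ∈ Ideal.span {algebraMap R (A i) π}) →
      ∃ P' : R[X], IsUnit (P'.eval 0) ∧ ∀ i, aeval (u i) P' ∈ Ideal.span {algebraMap R (A i) π} := by
    intro n
    induction n with
    | zero =>
      intro P hn hk hPu
      refine ⟨P, ?_, hPu⟩
      obtain ⟨k, hk⟩ := hk
      rcases Nat.eq_zero_or_pos k with h0 | h0
      · rw [← coeff_zero_eq_eval_zero, ← h0]; exact hk
      · rw [coeff_eq_zero_of_natDegree_lt (by omega), isUnit_zero_iff] at hk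
        have : Subsingleton R := ⟨fun x y => by rw [← one_mul x, ← one_mul y, ← hk, zero_mul, zero_mul]⟩
        exact absurd this (not_subsingleton R)
    | succ n ih =>
      intro P hn hk hPu
      by_cases h0 : IsUnit (P.eval 0)
      · exact ⟨P, h0, hPu⟩
      refine ih P.divX ?_ ?_ ?_
      · rw [natDegree_divX_eq_natDegree_tsub_one]; omega
      · obtain ⟨k, hk⟩ := hk
        rcases Nat.eq_zero_or_pos k with h1 | h1
        · subst h1
          rw [coeff_zero_eq_eval_zero] at hk
          exact absurd hk h0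
        · refine ⟨k - 1, ?_⟩
          rw [coeff_divX]
          have : k - 1 + 1 = k := by omega
          rw [this]; exact hk
      · intro i
        have hc : P.coeff 0 ∈ Ideal.span {π} := by
          rw [← hπ, IsLocalRing.mem_maximalIdeal, mem_nonunits_iff, coeff_zero_eq_eval_zero]
          exact h0
        have h2 : aeval (u i) P = aeval (u i) P.divX * u i + algebraMap R (A i) (P.coeff 0) := by
          conv_lhs => rw [← divX_mul_X_add P]
          simp
        have h3 : algebraMap R (A i) (P.coeff 0) ∈ Ideal.span {algebraMap R (A i) π} := by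
          obtain ⟨y, hy⟩ := Ideal.mem_span_singleton'.1 hc
          rw [← hy, map_mul]
          exact Ideal.mul_mem_left _ _ (Ideal.mem_span_singleton_self _)
        have h4 : aeval (u i) P.divX * u i ∈ Ideal.span {algebraMap R (A i) π} := by
          have := Ideal.sub_mem _ (hPu i) h3
          rwa [h2, add_sub_cancel_right] at this
        rw [← Ideal.Quotient.eq_zero_iff_mem, map_mul] at h4
        rw [← Ideal.Quotient.eq_zero_iff_mem]
        exact ((hu i).mul_left_eq_zero).1 h4
  refine key _ P le_rfl ⟨P.natDegree, ?_⟩ hPu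
  rw [coeff_natDegree, hP.leadingCoeff]; exact isUnit_one

end Groth.Agent.Models.TrivCore
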