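import Groth.Agent.Models.TrivCore

/-!
The algebraic core of "an invertible module of order prime to the residue characteristic which is trivial on the
special fibre is trivial", in terms of cocycles.
-/

set_option autoImplicit false

namespace Groth.Agent.Models.TrivMain

open Polynomial TensorProduct Module Groth.Agent.Models.TrivCore

universe u

theorem core
    {R : Type u} [CommRing R] [IsLocalRing R] (π : R)
    (hπ : IsLocalRing.maximalIdeal R = Ideal.span {π})
    {I : Type*} (A : I → Type u) [∀ i, CommRing (A i)] [∀ i, Algebra R (A i)]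
    (A2 : I → I → Type u) [∀ i j, CommRing (A2 i j)] [∀ i j, Algebra R (A2 i j)]
    (l : ∀ i j, A i →ₐ[R] A2 i j) (r : ∀ i j, A j →ₐ[R] A2 i j) (g : ∀ i j, A2 i j)
    (h : ℕ) (hh : IsUnit (h : R))
    (a : ∀ i, A i) (ha : ∀ i, IsUnit (a i)) (hag : ∀ i j, r i j (a j) = g i j ^ h * l i j (a i))
    (b : ∀ i, A i)
    (hb : ∀ i, IsUnit (Ideal.Quotient.mk (Ideal.span {algebraMap R (A i) π}) (b i)))
    (hbg : ∀ i j, r i j (b j) - g i j * l i j (b i) ∈ Ideal.span {algebraMap R (A2 i j) π})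
    (hint : ∀ u : ∀ i, A i,
      (∀ i j, l i j (u i) - r i j (u j) ∈ Ideal.span {algebraMap R (A2 i j) π}) →
      ∃ P : R[X], P.Monic ∧ ∀ i, aeval (u i) P ∈ Ideal.span {algebraMap R (A i) π})
    (hH0 : ∀ x : ∀ i, A i, (∀ i j, l i j (x i) = r i j (x j)) →
      ∃ c : R, ∀ i, x i = algebraMap R (A i) c)
    (N : ℕ)
    (hBT : ∀ t : ∀ i, A i,
      (∀ i j, l i j (t i) - g i j * r i j (t j) ∈ Ideal.span {algebraMap R (A2 i j) π ^ N}) →
      ∃ s : ∀ i, A i, (∀ i j, l i j (s i) = g i j * r i j (s j)) ∧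
        ∀ i, s i - t i ∈ Ideal.span {algebraMap R (A i) π})
    (hnt : ∃ i, ¬ IsUnit (algebraMap R (A i) π)) :
    ∃ s : ∀ i, A i, (∀ i, IsUnit (s i)) ∧ ∀ i j, l i j (s i) = g i j * r i j (s j) := by
  classical
  -- Step 1: `u i = a i⁻¹ * b i ^ h`
  have hu : ∃ u : ∀ i, A i, ∀ i, u i * a i = b i ^ h :=
    ⟨fun i => ((ha i).unit⁻¹ : (A i)ˣ) * b i ^ h, fun i => by
      rw [mul_comm, ← mul_assoc, IsUnit.mul_val_inv, one_mul]⟩
  obtain ⟨u, hu⟩ := hu
  have hhA : ∀ i, IsUnit (h : A i) := fun i => by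
    have := hh.map (algebraMap R (A i)); rwa [map_natCast] at this
  have hulr : ∀ i j, l i j (u i) - r i j (u j) ∈ Ideal.span {algebraMap R (A2 i j) π} := by
    intro i j
    have h1 : IsUnit (r i j (a j)) := (ha j).map (r i j)
    have h2 : (l i j (u i) - r i j (u j)) * r i j (a j) =
        - (r i j (b j) ^ h - (g i j * l i j (b i)) ^ h) := by
      rw [sub_mul, ← map_mul (r i j), hu j, hag i j]
      have h3 : l i j (u i) * (g i j ^ h * l i j (a i)) = g i j ^ h * l i j (u i * a i) := by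
        rw [map_mul]; ring
      rw [h3, hu i, map_pow, map_pow, mul_pow]; ring
    have h4 : (l i j (u i) - r i j (u j)) * r i j (a j) ∈
        Ideal.span {algebraMap R (A2 i j) π} := by
      rw [h2]
      refine Ideal.neg_mem_iff _ |>.2 ?_
      obtain ⟨c, hc⟩ := sub_dvd_pow_sub_pow (r i j (b j)) (g i j * l i j (b i)) h
      rw [hc]
      exact Ideal.mul_mem_right _ _ (hbg i j)
    exact (Ideal.mul_unit_mem_iff_mem _ h1).1 h4
  obtain ⟨P₀, hP₀, hP₀u⟩ := hint u hulr
  have huu : ∀ i, IsUnit (Ideal.Quotient.mk (Ideal.span {algebraMap R (A i) π}) (u i)) := by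
    intro i
    have h1 : IsUnit (Ideal.Quotient.mk (Ideal.span {algebraMap R (A i) π}) (u i * a i)) := by
      rw [hu i, map_pow]; exact (hb i).pow h
    rw [map_mul] at h1
    exact isUnit_of_mul_isUnit_left h1
  obtain ⟨P, hP0, hPu⟩ := exists_unit_const π hπ A u huu P₀ hP₀ hP₀u
  obtain ⟨R', _, _, _, hfin', hfree', hmax', W, S, hWS⟩ :=
    Groth.Agent.Models.RootExt.exists_local_ext_root R h hh P hP0
  -- coordinates
  set β := Module.Free.chooseBasis R R' with hβ
  haveI : Fintype (Module.Free.ChooseBasisIndex R R') := Module.Free.ChooseBasisIndex.fintype R R'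
  have hne : Nonempty (Module.Free.ChooseBasisIndex R R') := β.index_nonempty
  set π' : R' := algebraMap R R' π with hπ'def
  have hπ' : IsLocalRing.maximalIdeal R' = Ideal.span {π'} := by
    rw [hmax', hπ, Ideal.map_span, Set.image_singleton]
  let B : I → Type u := fun i => A i ⊗[R] R'
  let B2 : I → I → Type u := fun i j => A2 i j ⊗[R] R'
  let l' : ∀ i j, B i →ₐ[R] B2 i j := fun i j => Algebra.TensorProduct.map (l i j) (AlgHom.id R R')
  let r' : ∀ i j, B j →ₐ[R] B2 i j := fun i j => Algebra.TensorProduct.map (r i j) (AlgHom.id R R')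
  let g' : ∀ i j, B2 i j := fun i j => g i j ⊗ₜ 1
  let inc : ∀ i, R' →ₐ[R] B i := fun i => Algebra.TensorProduct.includeRight
  let inc2 : ∀ i j, R' →ₐ[R] B2 i j := fun i j => Algebra.TensorProduct.includeRight
  let ι : ∀ i, A i →ₐ[R] B i := fun i => Algebra.TensorProduct.includeLeft
  let ι2 : ∀ i j, A2 i j →ₐ[R] B2 i j := fun i j => Algebra.TensorProduct.includeLeft
  -- the ideal `(π)` in `B i`
  let J : ∀ i, Ideal (B i) := fun i => Ideal.span {algebraMap R (A i) π ⊗ₜ 1}
  let J2 : ∀ i j, Ideal (B2 i j) := fun i j => Ideal.span {algebraMap R (A2 i j) π ⊗ₜ 1}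
  have hinl : ∀ i j (x : R'), l' i j (inc i x) = inc2 i j x := by
    intro i j x
    change Algebra.TensorProduct.map (l i j) (AlgHom.id R R') ((1 : A i) ⊗ₜ x) = (1 : A2 i j) ⊗ₜ x
    rw [Algebra.TensorProduct.map_tmul, map_one]; rfl
  have hinr : ∀ i j (x : R'), r' i j (inc j x) = inc2 i j x := by
    intro i j x
    change Algebra.TensorProduct.map (r i j) (AlgHom.id R R') ((1 : A j) ⊗ₜ x) = (1 : A2 i j) ⊗ₜ x
    rw [Algebra.TensorProduct.map_tmul, map_one]; rfl
  have hιl : ∀ i j (x : A i), l' i j (ι i x) = ι2 i j (l i j x) := by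
    intro i j x
    change Algebra.TensorProduct.map (l i j) (AlgHom.id R R') (x ⊗ₜ (1 : R')) = (l i j x) ⊗ₜ (1 : R')
    rw [Algebra.TensorProduct.map_tmul, map_one]
  have hιr : ∀ i j (x : A j), r' i j (ι j x) = ι2 i j (r i j x) := by
    intro i j x
    change Algebra.TensorProduct.map (r i j) (AlgHom.id R R') (x ⊗ₜ (1 : R')) = (r i j x) ⊗ₜ (1 : R')
    rw [Algebra.TensorProduct.map_tmul, map_one]
  have hlπ' : ∀ i j, l' i j (algebraMap R (A i) π ⊗ₜ 1) = algebraMap R (A2 i j) π ⊗ₜ 1 := by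
    intro i j
    have := hιl i j (algebraMap R (A i) π)
    rw [AlgHom.commutes (l i j)] at this
    exact this
  have hrπ' : ∀ i j, r' i j (algebraMap R (A j) π ⊗ₜ 1) = algebraMap R (A2 i j) π ⊗ₜ 1 := by
    intro i j
    have := hιr i j (algebraMap R (A j) π)
    rw [AlgHom.commutes (r i j)] at this
    exact this
  have hincπ : ∀ i, inc i π' = algebraMap R (A i) π ⊗ₜ 1 := by
    intro i
    change inc i (algebraMap R R' π) = _
    rw [AlgHom.commutes]; rfl
  have hinc2π : ∀ i j, inc2 i j π' = algebraMap R (A2 i j) π ⊗ₜ 1 := by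
    intro i j
    change inc2 i j (algebraMap R R' π) = _
    rw [AlgHom.commutes]; rfl
  have hιJ : ∀ i (x : A i), x ∈ Ideal.span {algebraMap R (A i) π} → ι i x ∈ J i := by
    intro i x hx
    obtain ⟨y, rfl⟩ := Ideal.mem_span_singleton'.1 hx
    rw [map_mul]
    exact Ideal.mul_mem_left _ _ (Ideal.mem_span_singleton_self _)
  have hι2J : ∀ i j (x : A2 i j), x ∈ Ideal.span {algebraMap R (A2 i j) π} → ι2 i j x ∈ J2 i j := by
    intro i j x hx
    obtain ⟨y, rfl⟩ := Ideal.mem_span_singleton'.1 hx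
    rw [map_mul]
    exact Ideal.mul_mem_left _ _ (Ideal.mem_span_singleton_self _)
  have hincJ : ∀ i (x : R'), x ∈ IsLocalRing.maximalIdeal R' → inc i x ∈ J i := by
    intro i x hx
    rw [hπ'] at hx
    obtain ⟨y, rfl⟩ := Ideal.mem_span_singleton'.1 hx
    rw [map_mul, hincπ]
    exact Ideal.mul_mem_left _ _ (Ideal.mem_span_singleton_self _)
  have hl'J : ∀ i j (x : B i), x ∈ J i → l' i j x ∈ J2 i j := by
    intro i j x hx
    obtain ⟨y, rfl⟩ := Ideal.mem_span_singleton'.1 hx
    rw [map_mul]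
    have : l' i j (algebraMap R (A i) π ⊗ₜ 1) = algebraMap R (A2 i j) π ⊗ₜ 1 := hlπ' i j
    rw [this]
    exact Ideal.mul_mem_left _ _ (Ideal.mem_span_singleton_self _)
  have hr'J : ∀ i j (x : B j), x ∈ J j → r' i j x ∈ J2 i j := by
    intro i j x hx
    obtain ⟨y, rfl⟩ := Ideal.mem_span_singleton'.1 hx
    rw [map_mul]
    have : r' i j (algebraMap R (A j) π ⊗ₜ 1) = algebraMap R (A2 i j) π ⊗ₜ 1 := hrπ' i j
    rw [this]
    exact Ideal.mul_mem_left _ _ (Ideal.mem_span_singleton_self _)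
  -- the `h`-th root `w i` of `u i`
  let w : ∀ i, B i := fun i => eval₂ (inc i : R' →+* B i) (ι i (u i)) W
  have hw : ∀ i, w i ^ h - ι i (u i) ∈ J i := by
    intro i
    -- evaluate
    have h1 : eval₂ (inc i : R' →+* B i) (ι i (u i)) (W ^ h - X - P.map (algebraMap R R') * S) ∈ J i := by
      have h2 : ∀ Z ∈ (IsLocalRing.maximalIdeal R').map (C : R' →+* R'[X]),
          eval₂ (inc i : R' →+* B i) (ι i (u i)) Z ∈ J i := by
        intro Z hZ
        have h3 : (IsLocalRing.maximalIdeal R').map (C : R' →+* R'[X]) ≤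
            (J i).comap (eval₂RingHom (inc i : R' →+* B i) (ι i (u i))) := by
          rw [Ideal.map_le_iff_le_comap]
          intro x hx
          rw [Ideal.mem_comap, Ideal.mem_comap, coe_eval₂RingHom, eval₂_C]
          exact hincJ i x hx
        exact h3 hZ
      exact h2 _ hWS
    rw [eval₂_sub, eval₂_sub, eval₂_mul, eval₂_pow, eval₂_X, eval₂_map] at h1
    have h4 : eval₂ ((inc i : R' →+* B i).comp (algebraMap R R')) (ι i (u i)) P ∈ J i := by
      have h5 : (inc i : R' →+* B i).comp (algebraMap R R') = (ι i : A i →+* B i).comp (algebraMap R (A i)) := by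
        ext x
        simp
      have h6 : eval₂ ((ι i : A i →+* B i).comp (algebraMap R (A i))) (ι i (u i)) P =
          ι i (aeval (u i) P) := by
        rw [aeval_def]
        exact (hom_eval₂ P (algebraMap R (A i)) (ι i : A i →+* B i) (u i)).symm
      rw [h5, h6]
      exact hιJ i _ (hPu i)
    have h7 := Ideal.add_mem _ h1 (Ideal.mul_mem_right
      (eval₂ (inc i : R' →+* B i) (ι i (u i)) S) _ h4)
    rwa [sub_add_cancel] at h7
  have hwlr : ∀ i j, l' i j (w i) - r' i j (w j) ∈ J2 i j := by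
    intro i j
    have h1 : l' i j (w i) = eval₂ (inc2 i j : R' →+* B2 i j) (ι2 i j (l i j (u i))) W := by
      have h2 := hom_eval₂ W (inc i : R' →+* B i) (l' i j : B i →+* B2 i j) (ι i (u i))
      have h3 : (l' i j : B i →+* B2 i j).comp (inc i : R' →+* B i) = (inc2 i j : R' →+* B2 i j) :=
        RingHom.ext fun x => hinl i j x
      rw [h3] at h2
      rw [← hιl i j (u i)]
      exact h2
    have h1' : r' i j (w j) = eval₂ (inc2 i j : R' →+* B2 i j) (ι2 i j (r i j (u j))) W := by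
      have h2 := hom_eval₂ W (inc j : R' →+* B j) (r' i j : B j →+* B2 i j) (ι j (u j))
      have h3 : (r' i j : B j →+* B2 i j).comp (inc j : R' →+* B j) = (inc2 i j : R' →+* B2 i j) :=
        RingHom.ext fun x => hinr i j x
      rw [h3] at h2
      rw [← hιr i j (u j)]
      exact h2
    rw [h1, h1', ← Ideal.Quotient.eq]
    rw [hom_eval₂, hom_eval₂]
    congr 1
    rw [Ideal.Quotient.eq, ← map_sub]
    exact hι2J i j _ (hulr i j)
  -- inverse of `b` modulo `π`
  have hb' : ∀ i, ∃ b' : A i, b i * b' - 1 ∈ Ideal.span {algebraMap R (A i) π} := by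
    intro i
    obtain ⟨y, hy⟩ := (hb i).exists_right_inv
    obtain ⟨y, rfl⟩ := Ideal.Quotient.mk_surjective y
    refine ⟨y, ?_⟩
    rw [← Ideal.Quotient.eq, map_mul, hy, map_one]
  choose b' hb' using hb'
  have hlJ : ∀ i j (x : A i), x ∈ Ideal.span {algebraMap R (A i) π} →
      l i j x ∈ Ideal.span {algebraMap R (A2 i j) π} := by
    intro i j x hx
    obtain ⟨y, rfl⟩ := Ideal.mem_span_singleton'.1 hx
    rw [map_mul, AlgHom.commutes]
    exact Ideal.mul_mem_left _ _ (Ideal.mem_span_singleton_self _)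
  have hrJ : ∀ i j (x : A j), x ∈ Ideal.span {algebraMap R (A j) π} →
      r i j x ∈ Ideal.span {algebraMap R (A2 i j) π} := by
    intro i j x hx
    obtain ⟨y, rfl⟩ := Ideal.mem_span_singleton'.1 hx
    rw [map_mul, AlgHom.commutes]
    exact Ideal.mul_mem_left _ _ (Ideal.mem_span_singleton_self _)
  have hb'g : ∀ i j, l i j (b' i) - g i j * r i j (b' j) ∈ Ideal.span {algebraMap R (A2 i j) π} := by
    intro i j
    have e1 := hlJ i j _ (hb' i)
    have e2 := hrJ i j _ (hb' j)
    have e3 := hbg i j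
    rw [map_sub, ← Ideal.Quotient.eq, map_one, map_one, map_mul] at e1 e2
    rw [← Ideal.Quotient.eq] at e3 ⊢
    set q := Ideal.Quotient.mk (Ideal.span {algebraMap R (A2 i j) π}) with hq
    rw [map_mul] at e1 e2 e3 ⊢
    calc q (l i j (b' i)) = q (l i j (b' i)) * (q (r i j (b j)) * q (r i j (b' j))) := by
          rw [e2, mul_one]
      _ = q (g i j) * q (r i j (b' j)) * (q (l i j (b i)) * q (l i j (b' i))) := by
          rw [e3]; ring
      _ = q (g i j) * q (r i j (b' j)) := by rw [e1, mul_one]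
  -- `τ i = w i * b' i`
  let τ : ∀ i, B i := fun i => w i * ι i (b' i)
  have hτ : ∀ i, ι i (a i) * τ i ^ h - 1 ∈ J i := by
    intro i
    have e1 := hw i
    have e2 := hιJ i _ (hb' i)
    rw [← Ideal.Quotient.eq] at e1 ⊢
    rw [map_sub, map_one, map_mul, ← Ideal.Quotient.eq] at e2
    set q := Ideal.Quotient.mk (J i) with hq
    rw [map_pow] at e1
    rw [map_mul, map_one] at e2
    change q (ι i (a i) * (w i * ι i (b' i)) ^ h) = q 1
    rw [map_mul, map_pow, map_mul, mul_pow, e1, map_one]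
    have e3 : q (ι i (u i)) * q (ι i (a i)) = q (ι i (b i)) ^ h := by
      rw [← map_mul, ← map_mul, hu i, map_pow, map_pow]
    calc q (ι i (a i)) * (q (ι i (u i)) * q (ι i (b' i)) ^ h)
        = (q (ι i (u i)) * q (ι i (a i))) * q (ι i (b' i)) ^ h := by ring
      _ = (q (ι i (b i)) * q (ι i (b' i))) ^ h := by rw [e3, mul_pow]
      _ = 1 := by rw [e2, one_pow]
  have hτlr : ∀ i j, l' i j (τ i) - g' i j * r' i j (τ j) ∈ J2 i j := by
    intro i j
    have e1 := hwlr i j
    have e2 := hι2J i j _ (hb'g i j)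
    rw [← Ideal.Quotient.eq] at e1 ⊢
    rw [map_sub, ← Ideal.Quotient.eq, map_mul] at e2
    set q := Ideal.Quotient.mk (J2 i j) with hq
    change q (l' i j (w i * ι i (b' i))) = q (g' i j * r' i j (w j * ι j (b' j)))
    rw [map_mul (l' i j), map_mul (r' i j), hιl, hιr, map_mul, map_mul, map_mul, e1, e2, map_mul]
    change q (r' i j (w j)) * (q (g' i j) * _) = _
    ring
  -- Newton
  have hhB : ∀ i, IsUnit (h : B i) := fun i => by
    have := hh.map (algebraMap R (B i)); rwa [map_natCast] at this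
  have hhB2 : ∀ i j, IsUnit (h : B2 i j) := fun i j => by
    have := hh.map (algebraMap R (B2 i j)); rwa [map_natCast] at this
  choose t ht1 ht2 using fun i => newton_lift (B := B i) (algebraMap R (A i) π ⊗ₜ 1) (N + 1) h (hhB i)
    (ι i (a i)) (τ i) (hτ i)
  have htlr : ∀ i j, l' i j (t i) - g' i j * r' i j (t j) ∈
      Ideal.span {(algebraMap R (A2 i j) π ⊗ₜ 1 : B2 i j) ^ (N + 1)} := by
    intro i j
    have hlπ : l' i j (algebraMap R (A i) π ⊗ₜ 1) = algebraMap R (A2 i j) π ⊗ₜ 1 := hlπ' i j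
    have hrπ : r' i j (algebraMap R (A j) π ⊗ₜ 1) = algebraMap R (A2 i j) π ⊗ₜ 1 := hrπ' i j
    refine newton_unique (algebraMap R (A2 i j) π ⊗ₜ 1) (N + 1) h (hhB2 i j) (l' i j (ι i (a i))) _ _
      ?_ ?_ ?_
    · have e1 := hl'J i j _ (ht1 i)
      have e2 := hr'J i j _ (ht1 j)
      have e3 := hτlr i j
      rw [map_sub] at e1 e2
      have e4 := Ideal.sub_mem _ (Ideal.add_mem _ e1 e3) (Ideal.mul_mem_left _ (g' i j) e2)
      convert e4 using 1
      ring
    · obtain ⟨y, hy⟩ := Ideal.mem_span_singleton'.1 (ht2 i)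
      have e5 := congrArg (l' i j) hy
      rw [map_mul, map_pow, hlπ, map_sub, map_one, map_mul, map_pow] at e5
      rw [← e5]
      exact Ideal.mul_mem_left _ _ (Ideal.mem_span_singleton_self _)
    · obtain ⟨y, hy⟩ := Ideal.mem_span_singleton'.1 (ht2 j)
      have e5 := congrArg (r' i j) hy
      rw [map_mul, map_pow, hrπ, map_sub, map_one, map_mul, map_pow] at e5
      have e6 : l' i j (ι i (a i)) * (g' i j * r' i j (t j)) ^ h =
          r' i j (ι j (a j)) * r' i j (t j) ^ h := by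
        rw [hιl, hιr, hag i j, map_mul, map_pow, mul_pow]
        change _ = g' i j ^ h * _ * _
        ring
      rw [e6, ← e5]
      exact Ideal.mul_mem_left _ _ (Ideal.mem_span_singleton_self _)
  -- coordinates of `t`
  have hcoordg : ∀ i j k (x : B2 i j), coord β (A2 i j) k (g' i j * x) = g i j * coord β (A2 i j) k x := by
    intro i j k x
    have : g' i j * x = g i j • x := by rw [Algebra.smul_def]; rfl
    rw [this, map_smul, smul_eq_mul]
  have hcl : ∀ i j k (x : B i), coord β (A2 i j) k (l' i j x) = l i j (coord β (A i) k x) :=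
    fun i j k x => coord_map β (l i j) k x
  have hcr : ∀ i j k (x : B j), coord β (A2 i j) k (r' i j x) = r i j (coord β (A j) k x) :=
    fun i j k x => coord_map β (r i j) k x
  have hBT' : ∀ k, ∃ s : ∀ i, A i, (∀ i j, l i j (s i) = g i j * r i j (s j)) ∧
      ∀ i, s i - coord β (A i) k (t i) ∈ Ideal.span {algebraMap R (A i) π} := by
    intro k
    refine hBT (fun i => coord β (A i) k (t i)) ?_
    intro i j
    have e1 : l i j (coord β (A i) k (t i)) - g i j * r i j (coord β (A j) k (t j)) =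
        coord β (A2 i j) k (l' i j (t i) - g' i j * r' i j (t j)) := by
      rw [map_sub, hcoordg, hcl, hcr]
    rw [e1]
    have e2 : (algebraMap R (A2 i j) π ⊗ₜ 1 : B2 i j) ^ (N + 1) = (algebraMap R (A2 i j) π ^ (N + 1)) ⊗ₜ 1 := by
      rw [Algebra.TensorProduct.tmul_pow, one_pow]
    have e3 := htlr i j
    rw [e2] at e3
    have e4 := coord_mem β _ e3 k
    refine Ideal.span_singleton_le_span_singleton.2 ?_ e4
    exact pow_dvd_pow _ (Nat.le_succ N)
  choose s hs1 hs2 using hBT'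
  let s' : ∀ i, B i := fun i => ∑ k, s k i ⊗ₜ[R] β k
  have hs'coord : ∀ k i, coord β (A i) k (s' i) = s k i := by
    intro k i
    simp only [s', map_sum, coord_tmul]
    rw [Finset.sum_eq_single k]
    · simp
    · intro b _ hb
      simp [Finsupp.single_apply, hb]
    · intro hk; exact absurd (Finset.mem_univ _) hk
  have hs'lr : ∀ i j, l' i j (s' i) = g' i j * r' i j (s' j) := by
    intro i j
    refine ext_coord β fun k => ?_
    rw [hcoordg, hcl, hcr, hs'coord, hs'coord]
    exact hs1 k i j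
  have hs't : ∀ i, s' i - t i ∈ J i := by
    intro i
    refine mem_of_coord_mem β _ fun k => ?_
    rw [map_sub, hs'coord]
    exact hs2 k i
  -- `H⁰` over `R'`
  have hH0' : ∀ x : ∀ i, B i, (∀ i j, l' i j (x i) = r' i j (x j)) → ∃ c : R', ∀ i, x i = inc i c := by
    intro x hx
    have h1 : ∀ k, ∃ c : R, ∀ i, coord β (A i) k (x i) = algebraMap R (A i) c := by
      intro k
      refine hH0 (fun i => coord β (A i) k (x i)) ?_
      intro i j
      have := congrArg (coord β (A2 i j) k) (hx i j)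
      rwa [hcl, hcr] at this
    choose c hc using h1
    refine ⟨∑ k, c k • β k, fun i => ?_⟩
    rw [← sum_coord β (x i), map_sum]
    refine Finset.sum_congr rfl fun k _ => ?_
    rw [hc k i]
    change _ = (1 : A i) ⊗ₜ[R] (c k • β k)
    rw [Algebra.algebraMap_eq_smul_one, TensorProduct.smul_tmul]
  -- nontriviality
  obtain ⟨i₀, hi₀⟩ := hnt
  have hnt' : (1 : B i₀) ∉ J i₀ := by
    intro h1
    obtain ⟨k⟩ := hne
    have h2 : ((1 : A i₀) ⊗ₜ[R] β k) ∈ J i₀ := by
      have := Ideal.mul_mem_left _ ((1 : A i₀) ⊗ₜ[R] β k) h1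
      rwa [mul_one] at this
    have h3 := coord_mem β _ h2 k
    rw [coord_tmul] at h3
    simp only [Basis.repr_self, Finsupp.single_eq_same, map_one, mul_one] at h3
    rw [Ideal.mem_span_singleton] at h3
    exact hi₀ (isUnit_of_dvd_one h3)
  have hunitR' : ∀ c : R', inc i₀ c ∉ J i₀ → IsUnit c := by
    intro c hc
    by_contra hcu
    exact hc (hincJ i₀ c ((IsLocalRing.mem_maximalIdeal c).2 hcu))
  -- `s' ^ h * a` is a unit constant
  obtain ⟨c, hc⟩ := hH0' (fun i => s' i ^ h * ι i (a i)) (by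
    intro i j
    rw [map_mul, map_mul, map_pow, map_pow, hs'lr i j, hιl, hιr, hag i j, map_mul, map_pow, mul_pow]
    change _ = _ * (g' i j ^ h * _)
    ring)
  have hcu : IsUnit c := by
    refine hunitR' c ?_
    rw [← hc i₀]
    intro hmem
    -- modulo `π`
    apply hnt'
    have e1 := hs't i₀
    have e2 := ht1 i₀
    have e3 := hτ i₀
    rw [← Ideal.Quotient.eq] at e1 e2 e3
    rw [← Ideal.Quotient.eq_zero_iff_mem] at hmem ⊢
    rw [map_mul, map_pow, e1, e2, mul_comm, ← map_pow, ← map_mul] at hmem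
    exact e3.symm.trans hmem
  have hs'u : ∀ i, IsUnit (s' i) := by
    intro i
    have h1 : IsUnit (s' i ^ h * ι i (a i)) := by
      rw [hc i]; exact hcu.map (inc i)
    by_cases hh0 : h = 0
    · subst hh0
      rw [Nat.cast_zero, isUnit_zero_iff] at hh
      have : Subsingleton R := ⟨fun x y => by rw [← one_mul x, ← one_mul y, ← hh, zero_mul, zero_mul]⟩
      exact absurd this (not_subsingleton R)
    · exact (isUnit_pow_iff hh0).1 (isUnit_of_mul_isUnit_left h1)
  -- each `s k` is a constant multiple of `s'`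
  have hsk : ∀ k, ∃ c : R', ∀ i, ι i (s k i) = inc i c * s' i := by
    intro k
    obtain ⟨c, hc⟩ := hH0' (fun i => ι i (s k i) * ((hs'u i).unit⁻¹ : (B i)ˣ)) (by
      intro i j
      have h1 : l' i j (((hs'u i).unit⁻¹ : (B i)ˣ) : B i) * l' i j (s' i) = 1 := by
        rw [← map_mul, IsUnit.val_inv_mul, map_one]
      have h2 : r' i j (((hs'u j).unit⁻¹ : (B j)ˣ) : B j) * r' i j (s' j) = 1 := by
        rw [← map_mul, IsUnit.val_inv_mul, map_one]
      have h3 : IsUnit (l' i j (s' i)) := (hs'u i).map (l' i j)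
      refine h3.mul_left_injective ?_
      change (l' i j (ι i (s k i) * ((hs'u i).unit⁻¹ : (B i)ˣ))) * l' i j (s' i) =
        (r' i j (ι j (s k j) * ((hs'u j).unit⁻¹ : (B j)ˣ))) * l' i j (s' i)
      rw [map_mul, map_mul, mul_assoc, h1, mul_one, hs'lr i j, hιl, hιr, hs1 k i j, map_mul]
      calc ι2 i j (g i j) * ι2 i j (r i j (s k j))
          = ι2 i j (r i j (s k j)) * g' i j * (r' i j (((hs'u j).unit⁻¹ : (B j)ˣ) : B j) * r' i j (s' j)) := by
            rw [h2, mul_one, mul_comm]; rfl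
        _ = _ := by ring)
    refine ⟨c, fun i => ?_⟩
    rw [← hc i, mul_assoc, IsUnit.val_inv_mul, mul_one]
  choose d hd using hsk
  -- some `d k` is a unit
  have hdu : ∃ k, IsUnit (d k) := by
    by_contra hall
    push Not at hall
    have h1 : s' i₀ ∈ J i₀ := by
      have h2 : s' i₀ = ∑ k, ι i₀ (s k i₀) * inc i₀ (β k) := by
        refine Finset.sum_congr rfl fun k _ => ?_
        change _ = (s k i₀ ⊗ₜ[R] (1 : R')) * ((1 : A i₀) ⊗ₜ[R] β k)
        rw [Algebra.TensorProduct.tmul_mul_tmul, one_mul, mul_one]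
      rw [h2]
      refine Ideal.sum_mem _ fun k _ => ?_
      rw [hd k i₀]
      refine Ideal.mul_mem_right _ _ (Ideal.mul_mem_right _ _ (hincJ i₀ _ ?_))
      exact (IsLocalRing.mem_maximalIdeal _).2 (hall k)
    apply hnt'
    have h3 := Ideal.mul_mem_left _ (((hs'u i₀).unit⁻¹ : (B i₀)ˣ) : B i₀) h1
    rwa [IsUnit.val_inv_mul] at h3
  obtain ⟨k, hk⟩ := hdu
  refine ⟨s k, fun i => ?_, hs1 k⟩
  have h1 : IsUnit (ι i (s k i)) := by
    rw [hd k i]; exact (hk.map (inc i)).mul (hs'u i)
  obtain ⟨y, hy⟩ := h1.exists_right_inv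
  have h2 := congrArg (fun z => coord β (A i) k (z * ((1 : A i) ⊗ₜ[R] β k))) hy
  simp only [one_mul, coord_tmul, Basis.repr_self, Finsupp.single_eq_same, map_one] at h2
  have h3 : ι i (s k i) * y * ((1 : A i) ⊗ₜ[R] β k) = s k i • (y * ((1 : A i) ⊗ₜ[R] β k)) := by
    rw [Algebra.smul_def, mul_assoc]; rfl
  rw [h3, map_smul, smul_eq_mul] at h2
  exact IsUnit.of_mul_eq_one _ h2

end Groth.Agent.Models.TrivMain
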