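import Groth.Agent.Models.BTor
import Groth.Agent.Models.SpecFib
import Groth.Agent.Models.TrivMain
import Groth.Agent.Models.DVRGeneric2
import Groth.Agent.Fdesc.LocGenPullback
import Groth.Agent.Ega2.QCohLocal
import Groth.Agent.CohqB.LocalQC
import Mathlib.AlgebraicGeometry.Morphisms.Separated

/-!
Geometric input for the triviality of invertible modules on models.
-/

set_option autoImplicit false
universe u
open CategoryTheory CategoryTheory.Limits AlgebraicGeometry Opposite TopologicalSpace

namespace Groth.Agent.Models.TrivGeom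

open Groth.Agent.Fdesc.LocGen Groth.Agent.Models.SpecFib

section

variable {X : Scheme.{u}}

/-- Tautological generating sections of a free module. -/
noncomputable def freeGen (I : Type u) :
    (SheafOfModules.free (R := X.ringCatSheaf) I).GeneratingSections where
  I := I
  s := SheafOfModules.freeHomEquiv _ (𝟙 _)
  epi := by rw [Equiv.symm_apply_apply]; infer_instance

theorem isCoh_of_isInvertible {M : X.Modules} (h : PicF.IsInvertible M) : Coh.IsCoh M := by
  refine ⟨Groth.Agent.Ega2.QCohLocal.isQCoh_of_isInvertible h, ?_⟩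
  refine (Groth.Agent.CohqB.LocalQC.isFT_iff M).2 fun x => ?_
  obtain ⟨U, hx, ⟨e⟩⟩ := h x
  let f : (show (U : Scheme.{u}).Modules from SheafOfModules.free (R := (U : Scheme.{u}).ringCatSheaf)
      (ULift.{u} (Fin 1))) ≅ M.restrict U.ι :=
    (Groth.Agent.Ega2.QCohLocal.freeModIso (U : Scheme.{u}) 1).symm ≪≫
      (Groth.Agent.Ega2.QCohLocal.freeModOneIso (U : Scheme.{u})).symm ≪≫ e.symm
  obtain ⟨Q, hQ⟩ := Groth.Agent.CohqB.LocalQC.generators_transport f.hom (freeGen (ULift.{u} (Fin 1)))
  refine ⟨U, hx, Q, ?_⟩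
  rw [hQ]
  exact inferInstanceAs (Finite (ULift.{u} (Fin 1)))

/-- affine neighbourhoods with generators. -/
theorem exists_affine_gen {L : X.Modules} (hL : PicF.IsInvertible L) (x : X) :
    ∃ (V : X.Opens) (e : Γ(L, V)), x ∈ V ∧ IsAffineOpen V ∧ IsGen e := by
  obtain ⟨U, e, hxU, he⟩ := (isInvertible_iff L).1 hL x
  obtain ⟨_, ⟨V, hV, rfl⟩, hxV, hVU⟩ :=
    X.isBasis_affineOpens.exists_subset_of_mem_open hxU U.isOpen
  exact ⟨V, res L hVU e, hxV, hV, he.res hVU⟩

end

section

variable {R : Type u} [CommRing R] {X : Scheme.{u}} (p : X ⟶ Spec (CommRingCat.of R))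

theorem ores_str {V W : X.Opens} (h : W ≤ V) (r : R) : ores h (str R X p V r) = str R X p W r := by
  have := p.appLE_map (U := ⊤) (V := V) (V' := W) le_top (homOfLE h).op
  exact congrArg (fun φ => φ.hom ((Scheme.ΓSpecIso (CommRingCat.of R)).inv.hom r)) this

/-- nonzero scalars act injectively on functions on a flat scheme over a domain -/
theorem eq_zero_of_str_mul_eq_zero [IsDomain R] [Flat p] (r : R) (hr : r ≠ 0) (V : X.Opens)
    (s : Γ(X, V)) (hs : str R X p V r * s = 0) : s = 0 := by
  apply X.IsSheaf.section_ext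
  intro x hx
  obtain ⟨_, ⟨U, hU, rfl⟩, hxU, hUV⟩ :=
    X.isBasis_affineOpens.exists_subset_of_mem_open hx V.isOpen
  have hUV' : U ≤ V := hUV
  refine ⟨U, hUV', hxU, ?_⟩
  rw [map_zero]
  have h1 : (p.appLE ⊤ U le_top).hom.Flat := Scheme.Hom.flat_appLE p (isAffineOpen_top _) hU le_top
  have h2 : (str R X p U).Flat := by
    apply RingHom.Flat.comp _ h1
    exact RingHom.Flat.of_bijective
      (ConcreteCategory.bijective_of_isIso (Scheme.ΓSpecIso (CommRingCat.of R)).inv)
  letI := (str R X p U).toAlgebra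
  have h3 : Module.Flat R Γ(X, U) := h2
  have h4 : IsSMulRegular R r := by
    rw [isSMulRegular_iff_right_eq_zero_of_smul]
    intro y hy
    exact (mul_eq_zero.mp hy).resolve_left hr
  have h5 : IsSMulRegular Γ(X, U) (algebraMap R Γ(X, U) r) := h4.of_flat
  rw [isSMulRegular_iff_right_eq_zero_of_smul] at h5
  apply h5
  have h6 := congrArg (ores hUV') hs
  rw [map_mul, map_zero, ores_str] at h6
  exact h6

end

end Groth.Agent.Models.TrivGeom
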