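import Mathlib.RingTheory.Ideal.Cotangent
import Mathlib.Tactic.LinearCombination
import Mathlib.RingTheory.Ideal.Quotient.Operations
import Mathlib.RingTheory.Ideal.AssociatedPrime.Finiteness
import Groth.Agent.Models.FinitePd
import Groth.Agent.Models.PdQuot

/-!
# Vasconcelos' theorem: ideals of finite projective dimension with (partly) free conormal module

Stacks 0FJQ, 0FJR in a form convenient for induction: a free direct summand of rank `r` of `I/I²` is recorded as a
linear map `ψ : I → (R/I)^r` together with elements `f_j ∈ I` such that `ψ f_j = e_j`.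
-/

set_option autoImplicit false

universe u

open CategoryTheory IsLocalRing

namespace Groth.Agent.Models.Vasconcelos

variable {R : Type u} [CommRing R]

/-- A linear map from `I` to a module killed by `I` kills `I²`. -/
lemma map_eq_zero_of_mem_sq (I : Ideal R) {M : Type u} [AddCommGroup M] [Module R M]
    (hM : ∀ a ∈ I, ∀ m : M, a • m = 0) (ψ : I →ₗ[R] M) (b : I) (hb : (b : R) ∈ I ^ 2) : ψ b = 0 := by
  have key : ∀ c (hc : c ∈ I ^ 2) (hc' : c ∈ I), ψ ⟨c, hc'⟩ = 0 := by
    intro c hc
    rw [pow_two] at hc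
    induction hc using Submodule.mul_induction_on' with
    | mem_mul_mem m hm k hk =>
      intro hc'
      have : (⟨m * k, hc'⟩ : I) = m • (⟨k, hk⟩ : I) := rfl
      rw [this, map_smul]
      exact hM m hm _
    | add a ha b hb h1 h2 =>
      intro hc'
      have ha' : a ∈ I := Ideal.mul_le_left ha
      have hb' : b ∈ I := Ideal.mul_le_left hb
      have : (⟨a + b, hc'⟩ : I) = ⟨a, ha'⟩ + ⟨b, hb'⟩ := rfl
      rw [this, map_add, h1 ha', h2 hb', add_zero]
  exact key b hb b.2

lemma quot_smul_eq_zero (I : Ideal R) (a : R) (ha : a ∈ I) (m : R ⧸ I) : a • m = 0 := by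
  obtain ⟨m, rfl⟩ := Ideal.Quotient.mk_surjective m
  rw [← Ideal.Quotient.mk_eq_mk, ← Submodule.Quotient.mk_smul, Submodule.Quotient.mk_eq_zero]
  exact I.mul_mem_right _ ha

/-- Stacks 0FJQ. -/
theorem exists_nonZeroDivisor [IsNoetherianRing R] [IsLocalRing R] (I : Ideal R) (hI : I ≠ ⊤) (n : ℕ)
    (hpd : HasProjectiveDimensionLT (ModuleCat.of R I) n) (ψ : I →ₗ[R] R ⧸ I) (f : I) (hf : ψ f = 1) :
    ∃ (x a b : R), IsUnit a ∧ b ∈ I ^ 2 ∧ x = a * f + b ∧ x ∈ nonZeroDivisors R := by
  have hI' : I ^ 2 ≤ I := Ideal.pow_le_self two_ne_zero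
  let J : Ideal R := Ideal.span {(f : R)} ⊔ I ^ 2
  let K : Ideal R := maximalIdeal R * Ideal.span {(f : R)} ⊔ I ^ 2
  have hnt : Nontrivial (R ⧸ I) := Ideal.Quotient.nontrivial_iff.mpr hI
  have hψ : ∀ b : I, (b : R) ∈ I ^ 2 → ψ b = 0 :=
    fun b hb => map_eq_zero_of_mem_sq I (fun a ha m => quot_smul_eq_zero I a ha m) ψ b hb
  by_contra! hcon
  have hsub : (J : Set R) ⊆ ⋃ i ∈ insert K (associatedPrimes R R), ((id i : Ideal R) : Set R) := by
    intro x hx
    obtain ⟨y, hy, b, hb, rfl⟩ := Submodule.mem_sup.mp hx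
    obtain ⟨a, rfl⟩ := Ideal.mem_span_singleton'.mp hy
    rw [Set.biUnion_insert]
    by_cases ha : IsUnit a
    · right
      have h1 := hcon _ a b ha hb rfl
      have : (a * (f : R) + b) ∈ (nonZeroDivisors R : Set R)ᶜ := h1
      rw [← biUnion_associatedPrimes_eq_compl_nonZeroDivisors] at this
      exact this
    · left
      refine Submodule.add_mem_sup (Ideal.mul_mem_mul ha (Ideal.mem_span_singleton_self _)) hb
  rw [Ideal.subset_union_prime_finite ((associatedPrimes.finite R R).insert K) K K] at hsub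
  swap
  · intro i hi h1 _
    rcases Set.mem_insert_iff.mp hi with h | h
    · exact absurd h h1
    · exact h.1
  obtain ⟨i, hi, hJ⟩ := hsub
  rcases Set.mem_insert_iff.mp hi with rfl | h
  · have hfK : (f : R) ∈ K := hJ (Submodule.mem_sup_left (Ideal.mem_span_singleton_self _))
    obtain ⟨y, hy, b, hb, hyb⟩ := Submodule.mem_sup.mp hfK
    rw [Ideal.mem_mul_span_singleton] at hy
    obtain ⟨a, ha, rfl⟩ := hy
    have hu : IsUnit (1 - a) := by
      by_contra h
      have : (1 : R) ∈ maximalIdeal R := by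
        have := (maximalIdeal R).add_mem ((mem_maximalIdeal _).mpr h) ha
        rwa [sub_add_cancel] at this
      exact (Ideal.ne_top_iff_one _).mp (maximalIdeal.isMaximal R).ne_top this
    have h1 : (1 - a) • f = (⟨b, hI' hb⟩ : I) := by
      ext
      change (1 - a) * (f : R) = b
      linear_combination -hyb
    have h2 : (1 - a) • (1 : R ⧸ I) = 0 := by
      rw [← hf, ← map_smul, h1]
      exact hψ _ hb
    rw [hu.smul_eq_zero] at h2
    exact one_ne_zero h2
  · have hprime := h.1
    have hIi : I ≤ i := by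
      have : I ^ 2 ≤ i := le_sup_right.trans hJ
      exact hprime.le_of_pow_le this
    obtain ⟨s, hs, hs'⟩ := FinitePd.exists_notMem_mul_eq_zero I n hpd i h hIi
    have h3 : s • f = 0 := by
      ext
      exact hs' f f.2
    have h4 : s • (1 : R ⧸ I) = 0 := by
      rw [← hf, ← map_smul, h3, map_zero]
    apply hs
    apply hIi
    rw [← Ideal.Quotient.eq_zero_iff_mem]
    rw [Algebra.smul_def, mul_one] at h4
    exact h4

section Step

variable (I : Ideal R) (x : R)

/-- The map `I → I R/x`. -/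
noncomputable def q : I →ₗ[R] I.map (Ideal.Quotient.mk (Ideal.span {x})) where
  toFun a := ⟨Ideal.Quotient.mk _ a, Ideal.mem_map_of_mem _ a.2⟩
  map_add' _ _ := rfl
  map_smul' _ _ := rfl

lemma q_surjective : Function.Surjective (q I x) := by
  rintro ⟨b, hb⟩
  rw [Ideal.mem_map_iff_of_surjective _ Ideal.Quotient.mk_surjective] at hb
  obtain ⟨a, ha, rfl⟩ := hb
  exact ⟨⟨a, ha⟩, rfl⟩

lemma exists_lift (hx : x ∈ I) {N : Type u} [AddCommGroup N] [Module R N] [Module (R ⧸ Ideal.span {x}) N]
    [IsScalarTower R (R ⧸ Ideal.span {x}) N] (φ : I →ₗ[R] N) (h : φ ⟨x, hx⟩ = 0) :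
    ∃ φ' : I.map (Ideal.Quotient.mk (Ideal.span {x})) →ₗ[R ⧸ Ideal.span {x}] N,
      ∀ a : I, φ' (q I x a) = φ a := by
  have hker : LinearMap.ker (q I x) ≤ LinearMap.ker φ := by
    intro a ha
    have h1 : Ideal.Quotient.mk (Ideal.span {x}) (a : R) = 0 := congrArg Subtype.val ha
    rw [Ideal.Quotient.eq_zero_iff_mem, Ideal.mem_span_singleton'] at h1
    obtain ⟨c, hc⟩ := h1
    have h2 : a = c • (⟨x, hx⟩ : I) := by
      ext
      exact hc.symm
    rw [LinearMap.mem_ker, h2, map_smul, h, smul_zero]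
  let φ₀ : I.map (Ideal.Quotient.mk (Ideal.span {x})) →ₗ[R] N :=
    ((LinearMap.ker (q I x)).liftQ φ hker) ∘ₗ
      ((q I x).quotKerEquivOfSurjective (q_surjective I x)).symm.toLinearMap
  refine ⟨φ₀.extendScalarsOfSurjective Ideal.Quotient.mk_surjective, fun a => ?_⟩
  change φ₀ (q I x a) = φ a
  have h3 : ((q I x).quotKerEquivOfSurjective (q_surjective I x)).symm (q I x a) =
      Submodule.Quotient.mk a := by
    rw [LinearEquiv.symm_apply_eq]
    rfl
  simp only [φ₀, LinearMap.comp_apply, LinearEquiv.coe_coe, h3]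
  rfl

/-- The map `R/I → R'/IR'` for `R' = R/x`. -/
noncomputable def ι : R ⧸ I →ₗ[R] (R ⧸ Ideal.span {x}) ⧸ I.map (Ideal.Quotient.mk (Ideal.span {x})) :=
  Submodule.liftQ I (Algebra.linearMap R _) (by
    intro a ha
    rw [LinearMap.mem_ker]
    change Ideal.Quotient.mk _ (Ideal.Quotient.mk _ a) = 0
    rw [Ideal.Quotient.eq_zero_iff_mem]
    exact Ideal.mem_map_of_mem _ ha)

lemma ι_one : ι I x 1 = 1 := by
  change ι I x (Submodule.Quotient.mk 1) = 1
  change Algebra.linearMap R _ 1 = 1
  simp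

/-- `I R/x` has finite projective dimension over `R/x` as soon as `I` does over `R`, when `x` generates a
free direct summand of `I/I²`. -/
theorem hasProjectiveDimensionLT_map (hx : x ∈ I) (hreg : x ∈ nonZeroDivisors R) (n : ℕ)
    (hpd : HasProjectiveDimensionLT (ModuleCat.of R I) n) (ψ : I →ₗ[R] R ⧸ I) (a : R) (ha : IsUnit a)
    (hψ : ψ ⟨x, hx⟩ = a • (1 : R ⧸ I)) :
    HasProjectiveDimensionLT (ModuleCat.of (R ⧸ Ideal.span {x})
      (I.map (Ideal.Quotient.mk (Ideal.span {x})))) n := by
  have hreg' : IsSMulRegular R x := by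
    intro b c hbc
    exact (mul_cancel_left_mem_nonZeroDivisors hreg).mp hbc
  have hregI : IsSMulRegular (ModuleCat.of R I) x :=
    hreg'.of_injective I.subtype I.subtype_injective
  have h1 := PdQuot.quotSMulTop_hasProjectiveDimensionLT x hreg' n (ModuleCat.of R I) hregI
  -- the retraction
  let N := QuotSMulTop x I
  obtain ⟨u, rfl⟩ := ha
  let θ : R ⧸ I →ₗ[R] N := Submodule.liftQ I (LinearMap.toSpanSingleton R N (Submodule.Quotient.mk ⟨x, hx⟩)) (by
    intro c hc
    rw [LinearMap.mem_ker, LinearMap.toSpanSingleton_apply, ← Submodule.Quotient.mk_smul,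
      Submodule.Quotient.mk_eq_zero]
    have : c • (⟨x, hx⟩ : I) = x • (⟨c, hc⟩ : I) := by
      ext
      exact mul_comm _ _
    rw [this]
    exact Submodule.smul_mem_pointwise_smul _ _ _ trivial)
  have hθ : θ 1 = Submodule.Quotient.mk ⟨x, hx⟩ := by
    change LinearMap.toSpanSingleton R N (Submodule.Quotient.mk ⟨x, hx⟩) 1 = _
    simp
  let σ : I →ₗ[R] N := Submodule.mkQ _ - (↑u⁻¹ : R) • (θ ∘ₗ ψ)
  have hσ : σ ⟨x, hx⟩ = 0 := by
    simp only [σ, LinearMap.sub_apply, LinearMap.smul_apply, LinearMap.comp_apply, hψ, map_smul, hθ,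
      smul_smul, Units.inv_mul, one_smul, Submodule.mkQ_apply, sub_self]
  obtain ⟨s, hs⟩ := exists_lift I x hx σ hσ
  let π₀ : N →ₗ[R] I.map (Ideal.Quotient.mk (Ideal.span {x})) :=
    Submodule.liftQ _ (q I x) (by
      intro b hb
      obtain ⟨c, -, rfl⟩ := (Submodule.mem_smul_pointwise_iff_exists _ _ _).mp hb
      rw [LinearMap.mem_ker]
      apply Subtype.ext
      change Ideal.Quotient.mk (Ideal.span {x}) (x * (c : R)) = 0
      rw [Ideal.Quotient.eq_zero_iff_mem]
      exact Ideal.mul_mem_right _ _ (Ideal.mem_span_singleton_self x))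
  let π : N →ₗ[R ⧸ Ideal.span {x}] I.map (Ideal.Quotient.mk (Ideal.span {x})) :=
    π₀.extendScalarsOfSurjective Ideal.Quotient.mk_surjective
  have hπθ : ∀ m, π₀ (θ m) = 0 := by
    intro m
    obtain ⟨m, rfl⟩ := Ideal.Quotient.mk_surjective m
    have : (Ideal.Quotient.mk I m) = m • (1 : R ⧸ I) := by
      rw [Algebra.smul_def, mul_one]; rfl
    rw [this, map_smul, hθ, map_smul]
    have h2 : π₀ (Submodule.Quotient.mk ⟨x, hx⟩) = 0 := by
      apply Subtype.ext
      change Ideal.Quotient.mk (Ideal.span {x}) x = 0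
      rw [Ideal.Quotient.eq_zero_iff_mem]
      exact Ideal.mem_span_singleton_self x
    rw [h2, smul_zero]
  have hcomp : π ∘ₗ s = LinearMap.id := by
    apply LinearMap.ext
    intro b
    obtain ⟨a, rfl⟩ := q_surjective I x b
    rw [LinearMap.comp_apply, hs, LinearMap.id_apply]
    change π₀ (σ a) = _
    simp only [σ, LinearMap.sub_apply, map_sub, LinearMap.smul_apply, map_smul, LinearMap.comp_apply,
      hπθ, smul_zero, sub_zero]
    rfl
  let ret : Retract (ModuleCat.of (R ⧸ Ideal.span {x}) (I.map (Ideal.Quotient.mk (Ideal.span {x}))))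
      (ModuleCat.of (R ⧸ Ideal.span {x}) (QuotSMulTop x I)) :=
    { i := ModuleCat.ofHom s
      r := ModuleCat.ofHom π
      retract := by
        rw [← ModuleCat.ofHom_comp, hcomp]
        rfl }
  exact ret.hasProjectiveDimensionLT n

end Step

/-- Stacks 0FJR, in terms of a linear map `ψ : I → (R/I)^r` and elements `f_j` with `ψ f_j = e_j`. -/
theorem exists_regularSeq (r : ℕ) : ∀ {R : Type u} [CommRing R] [IsNoetherianRing R] [IsLocalRing R]
    (I : Ideal R) (_ : I ≠ ⊤) (n : ℕ) (_ : HasProjectiveDimensionLT (ModuleCat.of R I) n)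
    (ψ : I →ₗ[R] (Fin r → R ⧸ I)) (f : Fin r → I) (_ : ∀ j, ψ (f j) = Pi.single j 1),
    ∃ x : Fin r → R, (∀ i, x i ∈ I) ∧ RingTheory.Sequence.IsRegular R (List.ofFn x) ∧
      Ideal.span (Set.range x) ⊔ I ^ 2 = Ideal.span (Set.range fun j => (f j : R)) ⊔ I ^ 2 := by
  induction r with
  | zero =>
    intro R _ _ _ I hI n hpd ψ f hf
    refine ⟨Fin.elim0, fun i => i.elim0, ?_, by simp⟩
    simpa using RingTheory.Sequence.IsRegular.nil R R
  | succ r ih =>
    intro R _ _ _ I hI n hpd ψ f hf
    have hI2 : I ^ 2 ≤ I := Ideal.pow_le_self two_ne_zero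
    have hkill : ∀ a ∈ I, ∀ m : Fin (r + 1) → R ⧸ I, a • m = 0 := by
      intro a ha m
      ext i
      simp [quot_smul_eq_zero I a ha (m i)]
    obtain ⟨x, a, b, ha, hb, hxab, hxreg⟩ := exists_nonZeroDivisor I hI n hpd
      (LinearMap.proj 0 ∘ₗ ψ) (f 0) (by simp [hf])
    have hx : x ∈ I := by
      rw [hxab]
      exact I.add_mem (I.mul_mem_left _ (f 0).2) (hI2 hb)
    have hψx : ψ ⟨x, hx⟩ = a • Pi.single 0 1 := by
      have h1 : (⟨x, hx⟩ : I) = a • f 0 + ⟨b, hI2 hb⟩ := by
        ext
        exact hxab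
      rw [h1, map_add, map_smul, hf, map_eq_zero_of_mem_sq I hkill ψ _ hb, add_zero]
    have hpd' := hasProjectiveDimensionLT_map I x hx hxreg n hpd (LinearMap.proj 0 ∘ₗ ψ) a ha (by
      simp [hψx])
    let φ : I →ₗ[R] (Fin r → (R ⧸ Ideal.span {x}) ⧸ I.map (Ideal.Quotient.mk (Ideal.span {x}))) :=
      LinearMap.pi fun j => ι I x ∘ₗ LinearMap.proj j.succ ∘ₗ ψ
    obtain ⟨ψ', hψ'⟩ := exists_lift I x hx φ (by
      ext j
      simp [φ, hψx])
    have hxm : x ∈ maximalIdeal R := le_maximalIdeal hI hx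
    have hsp : Ideal.span {x} ≠ ⊤ := by
      rw [Ne, Ideal.span_singleton_eq_top]
      exact hxm
    have : Nontrivial (R ⧸ Ideal.span {x}) := Ideal.Quotient.nontrivial_iff.mpr hsp
    have : IsNoetherianRing (R ⧸ Ideal.span {x}) :=
      isNoetherianRing_of_surjective R _ (Ideal.Quotient.mk (Ideal.span {x})) Ideal.Quotient.mk_surjective
    have : IsLocalRing (R ⧸ Ideal.span {x}) :=
      IsLocalRing.of_surjective' (Ideal.Quotient.mk (Ideal.span {x})) Ideal.Quotient.mk_surjective
    have hI' : I.map (Ideal.Quotient.mk (Ideal.span {x})) ≠ ⊤ := by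
      intro h
      have h1 := congrArg (Ideal.comap (Ideal.Quotient.mk (Ideal.span {x}))) h
      rw [Ideal.comap_map_of_surjective _ Ideal.Quotient.mk_surjective, Ideal.comap_top] at h1
      apply hI
      rw [← top_le_iff, ← h1]
      apply sup_le le_rfl
      intro c hc
      rw [Ideal.mem_comap, Ideal.mem_bot, Ideal.Quotient.eq_zero_iff_mem] at hc
      exact (Ideal.span_singleton_le_iff_mem _).mpr hx hc
    obtain ⟨x', hx'I, hx'reg, hx'span⟩ := ih (I.map (Ideal.Quotient.mk (Ideal.span {x}))) hI' n hpd' ψ'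
      (fun j => q I x (f j.succ)) (by
        intro j
        rw [hψ']
        ext k
        simp only [φ, LinearMap.pi_apply, LinearMap.comp_apply, hf, LinearMap.proj_apply]
        by_cases h : k = j
        · subst h
          simp [ι_one]
        · rw [Pi.single_eq_of_ne (by simpa using h), Pi.single_eq_of_ne h, map_zero])
    have hlift : ∀ i, ∃ y : I, Ideal.Quotient.mk (Ideal.span {x}) (y : R) = x' i := by
      intro i
      obtain ⟨y, hy⟩ := q_surjective I x ⟨x' i, hx'I i⟩
      exact ⟨y, congrArg Subtype.val hy⟩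
    choose y hy using hlift
    refine ⟨Fin.cons x (fun i => (y i : R)), ?_, ?_, ?_⟩
    · intro i
      refine Fin.cases ?_ (fun j => ?_) i
      · simpa using hx
      · simp
    · rw [List.ofFn_succ]
      simp only [Fin.cons_zero, Fin.cons_succ]
      rw [RingTheory.Sequence.isRegular_cons_iff']
      refine ⟨fun b c hbc => (mul_cancel_left_mem_nonZeroDivisors hxreg).mp hbc, ?_⟩
      have h1 : List.map (Ideal.Quotient.mk (Ideal.span {x})) (List.ofFn fun i => (y i : R)) =
          List.ofFn x' := by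
        rw [List.map_ofFn]
        congr 1
        ext i
        exact hy i
      rw [h1]
      let e : QuotSMulTop x R ≃ₗ[R ⧸ Ideal.span {x}] (R ⧸ Ideal.span {x}) :=
        (Submodule.quotEquivOfEq _ _ (by
          rw [← Submodule.ideal_span_singleton_smul, smul_eq_mul, Ideal.mul_top])).extendScalarsOfSurjective
            Ideal.Quotient.mk_surjective
      rwa [e.isRegular_congr]
    · have h2 := congrArg (Ideal.comap (Ideal.Quotient.mk (Ideal.span {x}))) hx'span
      have h3 : Ideal.span (Set.range x') = (Ideal.span (Set.range fun i => (y i : R))).map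
          (Ideal.Quotient.mk (Ideal.span {x})) := by
        rw [Ideal.map_span, ← Set.range_comp]
        congr 2
        ext i
        exact (hy i).symm
      have h4 : Ideal.span (Set.range fun j : Fin r => ((q I x (f j.succ) : _) : R ⧸ Ideal.span {x})) =
          (Ideal.span (Set.range fun i : Fin r => (f i.succ : R))).map
          (Ideal.Quotient.mk (Ideal.span {x})) := by
        rw [Ideal.map_span, ← Set.range_comp]
        rfl
      rw [h3, h4, ← Ideal.map_pow, ← Ideal.map_sup, ← Ideal.map_sup,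
        Ideal.comap_map_of_surjective _ Ideal.Quotient.mk_surjective,
        Ideal.comap_map_of_surjective _ Ideal.Quotient.mk_surjective] at h2
      have h5 : Ideal.comap (Ideal.Quotient.mk (Ideal.span {x})) ⊥ = Ideal.span {x} := by
        rw [← RingHom.ker_eq_comap_bot, Ideal.mk_ker]
      rw [h5] at h2
      have h6 : Ideal.span {x} ⊔ I ^ 2 = Ideal.span {(f 0 : R)} ⊔ I ^ 2 := by
        apply le_antisymm
        · refine sup_le ?_ le_sup_right
          rw [Ideal.span_singleton_le_iff_mem, hxab]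
          exact Submodule.add_mem_sup (Ideal.mul_mem_left _ _ (Ideal.mem_span_singleton_self _)) hb
        · refine sup_le ?_ le_sup_right
          rw [Ideal.span_singleton_le_iff_mem]
          obtain ⟨u, rfl⟩ := ha
          have : (f 0 : R) = (↑u⁻¹ : R) * x + (-(↑u⁻¹ : R)) * b := by
            rw [hxab]
            linear_combination (-(f 0 : R)) * u.inv_mul
          rw [this]
          exact Submodule.add_mem_sup (Ideal.mul_mem_left _ _ (Ideal.mem_span_singleton_self _))
            (Ideal.mul_mem_left _ _ hb)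
      have h7 : Set.range (Fin.cons x (fun i => (y i : R)) : Fin (r + 1) → R) =
          {x} ∪ Set.range (fun i => (y i : R)) := by
        rw [Fin.range_cons]; rfl
      have h8 : Set.range (fun j => (f j : R)) = {(f 0 : R)} ∪ Set.range (fun i : Fin r => (f i.succ : R)) := by
        ext z
        simp only [Set.mem_range, Set.mem_union, Set.mem_singleton_iff]
        rw [Fin.exists_fin_succ]
        constructor
        · rintro (h | h)
          · exact Or.inl h.symm
          · exact Or.inr h
        · rintro (h | h)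
          · exact Or.inl h.symm
          · exact Or.inr h
      rw [h7, h8, Ideal.span_union, Ideal.span_union]
      calc Ideal.span {x} ⊔ Ideal.span (Set.range fun i => (y i : R)) ⊔ I ^ 2
          = (Ideal.span (Set.range fun i => (y i : R)) ⊔ I ^ 2) ⊔ Ideal.span {x} := by
            rw [sup_comm (Ideal.span {x}), sup_assoc, sup_assoc, sup_comm (Ideal.span {x})]
        _ = (Ideal.span (Set.range fun i : Fin r => (f i.succ : R)) ⊔ I ^ 2) ⊔ Ideal.span {x} := h2
        _ = Ideal.span (Set.range fun i : Fin r => (f i.succ : R)) ⊔ (Ideal.span {x} ⊔ I ^ 2) := by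
            rw [sup_assoc, sup_comm (I ^ 2)]
        _ = _ := by
            rw [h6, ← sup_assoc, sup_comm (Ideal.span {(f 0 : R)})]

end Groth.Agent.Models.Vasconcelos
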